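import Cfsg.Agent.Helper15.Clifford

/-!
# Inertia groups and the Clifford correspondence

* `inertia N θ`: the inertia subgroup of `θ : N → ℂ` in `G`
* `card_conjOrbit`: the number of distinct conjugates is the index of the inertia subgroup
* `toSub`: transport of a function on `N` to `N.subgroupOf T` for `N ≤ T`
* `restrict_eq_smul_of_invariant`: for `G`-invariant `θ`, `χ_N = ⟨χ_N, θ⟩ • θ`
* `eq_of_constituent_of_degree_le`
* `clifford_correspondence_exists`
-/

set_option autoImplicit false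

namespace Cfsg.Agent.Helper15

open Cfsg
open scoped ComplexConjugate

universe u

variable {G : Type u} [Group G]

/-- The inertia subgroup of a function on a normal subgroup. -/
def inertia (N : Subgroup G) [hN : N.Normal] (θ : N → ℂ) : Subgroup G where
  carrier := {g | conjFun N g θ = θ}
  one_mem' := conjFun_one N θ
  mul_mem' := by
    intro a b ha hb
    simp only [Set.mem_ofPred_eq] at ha hb ⊢
    rw [conjFun_mul, ha, hb]
  inv_mem' := by
    intro a ha
    simp only [Set.mem_ofPred_eq] at ha ⊢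
    conv_lhs => rw [← ha]
    exact conjFun_inv_conjFun N a θ

theorem mem_inertia (N : Subgroup G) [hN : N.Normal] (θ : N → ℂ) (g : G) :
    g ∈ inertia N θ ↔ conjFun N g θ = θ := Iff.rfl

theorem mem_inertia_iff (N : Subgroup G) [hN : N.Normal] (θ : N → ℂ) (g : G) :
    g ∈ inertia N θ ↔ ∀ n : N, θ ⟨g * n * g⁻¹, hN.conj_mem (n : G) n.2 g⟩ = θ n := by
  rw [mem_inertia, funext_iff]
  rfl

theorem le_inertia (N : Subgroup G) [hN : N.Normal] {θ : N → ℂ} (hθ : IsClassFunction N θ) :
    N ≤ inertia N θ := fun _ hg => conjFun_of_mem N hθ hg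

/-- Two conjugates agree iff the conjugating elements differ by an element of the inertia group. -/
theorem conjFun_inv_eq_iff (N : Subgroup G) [hN : N.Normal] (θ : N → ℂ) (g h : G) :
    conjFun N g⁻¹ θ = conjFun N h⁻¹ θ ↔ g⁻¹ * h ∈ inertia N θ := by
  rw [mem_inertia, conjFun_mul]
  constructor
  · intro heq
    rw [heq, conjFun_conjFun_inv]
  · intro heq
    have := congrArg (conjFun N h⁻¹) heq
    rwa [conjFun_inv_conjFun] at this

/-- The number of distinct conjugates of `θ` is the index of its inertia group. -/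
theorem card_conjOrbit [Fintype G] (N : Subgroup G) [hN : N.Normal] [Fintype N] (θ : N → ℂ) :
    (conjOrbit N θ).card = (inertia N θ).index := by
  classical
  rw [Subgroup.index, Nat.card_eq_fintype_card, ← Fintype.card_coe]
  symm
  apply Fintype.card_congr
  let F : G ⧸ inertia N θ → conjOrbit N θ := fun q =>
    Quotient.liftOn' q (fun g => (⟨conjFun N g⁻¹ θ, (mem_conjOrbit N).mpr ⟨g⁻¹, rfl⟩⟩ :
      conjOrbit N θ)) (by
        intro a b hab
        apply Subtype.ext
        rw [QuotientGroup.leftRel_apply] at hab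
        exact (conjFun_inv_eq_iff N θ a b).mpr hab)
  have hF : ∀ g : G, F (QuotientGroup.mk g) = ⟨conjFun N g⁻¹ θ, (mem_conjOrbit N).mpr ⟨g⁻¹, rfl⟩⟩ :=
    fun g => rfl
  refine Equiv.ofBijective F ⟨?_, ?_⟩
  · intro q₁ q₂
    induction q₁ using QuotientGroup.induction_on with
    | H a =>
      induction q₂ using QuotientGroup.induction_on with
      | H b =>
        intro h
        rw [hF, hF] at h
        have h' := congrArg Subtype.val h
        simp only at h'
        exact QuotientGroup.eq.mpr ((conjFun_inv_eq_iff N θ a b).mp h')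
  · rintro ⟨φ, hφ⟩
    obtain ⟨g, rfl⟩ := (mem_conjOrbit N).mp hφ
    refine ⟨QuotientGroup.mk g⁻¹, ?_⟩
    rw [hF]
    apply Subtype.ext
    simp

/-- The inner product is invariant under transport along a group isomorphism. -/
theorem classInner_comp_mulEquiv {A B : Type u} [Group A] [Group B] [Fintype A] [Fintype B]
    (e : A ≃* B) (f g : B → ℂ) :
    classInner (fun a => f (e a)) (fun a => g (e a)) = classInner f g := by
  simp only [classInner_apply]
  rw [Nat.card_congr e.toEquiv]
  congr 1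
  exact Fintype.sum_equiv e.toEquiv _ _ (fun a => rfl)

section subsub

variable (N T : Subgroup G) (hNT : N ≤ T)

/-- Transport a function on `N` to `N.subgroupOf T`. -/
def toSub (θ : N → ℂ) : N.subgroupOf T → ℂ :=
  fun x => θ (Subgroup.subgroupOfEquivOfLe hNT x)

theorem toSub_apply (θ : N → ℂ) (x : N.subgroupOf T) :
    toSub N T hNT θ x = θ ⟨((x : T) : G), x.2⟩ := rfl

theorem restrict_subgroupOf (ψ : T → ℂ) :
    (fun x : N.subgroupOf T => ψ x) = toSub N T hNT (fun n : N => ψ ⟨(n : G), hNT n.2⟩) := by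
  funext x
  rfl

theorem toSub_smul (c : ℂ) (θ : N → ℂ) : toSub N T hNT (c • θ) = c • toSub N T hNT θ := rfl

theorem toSub_injective : Function.Injective (toSub N T hNT) := by
  intro θ θ' h
  funext n
  have := congrFun h ((Subgroup.subgroupOfEquivOfLe hNT).symm n)
  simpa [toSub] using this

theorem isIrrCharacter_toSub {θ : N → ℂ} (hθ : IsIrrCharacter N θ) :
    IsIrrCharacter (N.subgroupOf T) (toSub N T hNT θ) :=
  Helper80.IsIrrCharacter.comp_surjective hθ (Subgroup.subgroupOfEquivOfLe hNT).toMonoidHom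
    (Subgroup.subgroupOfEquivOfLe hNT).surjective

theorem isCharacter_toSub {θ : N → ℂ} (hθ : IsCharacter N θ) :
    IsCharacter (N.subgroupOf T) (toSub N T hNT θ) :=
  Helper80.IsCharacter.comp_hom hθ (Subgroup.subgroupOfEquivOfLe hNT).toMonoidHom

theorem classInner_toSub [Fintype N] [Fintype (N.subgroupOf T)] (θ φ : N → ℂ) :
    classInner (toSub N T hNT θ) (toSub N T hNT φ) = classInner θ φ :=
  classInner_comp_mulEquiv (Subgroup.subgroupOfEquivOfLe hNT) θ φ

theorem conjFun_toSub [hN : N.Normal] (t : T) (θ : N → ℂ) :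
    conjFun (N.subgroupOf T) t (toSub N T hNT θ) = toSub N T hNT (conjFun N (t : G) θ) := by
  funext x
  rfl

end subsub

/-- Clifford's theorem for an invariant constituent: `χ_N = ⟨χ_N, θ⟩ • θ`. -/
theorem restrict_eq_smul_of_invariant [Fintype G] (N : Subgroup G) [hN : N.Normal] [Fintype N]
    {χ : G → ℂ} (hχ : IsIrrCharacter G χ) {θ : N → ℂ} (hθ : IsIrrCharacter N θ)
    (hθχ : classInner (fun n : N => χ n) θ ≠ 0) (hinv : ∀ g : G, conjFun N g θ = θ) :
    (fun n : N => χ n) = classInner (fun n : N => χ n) θ • θ := by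
  classical
  have h := clifford_restrict N hχ hθ hθχ
  have horb : conjOrbit N θ = {θ} := by
    ext φ
    rw [mem_conjOrbit, Finset.mem_singleton]
    constructor
    · rintro ⟨g, rfl⟩; exact hinv g
    · rintro rfl; exact ⟨1, (conjFun_one N φ).symm⟩
  rw [horb, Finset.sum_singleton] at h
  exact h

/-- The degree of an irreducible character is a positive natural number. -/
theorem irr_degree_pos {χ : G → ℂ} (hχ : IsIrrCharacter G χ) : ∃ d : ℕ, 0 < d ∧ χ 1 = d := by
  obtain ⟨d, hd⟩ := Helper74.isCharacter_apply_one (Helper74.isCharacter_of_isIrr hχ)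
  refine ⟨d, Nat.pos_of_ne_zero ?_, hd⟩
  intro h0
  apply Helper80.IsIrrCharacter.map_one_ne_zero hχ
  rw [hd, h0]; simp

/-- If the irreducible character `χ` is a constituent of the character `Ψ` and
`Ψ 1 = χ 1`, then `Ψ = χ`. -/
theorem eq_of_constituent_of_degree_le [Fintype G] {Ψ χ : G → ℂ} (hΨ : IsCharacter G Ψ)
    (hχ : IsIrrCharacter G χ) (hcon : classInner Ψ χ ≠ 0) (a b : ℕ) (ha : Ψ 1 = a) (hb : χ 1 = b)
    (hab : a ≤ b) : Ψ = χ := by
  classical
  let _ := Helper74.irrFintype G
  have hdec := Helper74.isCharacter_eq_sum_irr hΨ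
  choose m hm using fun ψ : IrrCharacter G => Helper74.isCharacter_inner_irr_nat hΨ ψ
  choose d hdpos hd using fun ψ : IrrCharacter G => irr_degree_pos ψ.2
  let χ' : IrrCharacter G := ⟨χ, hχ⟩
  have hmχ : m χ' ≠ 0 := by
    intro h0; apply hcon
    have := hm χ'
    rw [h0] at this
    simpa using this
  -- degree count
  have hdeg : (a : ℂ) = ((∑ ψ : IrrCharacter G, m ψ * d ψ : ℕ) : ℂ) := by
    rw [← ha]
    conv_lhs => rw [hdec]
    push_cast
    rw [Finset.sum_apply]
    apply Finset.sum_congr rfl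
    intro ψ _
    rw [Pi.smul_apply, hm ψ, hd ψ, smul_eq_mul]
  have hdeg' : a = ∑ ψ : IrrCharacter G, m ψ * d ψ := by exact_mod_cast hdeg
  have hbd : b = d χ' := by
    have h1 : (χ' : G → ℂ) 1 = d χ' := hd χ'
    have h2 : (χ' : G → ℂ) 1 = b := hb
    rw [h1] at h2
    exact_mod_cast h2.symm
  have hsplit : ∑ ψ : IrrCharacter G, m ψ * d ψ
      = m χ' * d χ' + ∑ ψ ∈ Finset.univ.erase χ', m ψ * d ψ :=
    (Finset.add_sum_erase Finset.univ (fun ψ => m ψ * d ψ) (Finset.mem_univ χ')).symm
  have hle : m χ' * d χ' + ∑ ψ ∈ Finset.univ.erase χ', m ψ * d ψ ≤ d χ' := by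
    rw [← hsplit, ← hdeg', ← hbd]; exact hab
  have hm1 : m χ' = 1 := by
    have h1 : m χ' * d χ' ≤ d χ' := le_trans (Nat.le_add_right _ _) hle
    have h2 : m χ' ≤ 1 := by
      by_contra hgt
      push Not at hgt
      have : 2 * d χ' ≤ m χ' * d χ' := Nat.mul_le_mul_right _ hgt
      have := hdpos χ'
      omega
    omega
  have hrest : ∀ ψ : IrrCharacter G, ψ ≠ χ' → m ψ = 0 := by
    intro ψ hne
    have h2 : ∑ ψ ∈ Finset.univ.erase χ', m ψ * d ψ = 0 := by
      rw [hm1] at hle
      omega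
    have h3 := (Finset.sum_eq_zero_iff.mp h2) ψ (Finset.mem_erase.mpr ⟨hne, Finset.mem_univ _⟩)
    rcases Nat.mul_eq_zero.mp h3 with h | h
    · exact h
    · exact absurd h (hdpos ψ).ne'
  rw [hdec, Finset.sum_eq_single χ']
  · rw [hm χ', hm1]; simp [χ']
  · intro ψ _ hne
    rw [hm ψ, hrest ψ hne]; simp
  · intro hn; exact absurd (Finset.mem_univ _) hn

end Cfsg.Agent.Helper15

namespace Cfsg.Agent.Helper15

open Cfsg
open scoped ComplexConjugate

universe u

variable {G : Type u} [Group G]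

/-- Restriction from a subgroup `T` to a smaller subgroup `N ≤ T`, in the shape the statements
use. -/
def resTo (N T : Subgroup G) (hNT : N ≤ T) (ψ : T → ℂ) : N → ℂ :=
  fun n => ψ ⟨(n : G), hNT n.2⟩

theorem resTo_apply (N T : Subgroup G) (hNT : N ≤ T) (ψ : T → ℂ) (n : N) :
    resTo N T hNT ψ n = ψ ⟨(n : G), hNT n.2⟩ := rfl

theorem isCharacter_resTo (N T : Subgroup G) (hNT : N ≤ T) {ψ : T → ℂ} (hψ : IsCharacter T ψ) :
    IsCharacter N (resTo N T hNT ψ) :=
  Helper80.IsCharacter.comp_hom hψ (Subgroup.inclusion hNT)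

theorem resTo_finset_sum (N T : Subgroup G) (hNT : N ≤ T) {ι : Type*} (s : Finset ι)
    (f : ι → T → ℂ) : resTo N T hNT (∑ i ∈ s, f i) = ∑ i ∈ s, resTo N T hNT (f i) := by
  funext n
  simp [resTo, Finset.sum_apply]

theorem resTo_smul (N T : Subgroup G) (hNT : N ≤ T) (c : ℂ) (f : T → ℂ) :
    resTo N T hNT (c • f) = c • resTo N T hNT f := rfl

theorem resTo_restrict (N T : Subgroup G) (hNT : N ≤ T) (χ : G → ℂ) :
    resTo N T hNT (fun t : T => χ t) = fun n : N => χ n := rfl

/-- **Clifford correspondence (existence)**: every `χ ∈ Irr(G | θ)` is induced from some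
`ψ ∈ Irr(T | θ)`, `T` the inertia group, with the same multiplicity of `θ`. -/
theorem clifford_correspondence_exists [Fintype G] (N : Subgroup G) [hN : N.Normal] [Fintype N]
    {θ : N → ℂ} (hθ : IsIrrCharacter N θ) (T : Subgroup G) [Fintype T]
    (hT : T = inertia N θ) (hNT : N ≤ T) {χ : G → ℂ} (hχ : IsIrrCharacter G χ)
    (hcon : classInner (fun n : N => χ n) θ ≠ 0) :
    ∃ ψ : T → ℂ, IsIrrCharacter T ψ ∧ indFun T ψ = χ ∧
      classInner (fun n : N => ψ ⟨(n : G), hNT n.2⟩) θ = classInner (fun n : N => χ n) θ := by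
  classical
  let _ := Helper74.irrFintype T
  have hχc : IsCharacter G χ := Helper74.isCharacter_of_isIrr hχ
  have hχcf : IsClassFunction G χ := Helper74.isClassFunction_of_isCharacter hχc
  have hχT : IsCharacter T (fun t : T => χ t) := Helper74.isCharacter_restrict T hχc
  have hθc : IsCharacter N θ := Helper74.isCharacter_of_isIrr hθ
  -- decompose `χ_T`
  have hdec := Helper74.isCharacter_eq_sum_irr hχT
  choose m hm using fun ξ : IrrCharacter T => Helper74.isCharacter_inner_irr_nat hχT ξ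
  choose fN hfN using fun ξ : IrrCharacter T =>
    isCharacter_inner_nat (isCharacter_resTo N T hNT (Helper74.irr_isCharacter ξ)) hθc
  obtain ⟨e, he⟩ := isCharacter_inner_nat (Helper74.isCharacter_restrict N hχc) hθc
  -- `e = ∑ m_ξ f_ξ`
  have hesum : (e : ℂ) = ((∑ ξ : IrrCharacter T, m ξ * fN ξ : ℕ) : ℂ) := by
    rw [← he]
    have h1 : (fun n : N => χ n)
        = ∑ ξ : IrrCharacter T, classInner (fun t : T => χ t) (ξ : T → ℂ) •
            resTo N T hNT (ξ : T → ℂ) := by
      have := congrArg (resTo N T hNT) hdec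
      rw [resTo_restrict, resTo_finset_sum] at this
      exact this
    conv_lhs => rw [h1]
    rw [classInner_finset_sum_left]
    push_cast
    apply Finset.sum_congr rfl
    intro ξ _
    rw [classInner_smul_left, hm ξ, hfN ξ]
  have hesum' : e = ∑ ξ : IrrCharacter T, m ξ * fN ξ := by exact_mod_cast hesum
  have he0 : e ≠ 0 := by
    intro h0; apply hcon; rw [he, h0]; simp
  obtain ⟨ψ, -, hψne⟩ := Finset.exists_ne_zero_of_sum_ne_zero (hesum' ▸ he0)
  have hmψ : m ψ ≠ 0 := fun h => hψne (by rw [h, zero_mul])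
  have hfψ : fN ψ ≠ 0 := fun h => hψne (by rw [h, mul_zero])
  have hfe : fN ψ ≤ e := by
    rw [hesum']
    calc fN ψ ≤ m ψ * fN ψ := Nat.le_mul_of_pos_left _ (Nat.pos_of_ne_zero hmψ)
      _ ≤ ∑ ξ : IrrCharacter T, m ξ * fN ξ :=
        Finset.single_le_sum (f := fun ξ => m ξ * fN ξ) (fun _ _ => Nat.zero_le _)
          (Finset.mem_univ ψ)
  -- Clifford inside `T`
  let _ : Fintype (N.subgroupOf T) := Fintype.ofFinite _
  have hθ' : IsIrrCharacter (N.subgroupOf T) (toSub N T hNT θ) := isIrrCharacter_toSub N T hNT hθ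
  have hinv' : ∀ t : T, conjFun (N.subgroupOf T) t (toSub N T hNT θ) = toSub N T hNT θ := by
    intro t
    rw [conjFun_toSub]
    have : (t : G) ∈ inertia N θ := hT ▸ t.2
    rw [(mem_inertia N θ _).mp this]
  have hψres : (fun x : N.subgroupOf T => (ψ : T → ℂ) x)
      = toSub N T hNT (resTo N T hNT (ψ : T → ℂ)) := restrict_subgroupOf N T hNT _
  have hinner' : classInner (fun x : N.subgroupOf T => (ψ : T → ℂ) x) (toSub N T hNT θ)
      = fN ψ := by
    rw [hψres, classInner_toSub, hfN ψ]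
  have hne' : classInner (fun x : N.subgroupOf T => (ψ : T → ℂ) x) (toSub N T hNT θ) ≠ 0 := by
    rw [hinner']; exact_mod_cast hfψ
  have hcl := restrict_eq_smul_of_invariant (N.subgroupOf T) ψ.2 hθ' hne' hinv'
  rw [hinner', hψres, ← toSub_smul] at hcl
  have hψN : resTo N T hNT (ψ : T → ℂ) = (fN ψ : ℂ) • θ := toSub_injective N T hNT hcl
  -- degrees
  obtain ⟨d, hdpos, hd⟩ := irr_degree_pos hθ
  have hψ1 : (ψ : T → ℂ) 1 = ((fN ψ * d : ℕ) : ℂ) := by
    have := congrFun hψN 1
    rw [resTo_apply, Pi.smul_apply, hd, smul_eq_mul] at this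
    push_cast
    rw [← this]
    congr 1
  have hind1 : indFun T (ψ : T → ℂ) 1 = ((T.index * (fN ψ * d) : ℕ) : ℂ) := by
    rw [indFun_apply_one, hψ1]; push_cast; ring
  have hχ1 : χ 1 = ((e * (T.index * d) : ℕ) : ℂ) := by
    have h := congrFun (clifford_restrict N hχ hθ hcon) 1
    simp only [Pi.smul_apply, Finset.sum_apply, smul_eq_mul] at h
    have hsum : ∑ φ ∈ conjOrbit N θ, φ 1 = ((conjOrbit N θ).card : ℂ) * d := by
      rw [Finset.sum_congr rfl (fun φ hφ => ?_), Finset.sum_const, nsmul_eq_mul]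
      obtain ⟨g, rfl⟩ := (mem_conjOrbit N).mp hφ
      rw [conjFun_apply_one, hd]
    rw [hsum, card_conjOrbit, ← hT, he] at h
    have h' : χ 1 = χ ((1 : N) : G) := by simp
    rw [h', h]; push_cast; ring
  -- `χ` is a constituent of `ψ^G`
  have hconst : classInner (indFun T (ψ : T → ℂ)) χ ≠ 0 := by
    rw [frobenius_reciprocity T _ χ hχcf, ← classInner_conj_symm, hm ψ]
    simpa using hmψ
  have hle : T.index * (fN ψ * d) ≤ e * (T.index * d) := by
    calc T.index * (fN ψ * d) = fN ψ * (T.index * d) := by ring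
      _ ≤ e * (T.index * d) := Nat.mul_le_mul_right _ hfe
  have hindeq : indFun T (ψ : T → ℂ) = χ :=
    eq_of_constituent_of_degree_le (isCharacter_indFun T (Helper74.irr_isCharacter ψ)) hχ hconst
      _ _ hind1 hχ1 hle
  refine ⟨ψ, ψ.2, hindeq, ?_⟩
  -- multiplicities agree
  have hdeg : T.index * (fN ψ * d) = e * (T.index * d) := by
    have : ((T.index * (fN ψ * d) : ℕ) : ℂ) = ((e * (T.index * d) : ℕ) : ℂ) := by
      rw [← hind1, ← hχ1, hindeq]
    exact_mod_cast this
  have hTpos : 0 < T.index := Nat.pos_of_ne_zero (Subgroup.index_ne_zero_of_finite)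
  have hfe' : fN ψ = e := by
    have h1 : fN ψ * (T.index * d) = e * (T.index * d) := by rw [← hdeg]; ring
    exact Nat.eq_of_mul_eq_mul_right (Nat.mul_pos hTpos hdpos) h1
  have := hfN ψ
  rw [hfe'] at this
  rw [he]
  exact this

end Cfsg.Agent.Helper15
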