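import Mathlib
import Cfsg.Prelude.Def_Characters

/-!
# Linear characters (characters of degree one) in the `Cfsg` vocabulary

`Cfsg.IsCharacter G lam ∧ lam 1 = 1` holds iff `lam` is (the coercion of) a group homomorphism
`G →* ℂˣ`.
-/

set_option autoImplicit false

namespace Cfsg.Agent.Helper15

open Cfsg

/-- On a one-dimensional coordinate space the trace is multiplicative. -/
theorem trace_mul_fin_one (f g : (Fin 1 → ℂ) →ₗ[ℂ] (Fin 1 → ℂ)) :
    LinearMap.trace ℂ (Fin 1 → ℂ) (f * g) =
      LinearMap.trace ℂ (Fin 1 → ℂ) f * LinearMap.trace ℂ (Fin 1 → ℂ) g := by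
  rw [LinearMap.trace_eq_matrix_trace ℂ (Pi.basisFun ℂ (Fin 1)),
    LinearMap.trace_eq_matrix_trace ℂ (Pi.basisFun ℂ (Fin 1)),
    LinearMap.trace_eq_matrix_trace ℂ (Pi.basisFun ℂ (Fin 1)),
    LinearMap.toMatrix_mul]
  simp [Matrix.trace_fin_one, Matrix.mul_apply]

/-- The degree of a character (as a natural number) is the dimension of the coordinate space. -/
theorem character_one_eq {G : Type*} [Group G] {n : ℕ} (ρ : Representation ℂ G (Fin n → ℂ)) :
    ρ.character 1 = (n : ℂ) := by
  rw [Representation.char_one]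
  simp

/-- A character of degree one is multiplicative. -/
theorem linChar_mul {G : Type*} [Group G] {lam : G → ℂ} (h : IsCharacter G lam) (h1 : lam 1 = 1)
    (a b : G) : lam (a * b) = lam a * lam b := by
  obtain ⟨n, ρ, rfl⟩ := h
  rw [character_one_eq] at h1
  have hn : n = 1 := by exact_mod_cast h1
  subst hn
  unfold Representation.character
  rw [map_mul]
  exact trace_mul_fin_one _ _

/-- A character of degree one, as a monoid homomorphism into `ℂ`. -/
noncomputable def linCharHom {G : Type*} [Group G] {lam : G → ℂ} (h : IsCharacter G lam)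
    (h1 : lam 1 = 1) : G →* ℂ where
  toFun := lam
  map_one' := h1
  map_mul' := linChar_mul h h1

@[simp] theorem linCharHom_apply {G : Type*} [Group G] {lam : G → ℂ} (h : IsCharacter G lam)
    (h1 : lam 1 = 1) (g : G) : linCharHom h h1 g = lam g := rfl

/-- A character of degree one, as a homomorphism into the units of `ℂ`. -/
noncomputable def linCharUnits {G : Type*} [Group G] {lam : G → ℂ} (h : IsCharacter G lam)
    (h1 : lam 1 = 1) : G →* ℂˣ :=
  (linCharHom h h1).toHomUnits

@[simp] theorem linCharUnits_apply {G : Type*} [Group G] {lam : G → ℂ} (h : IsCharacter G lam)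
    (h1 : lam 1 = 1) (g : G) : ((linCharUnits h h1 g : ℂˣ) : ℂ) = lam g := rfl

theorem linChar_ne_zero {G : Type*} [Group G] {lam : G → ℂ} (h : IsCharacter G lam)
    (h1 : lam 1 = 1) (g : G) : lam g ≠ 0 := by
  rw [← linCharUnits_apply h h1 g]
  exact Units.ne_zero _

theorem linChar_inv {G : Type*} [Group G] {lam : G → ℂ} (h : IsCharacter G lam)
    (h1 : lam 1 = 1) (g : G) : lam g⁻¹ = (lam g)⁻¹ := by
  have := linChar_mul h h1 g g⁻¹
  rw [mul_inv_cancel, h1] at this
  exact (eq_inv_of_mul_eq_one_right this.symm)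

theorem linChar_pow {G : Type*} [Group G] {lam : G → ℂ} (h : IsCharacter G lam)
    (h1 : lam 1 = 1) (g : G) (k : ℕ) : lam (g ^ k) = lam g ^ k :=
  map_pow (linCharHom h h1) g k

theorem linChar_conj {G : Type*} [Group G] {lam : G → ℂ} (h : IsCharacter G lam)
    (h1 : lam 1 = 1) (g x : G) : lam (x * g * x⁻¹) = lam g := by
  rw [linChar_mul h h1, linChar_mul h h1, linChar_inv h h1, mul_comm (lam x), mul_assoc,
    mul_inv_cancel₀ (linChar_ne_zero h h1 x), mul_one]

/-- Every monoid hom `G →* ℂ` is a character of degree one. -/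
theorem isCharacter_of_hom {G : Type*} [Group G] (φ : G →* ℂ) :
    IsCharacter G φ ∧ φ 1 = 1 := by
  refine ⟨⟨1, ?_, ?_⟩, map_one φ⟩
  · exact
      { toFun := fun g => φ g • LinearMap.id
        map_one' := by simp; rfl
        map_mul' := fun a b => by
          ext v i
          simp [mul_smul]
          ring }
  · funext g
    show LinearMap.trace ℂ (Fin 1 → ℂ) (φ g • LinearMap.id) = φ g
    rw [map_smul, LinearMap.trace_id]
    simp

/-- The norm of a value of a linear character of a finite group is one. -/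
theorem linChar_norm {G : Type*} [Group G] [Finite G] {lam : G → ℂ} (h : IsCharacter G lam)
    (h1 : lam 1 = 1) (g : G) : ‖lam g‖ = 1 := by
  have hpow : lam g ^ orderOf g = 1 := by
    rw [← linChar_pow h h1, pow_orderOf_eq_one, h1]
  have hpos : 0 < orderOf g := orderOf_pos g
  exact Complex.norm_eq_one_of_pow_eq_one hpow hpos.ne'

/-- For a linear character of a finite group, `lam g⁻¹` is the complex conjugate of `lam g`. -/
theorem linChar_inv_eq_conj {G : Type*} [Group G] [Finite G] {lam : G → ℂ}
    (h : IsCharacter G lam) (h1 : lam 1 = 1) (g : G) :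
    lam g⁻¹ = (starRingEnd ℂ) (lam g) := by
  rw [linChar_inv h h1]
  have hn := linChar_norm h h1 g
  rw [Complex.inv_def, Complex.normSq_eq_norm_sq, hn]
  simp

end Cfsg.Agent.Helper15
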