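import Cfsg.Agent.Helper15.CliffordCorr
import Cfsg.Agent.Helper81.Schur
import Cfsg.Agent.Helper80.Linear
import Cfsg.Agent.S0856

/-!
# Characters with a normal subgroup in the kernel; Gallagher's theorem

* `isIrrCharacter_one`: the principal character is irreducible
* `sum_normal_translate_eq_zero`: for `ξ ∈ Irr G` with `⟨ξ_N, 1_N⟩ = 0`, `∑_{n ∈ N} ξ (n x) = 0`
* `normal_mul_of_inner_one_ne_zero`: for `ξ ∈ Irr G` with `⟨ξ_N, 1_N⟩ ≠ 0`, `ξ (n g) = ξ g`
* `gallagher_bijOn`: if `χ ∈ Irr G` restricts irreducibly to `N ⊴ G`, then `β ↦ β χ` is a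
  bijection from `Irr(G | 1_N)` onto `Irr(G | χ_N)`
-/

set_option autoImplicit false

namespace Cfsg.Agent.Helper15

open Cfsg
open scoped ComplexConjugate

universe u

variable {G : Type u} [Group G]

/-- The principal character is irreducible. -/
theorem isIrrCharacter_one (G : Type u) [Group G] : IsIrrCharacter G (fun _ => (1 : ℂ)) := by
  have := Helper80.isIrrCharacter_of_monoidHom (1 : G →* ℂˣ)
  simpa using this

theorem isIrrCharacter_one' (G : Type u) [Group G] : IsIrrCharacter G (1 : G → ℂ) :=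
  isIrrCharacter_one G

section kernel

variable [Fintype G] (N : Subgroup G) [hN : N.Normal] [Fintype N]

/-- If the irreducible character `ξ` of `G` does not lie over `1_N`, its sums over the cosets of
`N` vanish. -/
theorem sum_normal_translate_eq_zero {ξ : G → ℂ} (hξ : IsIrrCharacter G ξ)
    (h0 : classInner (fun n : N => ξ n) (fun _ => (1 : ℂ)) = 0) (x : G) :
    ∑ n : N, ξ ((n : G) * x) = 0 := by
  classical
  obtain ⟨k, τ, hirr, rfl⟩ := hξ
  have : τ.IsIrreducible := hirr
  let P : (Fin k → ℂ) →ₗ[ℂ] (Fin k → ℂ) := ∑ n : N, τ (n : G)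
  have hcomm : ∀ g : G, P ∘ₗ τ g = τ g ∘ₗ P := by
    intro g
    show P * τ g = τ g * P
    simp only [P, Finset.sum_mul, Finset.mul_sum]
    symm
    apply Fintype.sum_equiv (MulAut.conjNormal g : N ≃* N).toEquiv
    intro n
    have h1 : (((MulAut.conjNormal g : N ≃* N).toEquiv n : N) : G) = g * n * g⁻¹ := by
      simp [MulAut.conjNormal_apply]
    rw [h1, ← map_mul, ← map_mul]
    congr 1
    group
  obtain ⟨c, hc⟩ := Helper81.schur_scalar τ P hcomm
  have hkpos := Helper81.finrank_pos_of_irreducible τ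
  have htr : LinearMap.trace ℂ (Fin k → ℂ) P = ∑ n : N, τ.character (n : G) := by
    simp only [P, map_sum, Representation.character]
  have hsum0 : ∑ n : N, τ.character (n : G) = 0 := by
    rw [classInner_apply] at h0
    have hNne : (Nat.card N : ℂ)⁻¹ ≠ 0 := by
      apply inv_ne_zero
      have : Nat.card N ≠ 0 := Nat.card_pos.ne'
      exact_mod_cast this
    rcases mul_eq_zero.mp h0 with h | h
    · exact absurd h hNne
    · simpa using h
  have hc0 : c = 0 := by
    have h1 : LinearMap.trace ℂ (Fin k → ℂ) P = c * (Module.finrank ℂ (Fin k → ℂ) : ℂ) := by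
      rw [hc]; simp
    rw [htr, hsum0] at h1
    have hne : (Module.finrank ℂ (Fin k → ℂ) : ℂ) ≠ 0 := by exact_mod_cast hkpos.ne'
    rcases mul_eq_zero.mp h1.symm with h | h
    · exact h
    · exact absurd h hne
  have hP0 : P = 0 := by rw [hc, hc0, zero_smul]
  have : ∑ n : N, τ.character ((n : G) * x) = LinearMap.trace ℂ (Fin k → ℂ) (P * τ x) := by
    simp only [P, Finset.sum_mul, map_sum, Representation.character, map_mul]
  rw [this, hP0]
  simp

/-- If the irreducible character `ξ` of `G` lies over `1_N`, then `N` is in its kernel. -/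
theorem normal_mul_of_inner_one_ne_zero {ξ : G → ℂ} (hξ : IsIrrCharacter G ξ)
    (h0 : classInner (fun n : N => ξ n) (fun _ => (1 : ℂ)) ≠ 0) (n : N) (g : G) :
    ξ ((n : G) * g) = ξ g := by
  have hξc := Helper74.isCharacter_of_isIrr hξ
  have hinv : ∀ g : G, conjFun N g (fun _ : N => (1 : ℂ)) = fun _ => 1 := fun _ => rfl
  have hres := restrict_eq_smul_of_invariant N hξ (isIrrCharacter_one N) h0 hinv
  have h1 : ∀ m : N, ξ (m : G) = ξ 1 := by
    intro m
    have a := congrFun hres m
    have b := congrFun hres 1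
    simp only [Pi.smul_apply, smul_eq_mul, mul_one] at a b
    rw [a, ← b]; simp
  have hcf := Helper74.isClassFunction_of_isCharacter hξc
  -- `ξ (n g) = ξ (g n') ` with `n' = g⁻¹ n g`
  have h2 : ξ ((n : G) * g) = ξ (g * (g⁻¹ * (n : G) * g)) := by
    congr 1; group
  rw [h2]
  apply Helper80.IsCharacter.mul_mem_ker hξc
  have hmem : g⁻¹ * (n : G) * g ∈ N := by
    have := hN.conj_mem (n : G) n.2 g⁻¹
    simpa using this
  exact h1 ⟨_, hmem⟩

end kernel

/-- **Gallagher's theorem** (as a bijection): if `χ ∈ Irr G` restricts irreducibly to `N ⊴ G`,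
then `β ↦ β * χ` maps `Irr(G | 1_N)` bijectively onto `Irr(G | χ_N)`. -/
theorem gallagher_bijOn [Fintype G] (N : Subgroup G) [hN : N.Normal] {χ : G → ℂ}
    (hχ : IsIrrCharacter G χ) (hχN : IsIrrCharacter N (fun n : N => χ n)) :
    Set.BijOn (fun β : G → ℂ => β * χ)
      {β : G → ℂ | IsIrrCharacter G β ∧ classInner (indFun N (fun _ => (1 : ℂ))) β ≠ 0}
      {ψ : G → ℂ | IsIrrCharacter G ψ ∧ classInner (indFun N (fun n : N => χ n)) ψ ≠ 0} := by
  have hχcf := Helper74.isClassFunction_of_isCharacter (Helper74.isCharacter_of_isIrr hχ)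
  have h1 : ((fun _ => (1 : ℂ)) : N → ℂ) * (fun n : N => χ n) = fun n : N => χ n := by
    funext n; simp
  have := Cfsg.Agent.S0856.result N (fun _ => (1 : ℂ)) (fun n : N => χ n) (isIrrCharacter_one N)
    hχN (fun _ _ => rfl) (fun g n => hχcf n g) (by rw [h1]; exact hχN) χ hχ (fun _ => rfl)
  rw [h1] at this
  exact this

end Cfsg.Agent.Helper15
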