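import Cfsg.Agent.Helper15.IndChar
import Cfsg.Agent.Helper80.Pullback

/-!
# Conjugate characters of a normal subgroup; induction from a normal subgroup

For `N ⊴ G`, `g : G` and `θ : N → ℂ`, `conjFun N g θ` is `n ↦ θ (g n g⁻¹)`; this is the shape in
which the statements phrase `G`-invariance:
`∀ g n, ϑ ⟨g * n * g⁻¹, hN.conj_mem (n : G) n.2 g⟩ = ϑ n` is `∀ g n, conjFun N g ϑ n = ϑ n`.
-/

set_option autoImplicit false

namespace Cfsg.Agent.Helper15

open Cfsg
open scoped ComplexConjugate

universe u

variable {G : Type u} [Group G]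

/-- The conjugate function `θ^g : n ↦ θ (g n g⁻¹)` on a normal subgroup. -/
def conjFun (N : Subgroup G) [hN : N.Normal] (g : G) (θ : N → ℂ) : N → ℂ :=
  fun n => θ ⟨g * n * g⁻¹, hN.conj_mem (n : G) n.2 g⟩

section basic

variable (N : Subgroup G) [hN : N.Normal]

theorem conjFun_apply (g : G) (θ : N → ℂ) (n : N) :
    conjFun N g θ n = θ ⟨g * n * g⁻¹, hN.conj_mem (n : G) n.2 g⟩ := rfl

theorem conjFun_eq_comp (g : G) (θ : N → ℂ) :
    conjFun N g θ = fun n => θ (MulAut.conjNormal g n) := by
  funext n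
  rw [conjFun_apply]
  congr 1

@[simp] theorem conjFun_one (θ : N → ℂ) : conjFun N 1 θ = θ := by
  funext n
  rw [conjFun_apply]
  congr 1
  apply Subtype.ext
  simp

theorem conjFun_mul (g h : G) (θ : N → ℂ) :
    conjFun N (g * h) θ = conjFun N h (conjFun N g θ) := by
  funext n
  simp only [conjFun_apply]
  congr 1
  apply Subtype.ext
  simp [mul_assoc]

theorem conjFun_inv_conjFun (g : G) (θ : N → ℂ) : conjFun N g⁻¹ (conjFun N g θ) = θ := by
  rw [← conjFun_mul, mul_inv_cancel, conjFun_one]

theorem conjFun_conjFun_inv (g : G) (θ : N → ℂ) : conjFun N g (conjFun N g⁻¹ θ) = θ := by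
  rw [← conjFun_mul, inv_mul_cancel, conjFun_one]

theorem conjFun_injective (g : G) : Function.Injective (conjFun N g) := by
  intro θ θ' h
  rw [← conjFun_inv_conjFun N g θ, h, conjFun_inv_conjFun]

@[simp] theorem conjFun_apply_one (g : G) (θ : N → ℂ) : conjFun N g θ 1 = θ 1 := by
  rw [conjFun_apply]
  congr 1
  apply Subtype.ext
  simp

theorem conjFun_add (g : G) (θ θ' : N → ℂ) :
    conjFun N g (θ + θ') = conjFun N g θ + conjFun N g θ' := rfl

theorem conjFun_smul (g : G) (c : ℂ) (θ : N → ℂ) :
    conjFun N g (c • θ) = c • conjFun N g θ := rfl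

theorem conjFun_mul_fun (g : G) (θ θ' : N → ℂ) :
    conjFun N g (θ * θ') = conjFun N g θ * conjFun N g θ' := rfl

theorem conjFun_finset_sum {ι : Type*} (s : Finset ι) (g : G) (θ : ι → N → ℂ) :
    conjFun N g (∑ i ∈ s, θ i) = ∑ i ∈ s, conjFun N g (θ i) := by
  funext n
  simp [conjFun_apply, Finset.sum_apply]

/-- The restriction of a class function of `G` to `N` is `G`-invariant. -/
theorem conjFun_restrict {χ : G → ℂ} (hχ : IsClassFunction G χ) (g : G) :
    conjFun N g (fun n : N => χ n) = fun n : N => χ n := by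
  funext n
  rw [conjFun_apply]
  exact hχ n g

/-- An element of `N` fixes every class function of `N`. -/
theorem conjFun_of_mem {θ : N → ℂ} (hθ : IsClassFunction N θ) {g : G} (hg : g ∈ N) :
    conjFun N g θ = θ := by
  funext n
  rw [conjFun_apply]
  have := hθ n ⟨g, hg⟩
  rw [← this]
  congr 1

theorem isCharacter_conjFun {θ : N → ℂ} (hθ : IsCharacter N θ) (g : G) :
    IsCharacter N (conjFun N g θ) := by
  rw [conjFun_eq_comp]
  exact Helper80.IsCharacter.comp_hom hθ (MulAut.conjNormal g : N ≃* N).toMonoidHom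

theorem isIrrCharacter_conjFun {θ : N → ℂ} (hθ : IsIrrCharacter N θ) (g : G) :
    IsIrrCharacter N (conjFun N g θ) := by
  rw [conjFun_eq_comp]
  exact Helper80.IsIrrCharacter.comp_surjective hθ (MulAut.conjNormal g : N ≃* N).toMonoidHom
    (MulAut.conjNormal g : N ≃* N).surjective

theorem isClassFunction_conjFun {θ : N → ℂ} (hθ : IsClassFunction N θ) (g : G) :
    IsClassFunction N (conjFun N g θ) := by
  intro n h
  simp only [conjFun_apply]
  have := hθ ⟨g * n * g⁻¹, hN.conj_mem (n : G) n.2 g⟩ ⟨g * h * g⁻¹, hN.conj_mem (h : G) h.2 g⟩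
  rw [← this]
  congr 1
  apply Subtype.ext
  simp [mul_assoc]

/-- Sums over `N` are invariant under conjugation by `g`. -/
theorem sum_conj_normal [Fintype N] (g : G) (F : N → ℂ) :
    ∑ n : N, F ⟨g * n * g⁻¹, hN.conj_mem (n : G) n.2 g⟩ = ∑ n : N, F n := by
  apply Fintype.sum_equiv (MulAut.conjNormal g : N ≃* N).toEquiv
  intro n
  congr 1

theorem classInner_conjFun_conjFun [Fintype N] (g : G) (θ φ : N → ℂ) :
    classInner (conjFun N g θ) (conjFun N g φ) = classInner θ φ := by
  simp only [classInner_apply, conjFun_apply]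
  congr 1
  exact sum_conj_normal N g (fun n => θ n * conj (φ n))

theorem classInner_conjFun_left [Fintype N] (g : G) (θ φ : N → ℂ) :
    classInner (conjFun N g θ) φ = classInner θ (conjFun N g⁻¹ φ) := by
  rw [← classInner_conjFun_conjFun N g⁻¹, conjFun_inv_conjFun]

theorem classInner_conjFun_right [Fintype N] (g : G) (θ φ : N → ℂ) :
    classInner θ (conjFun N g φ) = classInner (conjFun N g⁻¹ θ) φ := by
  rw [← classInner_conjFun_conjFun N g⁻¹, conjFun_inv_conjFun]

/-- `⟨χ_N, θ^g⟩ = ⟨χ_N, θ⟩` for a class function `χ` of `G`. -/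
theorem classInner_restrict_conjFun [Fintype N] {χ : G → ℂ} (hχ : IsClassFunction G χ) (g : G)
    (θ : N → ℂ) :
    classInner (fun n : N => χ n) (conjFun N g θ) = classInner (fun n : N => χ n) θ := by
  rw [classInner_conjFun_right, conjFun_restrict N hχ]

end basic

section induction

variable [Fintype G] (N : Subgroup G) [hN : N.Normal]

/-- A function induced from a normal subgroup vanishes outside it. -/
theorem indFun_normal_of_not_mem (θ : N → ℂ) {g : G} (hg : g ∉ N) : indFun N θ g = 0 := by
  rw [indFun_apply]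
  have : ∀ x : G, extendByZero N θ (x⁻¹ * g * x) = 0 := by
    intro x
    apply extendByZero_of_not_mem
    intro hmem
    apply hg
    have := hN.conj_mem _ hmem x
    simpa [mul_assoc] using this
  simp [this]

/-- On a normal subgroup, the induced function is the average of the conjugates. -/
theorem indFun_normal_apply (θ : N → ℂ) (n : N) :
    indFun N θ (n : G) = (Nat.card N : ℂ)⁻¹ * ∑ g : G, conjFun N g θ n := by
  rw [indFun_apply']
  congr 1
  apply Finset.sum_congr rfl
  intro x _
  rw [conjFun_apply, extendByZero_of_mem N θ (hN.conj_mem (n : G) n.2 x)]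

theorem indFun_normal_restrict (θ : N → ℂ) :
    (fun n : N => indFun N θ (n : G)) = (Nat.card N : ℂ)⁻¹ • ∑ g : G, conjFun N g θ := by
  funext n
  rw [indFun_normal_apply]
  simp [Finset.sum_apply]

/-- The degree of an induced function. -/
theorem indFun_apply_one (H : Subgroup G) (θ : H → ℂ) :
    indFun H θ 1 = (H.index : ℂ) * θ 1 := by
  rw [indFun_apply]
  have : ∀ x : G, extendByZero H θ (x⁻¹ * 1 * x) = θ 1 := by
    intro x
    have h1 : x⁻¹ * 1 * x = ((1 : H) : G) := by simp
    rw [h1, extendByZero_coe]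
  simp only [this, Finset.sum_const, Finset.card_univ, nsmul_eq_mul]
  rw [← Nat.card_eq_fintype_card, ← H.card_mul_index]
  have hH : (Nat.card H : ℂ) ≠ 0 := by
    have : Nat.card H ≠ 0 := Nat.card_pos.ne'
    exact_mod_cast this
  push_cast
  field_simp

end induction

end Cfsg.Agent.Helper15
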