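import Cfsg.Agent.Helper15.IndFun
import Cfsg.Agent.Helper74.CharComplete

/-!
# Induced characters are characters

Built on helper74's orthonormality / completeness (`Cfsg.Agent.Helper74`) and Frobenius
reciprocity for class functions (`Cfsg.Agent.Helper15.frobenius_reciprocity`).

* `isCharacter_inner_nat`: the inner product of two characters is a natural number
* `isCharacter_of_classFunction_of_inner_nat`: a class function all of whose inner products with
  irreducible characters are natural numbers is a character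
* `isCharacter_indFun`: `Cfsg.indFun H φ` is a character of `G` when `φ` is a character of `H`
* `isIrrCharacter_iff_inner_self`: a character is irreducible iff its norm is one
-/

set_option autoImplicit false

namespace Cfsg.Agent.Helper15

open Cfsg
open scoped ComplexConjugate

universe u

variable {G : Type u} [Group G]

/-- The inner product of two characters is a natural number. -/
theorem isCharacter_inner_nat [Fintype G] {χ ψ : G → ℂ} (hχ : IsCharacter G χ)
    (hψ : IsCharacter G ψ) : ∃ m : ℕ, classInner χ ψ = m := by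
  have hmem := Helper74.isCharacter_mem_irrSpanNat hψ
  induction hmem using AddSubmonoid.closure_induction with
  | mem x hx => exact Helper74.isCharacter_inner_irr_nat hχ ⟨x, hx⟩
  | zero => exact ⟨0, by simp⟩
  | add x y hx hy ihx ihy =>
    obtain ⟨a, ha⟩ := ihx (Helper74.isCharacter_of_mem_irrSpanNat hx)
    obtain ⟨b, hb⟩ := ihy (Helper74.isCharacter_of_mem_irrSpanNat hy)
    exact ⟨a + b, by rw [classInner_add_right, ha, hb]; push_cast; ring⟩

/-- A class function whose inner products with all irreducible characters are natural numbers is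
a character. -/
theorem isCharacter_of_classFunction_of_inner_nat [Fintype G] {f : G → ℂ}
    (hf : IsClassFunction G f)
    (hnat : ∀ ψ : IrrCharacter G, ∃ m : ℕ, classInner f (ψ : G → ℂ) = m) :
    IsCharacter G f := by
  classical
  let _ := Helper74.irrFintype G
  apply Helper74.isCharacter_of_mem_irrSpanNat
  rw [Helper74.classFunction_eq_sum_irr hf]
  apply sum_mem
  intro ψ _
  obtain ⟨m, hm⟩ := hnat ψ
  rw [hm]
  have : ((m : ℂ) • (ψ : G → ℂ)) = m • (ψ : G → ℂ) := by
    rw [Nat.cast_smul_eq_nsmul]
  rw [this]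
  have hψmem : (ψ : G → ℂ) ∈ Helper74.irrSpanNat G :=
    AddSubmonoid.subset_closure (show (ψ : G → ℂ) ∈ {ψ | IsIrrCharacter G ψ} from ψ.2)
  exact nsmul_mem hψmem m

/-- **Induced characters are characters.** -/
theorem isCharacter_indFun [Fintype G] (H : Subgroup G) {φ : H → ℂ} (hφ : IsCharacter H φ) :
    IsCharacter G (indFun H φ) := by
  classical
  let _ : Fintype H := Fintype.ofFinite H
  apply isCharacter_of_classFunction_of_inner_nat (isClassFunction_indFun H φ)
  intro ψ
  rw [frobenius_reciprocity H φ (ψ : G → ℂ) (Helper74.irr_isClassFunction ψ)]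
  exact isCharacter_inner_nat hφ (Helper74.isCharacter_restrict H (Helper74.irr_isCharacter ψ))

/-- The norm of a nonzero character is a positive natural number; here: the norm of a character
is `∑ m_ψ ^ 2` — we only record that a character of norm one is irreducible. -/
theorem isIrrCharacter_of_inner_self_eq_one [Fintype G] {χ : G → ℂ} (hχ : IsCharacter G χ)
    (h1 : classInner χ χ = 1) : IsIrrCharacter G χ := by
  classical
  let _ := Helper74.irrFintype G
  have hdec := Helper74.isCharacter_eq_sum_irr hχ
  -- multiplicities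
  have hm : ∀ ψ : IrrCharacter G, ∃ m : ℕ, classInner χ (ψ : G → ℂ) = m :=
    fun ψ => Helper74.isCharacter_inner_irr_nat hχ ψ
  choose m hm using hm
  -- the norm is the sum of the squares of the multiplicities
  have hnorm : classInner χ χ = ∑ ψ : IrrCharacter G, ((m ψ : ℂ)) ^ 2 := by
    have h0 : classInner χ χ
        = classInner χ (∑ ψ : IrrCharacter G, classInner χ (ψ : G → ℂ) • (ψ : G → ℂ)) :=
      congrArg (classInner χ) hdec
    rw [h0, classInner_finset_sum_right]
    apply Finset.sum_congr rfl
    intro ψ _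
    rw [classInner_smul_right, hm ψ]
    simp [sq]
  rw [h1] at hnorm
  have hnat : (1 : ℕ) = ∑ ψ : IrrCharacter G, (m ψ) ^ 2 := by
    have : ((1 : ℕ) : ℂ) = ((∑ ψ : IrrCharacter G, (m ψ) ^ 2 : ℕ) : ℂ) := by
      push_cast
      exact hnorm
    exact_mod_cast this
  -- exactly one multiplicity is one and the others vanish
  have hex : ∃ ψ₀ : IrrCharacter G, m ψ₀ ≠ 0 := by
    by_contra hcon
    push Not at hcon
    simp [hcon] at hnat
  obtain ⟨ψ₀, hψ₀⟩ := hex
  have hsplit : ∑ ψ : IrrCharacter G, (m ψ) ^ 2
      = (m ψ₀) ^ 2 + ∑ ψ ∈ Finset.univ.erase ψ₀, (m ψ) ^ 2 := by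
    exact (Finset.add_sum_erase Finset.univ (fun ψ => m ψ ^ 2) (Finset.mem_univ ψ₀)).symm
  have hψ₀1 : m ψ₀ = 1 := by
    have h2 : (m ψ₀) ^ 2 ≤ 1 := by
      rw [hnat, hsplit]; exact Nat.le_add_right _ _
    have h3 : m ψ₀ ≤ 1 := by
      by_contra hgt
      push Not at hgt
      have : 2 ^ 2 ≤ (m ψ₀) ^ 2 := Nat.pow_le_pow_left hgt 2
      omega
    omega
  have hrest : ∀ ψ : IrrCharacter G, ψ ≠ ψ₀ → m ψ = 0 := by
    intro ψ hne
    have h2 : ∑ ψ ∈ Finset.univ.erase ψ₀, (m ψ) ^ 2 = 0 := by
      rw [hsplit, hψ₀1] at hnat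
      omega
    have h3 := (Finset.sum_eq_zero_iff.mp h2) ψ (Finset.mem_erase.mpr ⟨hne, Finset.mem_univ _⟩)
    exact pow_eq_zero_iff (two_ne_zero) |>.mp h3
  have : χ = (ψ₀ : G → ℂ) := by
    rw [hdec]
    rw [Finset.sum_eq_single ψ₀]
    · rw [hm ψ₀, hψ₀1]; simp
    · intro ψ _ hne
      rw [hm ψ, hrest ψ hne]; simp
    · intro hn; exact absurd (Finset.mem_univ _) hn
  rw [this]
  exact ψ₀.2

theorem isIrrCharacter_iff_inner_self [Fintype G] {χ : G → ℂ} (hχ : IsCharacter G χ) :
    IsIrrCharacter G χ ↔ classInner χ χ = 1 :=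
  ⟨fun h => Helper74.irr_inner_self ⟨χ, h⟩, isIrrCharacter_of_inner_self_eq_one hχ⟩

end Cfsg.Agent.Helper15
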