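import Cfsg.Agent.Helper15.ConjChar

/-!
# Clifford's theorem

* `classInner_eq_sum_irr`: Parseval for class functions
* `inner_ne_zero_of_common_constituent`: two characters sharing an irreducible constituent are not
  orthogonal
* `exists_conj_of_constituents`: the irreducible constituents of `χ_N` (`χ ∈ Irr G`, `N ⊴ G`) are
  `G`-conjugate
* `clifford_restrict`: `χ_N = e • ∑ (distinct conjugates of θ)`
-/

set_option autoImplicit false

namespace Cfsg.Agent.Helper15

open Cfsg
open scoped ComplexConjugate

universe u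

variable {G : Type u} [Group G]

/-- Parseval: the inner product of a class function `A` with `B` in terms of multiplicities. -/
theorem classInner_eq_sum_irr [Fintype G] [Fintype (IrrCharacter G)] {A : G → ℂ}
    (hA : IsClassFunction G A) (B : G → ℂ) :
    classInner A B
      = ∑ ψ : IrrCharacter G, classInner A (ψ : G → ℂ) * conj (classInner B (ψ : G → ℂ)) := by
  have h0 : classInner A B
      = classInner (∑ ψ : IrrCharacter G, classInner A (ψ : G → ℂ) • (ψ : G → ℂ)) B :=
    congrArg (fun f => classInner f B) (Helper74.classFunction_eq_sum_irr hA)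
  rw [h0, classInner_finset_sum_left]
  apply Finset.sum_congr rfl
  intro ψ _
  rw [classInner_smul_left, classInner_conj_symm]

/-- Two characters with a common irreducible constituent are not orthogonal. -/
theorem inner_ne_zero_of_common_constituent [Fintype G] {A B : G → ℂ} (hA : IsCharacter G A)
    (hB : IsCharacter G B) (χ : IrrCharacter G) (hAχ : classInner A (χ : G → ℂ) ≠ 0)
    (hBχ : classInner B (χ : G → ℂ) ≠ 0) : classInner A B ≠ 0 := by
  classical
  let _ := Helper74.irrFintype G
  rw [classInner_eq_sum_irr (Helper74.isClassFunction_of_isCharacter hA)]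
  choose a ha using fun ψ : IrrCharacter G => Helper74.isCharacter_inner_irr_nat hA ψ
  choose b hb using fun ψ : IrrCharacter G => Helper74.isCharacter_inner_irr_nat hB ψ
  have hsum : ∑ ψ : IrrCharacter G, classInner A (ψ : G → ℂ) * conj (classInner B (ψ : G → ℂ))
      = ((∑ ψ : IrrCharacter G, a ψ * b ψ : ℕ) : ℂ) := by
    push_cast
    apply Finset.sum_congr rfl
    intro ψ _
    rw [ha ψ, hb ψ]
    simp
  rw [hsum]
  have haχ : a χ ≠ 0 := by
    intro h; apply hAχ; rw [ha χ, h]; simp
  have hbχ : b χ ≠ 0 := by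
    intro h; apply hBχ; rw [hb χ, h]; simp
  have hpos : 0 < ∑ ψ : IrrCharacter G, a ψ * b ψ := by
    apply Finset.sum_pos'
    · intro ψ _; exact Nat.zero_le _
    · exact ⟨χ, Finset.mem_univ _, Nat.mul_pos (Nat.pos_of_ne_zero haχ) (Nat.pos_of_ne_zero hbχ)⟩
  exact_mod_cast hpos.ne'

section clifford

variable [Fintype G] (N : Subgroup G) [hN : N.Normal] [Fintype N]

/-- If `φ` is not a conjugate of `θ` (both irreducible), the functions induced from them are
orthogonal. -/
theorem classInner_indFun_indFun_eq_zero {θ φ : N → ℂ} (hθ : IsIrrCharacter N θ)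
    (hφ : IsIrrCharacter N φ) (hne : ∀ g : G, φ ≠ conjFun N g θ) :
    classInner (indFun N θ) (indFun N φ) = 0 := by
  rw [frobenius_reciprocity' N φ (indFun N θ) (isClassFunction_indFun N θ)]
  rw [indFun_normal_restrict, classInner_smul_left, classInner_finset_sum_left]
  have : ∀ g : G, classInner (conjFun N g θ) φ = 0 := by
    intro g
    have h1 := isIrrCharacter_conjFun N hθ g
    exact Helper74.irr_inner_ne (χ := ⟨conjFun N g θ, h1⟩) (ψ := ⟨φ, hφ⟩)
      (fun h => hne g (congrArg Subtype.val h).symm)
  simp [this]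

/-- **Clifford, part 1**: the irreducible constituents of the restriction of an irreducible
character to a normal subgroup are conjugate. -/
theorem exists_conj_of_constituents {χ : G → ℂ} (hχ : IsIrrCharacter G χ) {θ φ : N → ℂ}
    (hθ : IsIrrCharacter N θ) (hφ : IsIrrCharacter N φ)
    (hθχ : classInner (fun n : N => χ n) θ ≠ 0) (hφχ : classInner (fun n : N => χ n) φ ≠ 0) :
    ∃ g : G, φ = conjFun N g θ := by
  by_contra hcon
  push Not at hcon
  have h0 := classInner_indFun_indFun_eq_zero N hθ hφ hcon
  have hχcf : IsClassFunction G χ :=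
    Helper74.isClassFunction_of_isCharacter (Helper74.isCharacter_of_isIrr hχ)
  have h1 : classInner (indFun N θ) χ ≠ 0 := by
    rw [frobenius_reciprocity N θ χ hχcf, ← classInner_conj_symm]
    simpa using hθχ
  have h2 : classInner (indFun N φ) χ ≠ 0 := by
    rw [frobenius_reciprocity N φ χ hχcf, ← classInner_conj_symm]
    simpa using hφχ
  exact inner_ne_zero_of_common_constituent
    (isCharacter_indFun N (Helper74.isCharacter_of_isIrr hθ))
    (isCharacter_indFun N (Helper74.isCharacter_of_isIrr hφ)) ⟨χ, hχ⟩ h1 h2 h0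

open Classical in
/-- The `G`-orbit of a function on `N`, as a finset. -/
noncomputable def conjOrbit (θ : N → ℂ) : Finset (N → ℂ) :=
  Finset.univ.image (fun g : G => conjFun N g θ)

theorem mem_conjOrbit {θ φ : N → ℂ} : φ ∈ conjOrbit N θ ↔ ∃ g : G, φ = conjFun N g θ := by
  classical
  unfold conjOrbit
  rw [Finset.mem_image]
  constructor
  · rintro ⟨g, _, rfl⟩; exact ⟨g, rfl⟩
  · rintro ⟨g, rfl⟩; exact ⟨g, Finset.mem_univ _, rfl⟩

theorem self_mem_conjOrbit (θ : N → ℂ) : θ ∈ conjOrbit N θ :=
  (mem_conjOrbit N).mpr ⟨1, (conjFun_one N θ).symm⟩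

theorem isIrrCharacter_of_mem_conjOrbit {θ φ : N → ℂ} (hθ : IsIrrCharacter N θ)
    (hφ : φ ∈ conjOrbit N θ) : IsIrrCharacter N φ := by
  obtain ⟨g, rfl⟩ := (mem_conjOrbit N).mp hφ
  exact isIrrCharacter_conjFun N hθ g

/-- **Clifford's theorem**: `χ_N = e • ∑ (distinct conjugates of θ)` with `e = ⟨χ_N, θ⟩`. -/
theorem clifford_restrict {χ : G → ℂ} (hχ : IsIrrCharacter G χ) {θ : N → ℂ}
    (hθ : IsIrrCharacter N θ) (hθχ : classInner (fun n : N => χ n) θ ≠ 0) :
    (fun n : N => χ n) = classInner (fun n : N => χ n) θ • ∑ φ ∈ conjOrbit N θ, φ := by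
  classical
  let _ := Helper74.irrFintype N
  have hχc : IsCharacter G χ := Helper74.isCharacter_of_isIrr hχ
  have hχcf : IsClassFunction G χ := Helper74.isClassFunction_of_isCharacter hχc
  have hres : IsCharacter N (fun n : N => χ n) := Helper74.isCharacter_restrict N hχc
  have hdec := Helper74.isCharacter_eq_sum_irr hres
  -- the coefficient of `φ` is `e` on the orbit and `0` off it
  have hcoef : ∀ φ : IrrCharacter N, classInner (fun n : N => χ n) (φ : N → ℂ)
      = if (φ : N → ℂ) ∈ conjOrbit N θ then classInner (fun n : N => χ n) θ else 0 := by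
    intro φ
    split_ifs with hmem
    · obtain ⟨g, hg⟩ := (mem_conjOrbit N).mp hmem
      rw [hg, classInner_restrict_conjFun N hχcf]
    · by_contra hne
      exact hmem ((mem_conjOrbit N).mpr (exists_conj_of_constituents N hχ hθ φ.2 hθχ hne))
  have himage : (Finset.univ.filter (fun φ : IrrCharacter N => (φ : N → ℂ) ∈ conjOrbit N θ)).image
      Subtype.val = conjOrbit N θ := by
    ext f
    simp only [Finset.mem_image, Finset.mem_filter, Finset.mem_univ, true_and]
    constructor
    · rintro ⟨φ, hφ, rfl⟩; exact hφ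
    · intro hf
      exact ⟨⟨f, isIrrCharacter_of_mem_conjOrbit N hθ hf⟩, hf, rfl⟩
  calc (fun n : N => χ n)
      = ∑ φ : IrrCharacter N, classInner (fun n : N => χ n) (φ : N → ℂ) • (φ : N → ℂ) := hdec
    _ = ∑ φ : IrrCharacter N, (if (φ : N → ℂ) ∈ conjOrbit N θ
          then classInner (fun n : N => χ n) θ • (φ : N → ℂ) else 0) := by
        apply Finset.sum_congr rfl
        intro φ _
        rw [hcoef φ]
        split_ifs <;> simp
    _ = ∑ φ ∈ Finset.univ.filter (fun φ : IrrCharacter N => (φ : N → ℂ) ∈ conjOrbit N θ),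
          classInner (fun n : N => χ n) θ • (φ : N → ℂ) := by
        rw [Finset.sum_filter]
    _ = ∑ f ∈ (Finset.univ.filter
          (fun φ : IrrCharacter N => (φ : N → ℂ) ∈ conjOrbit N θ)).image Subtype.val,
          classInner (fun n : N => χ n) θ • f := by
        rw [Finset.sum_image (fun a _ b _ h => Subtype.ext h)]
    _ = ∑ f ∈ conjOrbit N θ, classInner (fun n : N => χ n) θ • f := by rw [himage]
    _ = classInner (fun n : N => χ n) θ • ∑ φ ∈ conjOrbit N θ, φ := by rw [Finset.smul_sum]

end clifford

end Cfsg.Agent.Helper15
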