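import Mathlib
import Cfsg.Prelude.Def_Characters

/-!
# Function-level facts about `Cfsg.extendByZero`, `Cfsg.indFun`, `Cfsg.classInner`

No representation theory is used here: everything is about complex-valued functions on a
finite group.  Main results:

* `extendByZero_of_mem`, `extendByZero_of_not_mem`, `extendByZero_coe`
* `indFun_add`, `indFun_smul`, `indFun_neg`, `indFun_sub`, `indFun_zero`, `indFun_finset_sum`
* `indFun_conj`, `isClassFunction_indFun`: an induced function is always a class function
* `sum_extendByZero_mul`: a sum over `G` against an extension by zero is a sum over `H`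
* `frobenius_reciprocity`, `frobenius_reciprocity'`
* `indFun_mul_restrict`: `indFun H (φ * ψ|_H) = indFun H φ * ψ` for a class function `ψ` of `G`
* `indFun_eq_zero_of_normal_not_mem`, `indFun_normal_apply_mem`
* `classInner` sesquilinearity lemmas
-/

set_option autoImplicit false

namespace Cfsg.Agent.Helper15

open Cfsg
open scoped ComplexConjugate

section ExtendByZero

variable {G : Type*} [Group G] (H : Subgroup G)

theorem extendByZero_of_mem (θ : H → ℂ) {g : G} (hg : g ∈ H) :
    extendByZero H θ g = θ ⟨g, hg⟩ := by
  unfold extendByZero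
  exact Subtype.val_injective.extend_apply θ 0 ⟨g, hg⟩

theorem extendByZero_of_not_mem (θ : H → ℂ) {g : G} (hg : g ∉ H) :
    extendByZero H θ g = 0 := by
  unfold extendByZero
  rw [Function.extend_apply']
  · rfl
  · rintro ⟨a, rfl⟩
    exact hg a.2

@[simp] theorem extendByZero_coe (θ : H → ℂ) (h : H) : extendByZero H θ (h : G) = θ h := by
  rw [extendByZero_of_mem H θ h.2]

theorem extendByZero_add (θ θ' : H → ℂ) :
    extendByZero H (θ + θ') = extendByZero H θ + extendByZero H θ' := by
  funext g
  by_cases hg : g ∈ H
  · simp [extendByZero_of_mem H _ hg]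
  · simp [extendByZero_of_not_mem H _ hg]

theorem extendByZero_smul (c : ℂ) (θ : H → ℂ) :
    extendByZero H (c • θ) = c • extendByZero H θ := by
  funext g
  by_cases hg : g ∈ H
  · simp [extendByZero_of_mem H _ hg]
  · simp [extendByZero_of_not_mem H _ hg]

theorem extendByZero_neg (θ : H → ℂ) :
    extendByZero H (-θ) = -extendByZero H θ := by
  funext g
  by_cases hg : g ∈ H
  · simp [extendByZero_of_mem H _ hg]
  · simp [extendByZero_of_not_mem H _ hg]

theorem extendByZero_sub (θ θ' : H → ℂ) :
    extendByZero H (θ - θ') = extendByZero H θ - extendByZero H θ' := by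
  funext g
  by_cases hg : g ∈ H
  · simp [extendByZero_of_mem H _ hg]
  · simp [extendByZero_of_not_mem H _ hg]

theorem extendByZero_zero : extendByZero H (0 : H → ℂ) = 0 := by
  funext g
  by_cases hg : g ∈ H
  · simp [extendByZero_of_mem H _ hg]
  · simp [extendByZero_of_not_mem H _ hg]

theorem extendByZero_mul (θ θ' : H → ℂ) :
    extendByZero H (θ * θ') = extendByZero H θ * extendByZero H θ' := by
  funext g
  by_cases hg : g ∈ H
  · simp [extendByZero_of_mem H _ hg]
  · simp [extendByZero_of_not_mem H _ hg]

theorem extendByZero_mul_restrict (θ : H → ℂ) (ψ : G → ℂ) :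
    extendByZero H (θ * fun h : H => ψ h) = extendByZero H θ * ψ := by
  funext g
  by_cases hg : g ∈ H
  · simp [extendByZero_of_mem H _ hg]
  · simp [extendByZero_of_not_mem H _ hg]

theorem extendByZero_finset_sum {ι : Type*} (s : Finset ι) (θ : ι → H → ℂ) :
    extendByZero H (∑ i ∈ s, θ i) = ∑ i ∈ s, extendByZero H (θ i) := by
  classical
  induction s using Finset.induction_on with
  | empty => simp [extendByZero_zero]
  | insert a s ha ih => rw [Finset.sum_insert ha, Finset.sum_insert ha, extendByZero_add, ih]

/-- A sum over `G` against an extension by zero from `H` is a sum over `H`. -/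
theorem sum_extendByZero_mul [Fintype G] [Fintype H] (θ : H → ℂ) (F : G → ℂ) :
    ∑ g : G, extendByZero H θ g * F g = ∑ h : H, θ h * F h := by
  classical
  have h1 : ∑ g : G, extendByZero H θ g * F g
      = ∑ g ∈ Finset.univ.filter (fun g : G => g ∈ H), extendByZero H θ g * F g := by
    symm
    apply Finset.sum_subset (Finset.filter_subset _ _)
    intro g _ hg
    have : g ∉ H := by simpa using hg
    rw [extendByZero_of_not_mem H θ this, zero_mul]
  rw [h1]
  rw [Finset.sum_subtype (p := fun g : G => g ∈ H) (Finset.univ.filter (fun g : G => g ∈ H))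
    (by intro x; simp) (fun g => extendByZero H θ g * F g)]
  apply Finset.sum_congr rfl
  intro h _
  rw [extendByZero_coe]

theorem sum_extendByZero [Fintype G] [Fintype H] (θ : H → ℂ) :
    ∑ g : G, extendByZero H θ g = ∑ h : H, θ h := by
  have := sum_extendByZero_mul H θ (fun _ => 1)
  simpa using this

end ExtendByZero

section IndFun

variable {G : Type*} [Group G] [Fintype G] (H : Subgroup G)

theorem indFun_apply (θ : H → ℂ) (g : G) :
    indFun H θ g = (Nat.card H : ℂ)⁻¹ * ∑ x : G, extendByZero H θ (x⁻¹ * g * x) := rfl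

theorem indFun_add (θ θ' : H → ℂ) : indFun H (θ + θ') = indFun H θ + indFun H θ' := by
  funext g
  simp only [indFun_apply, Pi.add_apply, extendByZero_add, Finset.sum_add_distrib, mul_add]

theorem indFun_smul (c : ℂ) (θ : H → ℂ) : indFun H (c • θ) = c • indFun H θ := by
  funext g
  simp only [indFun_apply, Pi.smul_apply, extendByZero_smul, smul_eq_mul, ← Finset.mul_sum]
  ring

theorem indFun_zero : indFun H (0 : H → ℂ) = 0 := by
  funext g
  simp [indFun_apply, extendByZero_zero]

theorem indFun_neg (θ : H → ℂ) : indFun H (-θ) = -indFun H θ := by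
  funext g
  simp [indFun_apply, extendByZero_neg]

theorem indFun_sub (θ θ' : H → ℂ) : indFun H (θ - θ') = indFun H θ - indFun H θ' := by
  rw [sub_eq_add_neg, indFun_add, indFun_neg, ← sub_eq_add_neg]

theorem indFun_finset_sum {ι : Type*} (s : Finset ι) (θ : ι → H → ℂ) :
    indFun H (∑ i ∈ s, θ i) = ∑ i ∈ s, indFun H (θ i) := by
  classical
  induction s using Finset.induction_on with
  | empty => simp [indFun_zero]
  | insert a s ha ih => rw [Finset.sum_insert ha, Finset.sum_insert ha, indFun_add, ih]

/-- An induced function is invariant under conjugation (whatever the function induced). -/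
theorem indFun_conj (θ : H → ℂ) (g y : G) : indFun H θ (y * g * y⁻¹) = indFun H θ g := by
  simp only [indFun_apply]
  congr 1
  apply Fintype.sum_equiv (Equiv.mulLeft y⁻¹)
  intro x
  simp only [Equiv.coe_mulLeft, mul_inv_rev, inv_inv]
  congr 1
  group

theorem isClassFunction_indFun (θ : H → ℂ) : IsClassFunction G (indFun H θ) :=
  fun g h => indFun_conj H θ g h

/-- The sum defining an induced function may be taken over `x * g * x⁻¹` instead. -/
theorem indFun_apply' (θ : H → ℂ) (g : G) :
    indFun H θ g = (Nat.card H : ℂ)⁻¹ * ∑ x : G, extendByZero H θ (x * g * x⁻¹) := by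
  rw [indFun_apply]
  congr 1
  apply Fintype.sum_equiv (Equiv.inv G)
  intro x
  simp

/-- `indFun H (φ * ψ|_H) = indFun H φ * ψ` for a class function `ψ` of `G`. -/
theorem indFun_mul_restrict (φ : H → ℂ) (ψ : G → ℂ) (hψ : IsClassFunction G ψ) :
    indFun H (φ * fun h : H => ψ h) = indFun H φ * ψ := by
  funext g
  simp only [indFun_apply, Pi.mul_apply, extendByZero_mul_restrict]
  rw [mul_assoc, Finset.sum_mul]
  congr 1
  apply Finset.sum_congr rfl
  intro x _
  have : ψ (x⁻¹ * g * x) = ψ g := by
    have := hψ g x⁻¹
    simpa using this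
  rw [this]

end IndFun

section Inner

variable {G : Type*} [Group G] [Fintype G]

theorem classInner_apply (φ ψ : G → ℂ) :
    classInner φ ψ = (Nat.card G : ℂ)⁻¹ * ∑ g : G, φ g * conj (ψ g) := rfl

theorem classInner_add_left (φ φ' ψ : G → ℂ) :
    classInner (φ + φ') ψ = classInner φ ψ + classInner φ' ψ := by
  simp only [classInner_apply, Pi.add_apply, add_mul, Finset.sum_add_distrib, mul_add]

theorem classInner_add_right (φ ψ ψ' : G → ℂ) :
    classInner φ (ψ + ψ') = classInner φ ψ + classInner φ ψ' := by
  simp only [classInner_apply, Pi.add_apply, map_add, mul_add, Finset.sum_add_distrib]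

theorem classInner_smul_left (c : ℂ) (φ ψ : G → ℂ) :
    classInner (c • φ) ψ = c * classInner φ ψ := by
  simp only [classInner_apply, Pi.smul_apply, smul_eq_mul, mul_assoc, ← Finset.mul_sum]
  ring

theorem classInner_smul_right (c : ℂ) (φ ψ : G → ℂ) :
    classInner φ (c • ψ) = conj c * classInner φ ψ := by
  simp only [classInner_apply, Pi.smul_apply, smul_eq_mul, map_mul]
  rw [Finset.mul_sum, Finset.mul_sum, Finset.mul_sum]
  apply Finset.sum_congr rfl
  intro g _
  ring

theorem classInner_zero_left (ψ : G → ℂ) : classInner (0 : G → ℂ) ψ = 0 := by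
  simp [classInner_apply]

theorem classInner_zero_right (φ : G → ℂ) : classInner φ (0 : G → ℂ) = 0 := by
  simp [classInner_apply]

theorem classInner_neg_left (φ ψ : G → ℂ) : classInner (-φ) ψ = -classInner φ ψ := by
  simp [classInner_apply]

theorem classInner_neg_right (φ ψ : G → ℂ) : classInner φ (-ψ) = -classInner φ ψ := by
  simp [classInner_apply]

theorem classInner_sub_left (φ φ' ψ : G → ℂ) :
    classInner (φ - φ') ψ = classInner φ ψ - classInner φ' ψ := by
  rw [sub_eq_add_neg, classInner_add_left, classInner_neg_left, ← sub_eq_add_neg]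

theorem classInner_sub_right (φ ψ ψ' : G → ℂ) :
    classInner φ (ψ - ψ') = classInner φ ψ - classInner φ ψ' := by
  rw [sub_eq_add_neg, classInner_add_right, classInner_neg_right, ← sub_eq_add_neg]

theorem classInner_finset_sum_left {ι : Type*} (s : Finset ι) (φ : ι → G → ℂ) (ψ : G → ℂ) :
    classInner (∑ i ∈ s, φ i) ψ = ∑ i ∈ s, classInner (φ i) ψ := by
  classical
  induction s using Finset.induction_on with
  | empty => simp [classInner_zero_left]
  | insert a s ha ih =>
    rw [Finset.sum_insert ha, Finset.sum_insert ha, classInner_add_left, ih]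

theorem classInner_finset_sum_right {ι : Type*} (s : Finset ι) (φ : G → ℂ) (ψ : ι → G → ℂ) :
    classInner φ (∑ i ∈ s, ψ i) = ∑ i ∈ s, classInner φ (ψ i) := by
  classical
  induction s using Finset.induction_on with
  | empty => simp [classInner_zero_right]
  | insert a s ha ih =>
    rw [Finset.sum_insert ha, Finset.sum_insert ha, classInner_add_right, ih]

/-- Conjugate symmetry of the inner product. -/
theorem classInner_conj_symm (φ ψ : G → ℂ) : conj (classInner φ ψ) = classInner ψ φ := by
  simp only [classInner_apply, map_mul, map_inv₀, map_natCast, map_sum, Complex.conj_conj]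
  congr 1
  apply Finset.sum_congr rfl
  intro g _
  ring

/-- Frobenius reciprocity for class functions: `⟨φ^G, ψ⟩ = ⟨φ, ψ|_H⟩`. Here `φ` is an
arbitrary function on `H` and `ψ` a class function of `G`. -/
theorem frobenius_reciprocity (H : Subgroup G) [Fintype H] (φ : H → ℂ) (ψ : G → ℂ)
    (hψ : IsClassFunction G ψ) :
    classInner (indFun H φ) ψ = classInner φ (fun h : H => ψ h) := by
  simp only [classInner_apply, indFun_apply]
  have step : ∀ g : G, (Nat.card H : ℂ)⁻¹ * (∑ x : G, extendByZero H φ (x⁻¹ * g * x)) * conj (ψ g)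
      = (Nat.card H : ℂ)⁻¹ * ∑ x : G, extendByZero H φ (x⁻¹ * g * x) * conj (ψ (x⁻¹ * g * x)) := by
    intro g
    rw [mul_assoc, Finset.sum_mul]
    congr 1
    apply Finset.sum_congr rfl
    intro x _
    have : ψ (x⁻¹ * g * x) = ψ g := by
      have := hψ g x⁻¹
      simpa using this
    rw [this]
  simp only [step]
  rw [← Finset.mul_sum, Finset.sum_comm]
  have inner : ∀ x : G, ∑ g : G, extendByZero H φ (x⁻¹ * g * x) * conj (ψ (x⁻¹ * g * x))
      = ∑ h : H, φ h * conj (ψ h) := by
    intro x
    rw [← sum_extendByZero_mul H φ (fun g => conj (ψ g))]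
    apply Fintype.sum_equiv (MulAut.conj x⁻¹).toEquiv
    intro g
    simp
  simp only [inner]
  rw [Finset.sum_const, Finset.card_univ, nsmul_eq_mul, ← Nat.card_eq_fintype_card]
  have hG : (Nat.card G : ℂ) ≠ 0 := by
    have : Nat.card G ≠ 0 := Nat.card_pos.ne'
    exact_mod_cast this
  field_simp

/-- Frobenius reciprocity, other side. -/
theorem frobenius_reciprocity' (H : Subgroup G) [Fintype H] (φ : H → ℂ) (ψ : G → ℂ)
    (hψ : IsClassFunction G ψ) :
    classInner ψ (indFun H φ) = classInner (fun h : H => ψ h) φ := by
  rw [← classInner_conj_symm, frobenius_reciprocity H φ ψ hψ, classInner_conj_symm]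

end Inner

end Cfsg.Agent.Helper15
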