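import Mathlib
import Cfsg.Agent.Helper15.IndFun

/-!
# Permutation characters

`permFun H g` is the number of fixed points of `g` on `G ⧸ H`; it is the value of the function
induced from the constant function `1` on `H` (`indFun_one_eq`).  The number of fixed points of
`g` on a finite `G`-set is the sum over the orbits of `permFun` of point stabilisers
(`card_fixedBy_eq_sum`).
-/

set_option autoImplicit false

namespace Cfsg.Agent.Helper15

open Cfsg MulAction

/-- The number of fixed points of `g` on the coset space `G ⧸ H`. -/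
noncomputable def permFun {G : Type*} [Group G] (H : Subgroup G) (g : G) : ℕ :=
  Nat.card (fixedBy (G ⧸ H) g)

theorem mk_mem_fixedBy_iff {G : Type*} [Group G] (H : Subgroup G) (g y : G) :
    (QuotientGroup.mk y : G ⧸ H) ∈ fixedBy (G ⧸ H) g ↔ y⁻¹ * g * y ∈ H := by
  rw [mem_fixedBy, MulAction.Quotient.smul_mk, QuotientGroup.eq, smul_eq_mul, mul_inv_rev,
    ← H.inv_mem_iff]
  simp [mul_assoc]

/-- The number of `y` with `y⁻¹ g y ∈ H` is `|H|` times the number of fixed points of `g` on
`G ⧸ H`. -/
theorem card_conj_mem {G : Type*} [Group G] (H : Subgroup G) (g : G) :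
    Nat.card {y : G // y⁻¹ * g * y ∈ H} = Nat.card H * permFun H g := by
  unfold permFun
  rw [← QuotientGroup.card_preimage_mk]
  apply Nat.card_congr
  apply Equiv.subtypeEquivRight
  intro y
  rw [Set.mem_preimage, mk_mem_fixedBy_iff]

open Classical in
theorem extendByZero_one_apply {G : Type*} [Group G] (H : Subgroup G) (y : G) :
    extendByZero H (fun _ => (1 : ℂ)) y = if y ∈ H then 1 else 0 := by
  split_ifs with h
  · rw [extendByZero_of_mem H _ h]
  · rw [extendByZero_of_not_mem H _ h]

/-- The function induced from the constant function `1` on `H` is the permutation character of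
`G` on `G ⧸ H`. -/
theorem indFun_one_eq {G : Type*} [Group G] [Fintype G] (H : Subgroup G) (g : G) :
    indFun H (fun _ => 1) g = (permFun H g : ℂ) := by
  classical
  unfold indFun
  have h1 : ∑ x : G, extendByZero H (fun _ => (1 : ℂ)) (x⁻¹ * g * x)
      = (Nat.card {y : G // y⁻¹ * g * y ∈ H} : ℂ) := by
    simp_rw [extendByZero_one_apply]
    rw [Finset.sum_ite, Finset.sum_const_zero, add_zero, Finset.sum_const, nsmul_eq_mul, mul_one,
      Nat.card_eq_fintype_card, Fintype.card_subtype]
  rw [h1, card_conj_mem, Nat.cast_mul]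
  have : (Nat.card H : ℂ) ≠ 0 := by
    have : 0 < Nat.card H := Nat.card_pos
    exact_mod_cast this.ne'
  field_simp

/-- Fixed points of `g` in the orbit of `x₀` correspond to fixed points of `g` on
`G ⧸ stabilizer G x₀`. -/
theorem card_fixed_in_orbit {G : Type*} [Group G] {X : Type*} [MulAction G X] (x₀ : X) (g : G) :
    Nat.card {x : X // x ∈ orbit G x₀ ∧ g • x = x} = permFun (stabilizer G x₀) g := by
  unfold permFun
  symm
  apply Nat.card_congr
  refine Equiv.ofBijective
    (fun q => ⟨ofQuotientStabilizer G x₀ q.1, ofQuotientStabilizer_mem_orbit G x₀ q.1, ?_⟩)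
    ⟨?_, ?_⟩
  · rw [← ofQuotientStabilizer_smul]
    exact congrArg _ q.2
  · intro q q' h
    apply Subtype.ext
    apply injective_ofQuotientStabilizer G x₀
    exact congrArg Subtype.val h
  · rintro ⟨x, ⟨h, rfl⟩, hx⟩
    refine ⟨⟨QuotientGroup.mk h, ?_⟩, ?_⟩
    · rw [mem_fixedBy]
      apply injective_ofQuotientStabilizer G x₀
      rw [ofQuotientStabilizer_smul]
      exact hx
    · rfl

/-- The number of fixed points of `g` on a finite `G`-set is the sum, over the orbits, of the
permutation characters on the stabilisers of (arbitrarily chosen) orbit representatives. -/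
theorem card_fixedBy_eq_sum {G : Type*} [Group G] {X : Type*} [MulAction G X] [Finite X]
    [Fintype (orbitRel.Quotient G X)] (φ : orbitRel.Quotient G X → X)
    (hφ : ∀ ω, (Quotient.mk'' (φ ω) : orbitRel.Quotient G X) = ω) (g : G) :
    Nat.card (fixedBy X g) = ∑ ω : orbitRel.Quotient G X, permFun (stabilizer G (φ ω)) g := by
  classical
  have e : fixedBy X g ≃
      Σ ω : orbitRel.Quotient G X, {x : X // x ∈ orbit G (φ ω) ∧ g • x = x} :=
    { toFun := fun x => ⟨Quotient.mk'' x.1, x.1, by
          have := hφ (Quotient.mk'' x.1)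
          rw [Quotient.eq''] at this
          exact (orbitRel_apply.mp ((orbitRel G X).symm this)), x.2⟩
      invFun := fun s => ⟨s.2.1, s.2.2.2⟩
      left_inv := fun x => rfl
      right_inv := by
        rintro ⟨ω, x, hx, hgx⟩
        have : (Quotient.mk'' x : orbitRel.Quotient G X) = ω := by
          rw [← hφ ω, Quotient.eq'']
          exact orbitRel_apply.mpr hx
        subst this
        rfl }
  rw [Nat.card_congr e, Nat.card_sigma]
  exact Finset.sum_congr rfl (fun ω _ => card_fixed_in_orbit (φ ω) g)

/-- Regrouping a sum over orbits according to the stabiliser of the representative. -/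
theorem sum_permFun_fiberwise {G : Type*} [Group G] [Fintype (Subgroup G)] {Ω : Type*} [Fintype Ω]
    (ψ : Ω → Subgroup G) (g : G) :
    ∑ ω : Ω, permFun (ψ ω) g = ∑ U : Subgroup G, Nat.card {ω : Ω // ψ ω = U} * permFun U g := by
  classical
  rw [← Finset.sum_fiberwise Finset.univ ψ]
  apply Finset.sum_congr rfl
  intro U _
  rw [Finset.sum_congr rfl (fun ω hω => by rw [(Finset.mem_filter.mp hω).2]),
    Finset.sum_const, smul_eq_mul, Nat.card_eq_fintype_card, Fintype.card_subtype]

end Cfsg.Agent.Helper15
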