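import Mathlib
import Cfsg.Agent.Helper15.PermChar

/-!
# `p`-quasi-elementary subgroups and their permutation characters

`IsQuasiElem p H`: the subgroup `H` has a cyclic normal subgroup `C` of order prime to `p` and
`p`-power index (this is the shape used in the statements on Solomon's induction theorem).

Main result: `exists_quasiElem_permFun_not_dvd`: for every `x : G` there is a
`p`-quasi-elementary `H` such that the number of fixed points of `x` on `G ⧸ H` is prime to `p`.
-/

set_option autoImplicit false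

namespace Cfsg.Agent.Helper15

open Cfsg MulAction

/-- `H` is `p`-quasi-elementary. -/
def IsQuasiElem {G : Type*} [Group G] (p : ℕ) (H : Subgroup G) : Prop :=
  ∃ C : Subgroup G, C ≤ H ∧ H ≤ Subgroup.normalizer (C : Set G) ∧ IsCyclic C ∧
    Nat.Coprime (Nat.card C) p ∧ ∃ k : ℕ, C.relIndex H = p ^ k

/-- If `g ^ (p ^ n)` acts trivially on the finite set `X` then the number of fixed points of `g`
is congruent to `|X|` modulo `p`. -/
theorem card_fixedBy_modEq {G : Type*} [Group G] {X : Type*} [MulAction G X] [Finite X]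
    {p n : ℕ} (hp : p.Prime) (g : G) (hg : ∀ x : X, (g ^ p ^ n) • x = x) :
    Nat.card (fixedBy X g) ≡ Nat.card X [MOD p] := by
  classical
  have : Fact p.Prime := ⟨hp⟩
  let _ : Fintype X := Fintype.ofFinite X
  have hσ : (MulAction.toPerm g : Equiv.Perm X) ^ p ^ n = 1 := by
    ext x
    rw [← MulAction.toPermHom_apply, ← map_pow]
    simpa using hg x
  have h := Equiv.Perm.card_compl_support_modEq hσ
  have h2 : Nat.card (fixedBy X g) = (MulAction.toPerm g : Equiv.Perm X).supportᶜ.card := by
    rw [Nat.card_eq_fintype_card, ← Fintype.card_coe]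
    apply Fintype.card_congr
    apply Equiv.subtypeEquivRight
    intro x
    simp [mem_fixedBy]
  rw [h2, Nat.card_eq_fintype_card]
  exact h

/-- A normal subgroup contained in `H` acts trivially on `G ⧸ H`. -/
theorem smul_quotient_of_mem_normal {G : Type*} [Group G] (C H : Subgroup G) [hC : C.Normal]
    (hCH : C ≤ H) {c : G} (hc : c ∈ C) (q : G ⧸ H) : c • q = q := by
  induction q using QuotientGroup.induction_on with
  | H y =>
    rw [MulAction.Quotient.smul_mk, QuotientGroup.eq, smul_eq_mul, mul_inv_rev, mul_assoc]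
    apply hCH
    have := hC.conj_mem c⁻¹ (C.inv_mem hc) y⁻¹
    simpa [mul_assoc] using this

/-- Abstract form: `C` normal of order prime to `p`, `x ^ p ^ a ∈ C`. -/
theorem exists_quasi_abstract {M : Type*} [Group M] [Finite M] {p : ℕ} (hp : p.Prime)
    (C : Subgroup M) [hC : C.Normal] (x : M) (a : ℕ) (hx : x ^ p ^ a ∈ C) :
    ∃ H : Subgroup M, C ≤ H ∧ (∃ k : ℕ, C.relIndex H = p ^ k) ∧ ¬ p ∣ permFun H x ∧
      ∀ h ∈ H, Nat.Coprime (orderOf h) p → h ∈ C := by
  classical
  have : Fact p.Prime := ⟨hp⟩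
  let f := QuotientGroup.mk' C
  have hf : Function.Surjective f := QuotientGroup.mk'_surjective C
  -- the image of `x` is a `p`-element
  have hxp : IsPGroup p (Subgroup.zpowers (f x)) := by
    rintro ⟨g, hg⟩
    refine ⟨a, ?_⟩
    obtain ⟨j, rfl⟩ := Subgroup.mem_zpowers_iff.mp hg
    apply Subtype.ext
    simp only [Subgroup.coe_pow, Subgroup.coe_one]
    rw [← zpow_natCast, ← zpow_mul, mul_comm, zpow_mul, zpow_natCast, ← map_pow]
    have : f (x ^ p ^ a) = 1 := (QuotientGroup.eq_one_iff _).mpr hx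
    rw [this, one_zpow]
  obtain ⟨S, hS⟩ := hxp.exists_le_sylow
  let H : Subgroup M := (S : Subgroup (M ⧸ C)).comap f
  have hCH : C ≤ H := by
    intro c hc
    show f c ∈ S
    have : f c = 1 := (QuotientGroup.eq_one_iff _).mpr hc
    rw [this]
    exact one_mem _
  have hxH : x ∈ H := hS (Subgroup.mem_zpowers (f x))
  refine ⟨H, hCH, ?_, ?_, ?_⟩
  · have hCbot : C = (⊥ : Subgroup (M ⧸ C)).comap f := by
      rw [MonoidHom.comap_bot, QuotientGroup.ker_mk']
    obtain ⟨k, hk⟩ := (IsPGroup.iff_card.mp S.isPGroup')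
    refine ⟨k, ?_⟩
    conv_lhs => rw [hCbot]
    rw [Subgroup.relIndex_comap, Subgroup.map_comap_eq_self_of_surjective hf,
      Subgroup.relIndex_bot_left, hk]
  · have hmod := card_fixedBy_modEq (X := M ⧸ H) hp x (n := a)
      (fun q => smul_quotient_of_mem_normal C H hCH hx q)
    have hidx : Nat.card (M ⧸ H) = (S : Subgroup (M ⧸ C)).index := by
      rw [← Subgroup.index_comap_of_surjective (S : Subgroup (M ⧸ C)) hf]
      rfl
    intro hdvd
    have h1 : p ∣ Nat.card (M ⧸ H) := by
      rw [← Nat.modEq_zero_iff_dvd] at hdvd ⊢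
      exact hmod.symm.trans hdvd
    rw [hidx] at h1
    exact S.not_dvd_index h1
  · intro h hh hcop
    have h1 : f h ∈ S := hh
    obtain ⟨j, hj⟩ := S.isPGroup' ⟨f h, h1⟩
    have hj' : (f h) ^ p ^ j = 1 := by
      have := congrArg Subtype.val hj
      simpa using this
    have d1 : orderOf (f h) ∣ p ^ j := orderOf_dvd_of_pow_eq_one hj'
    have d2 : orderOf (f h) ∣ orderOf h := orderOf_map_dvd f h
    have : orderOf (f h) = 1 :=
      Nat.eq_one_of_dvd_coprimes (Nat.Coprime.pow_right j hcop) d2 d1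
    have := orderOf_eq_one_iff.mp this
    exact (QuotientGroup.eq_one_iff _).mp this

theorem conj_inv_pow {G : Type*} [Group G] (y x : G) (n : ℕ) :
    (y⁻¹ * x * y) ^ n = y⁻¹ * x ^ n * y := by
  have := conj_pow (a := y⁻¹) (b := x) (i := n)
  simpa using this

theorem conj_inv_zpow {G : Type*} [Group G] (y x : G) (n : ℤ) :
    (y⁻¹ * x * y) ^ n = y⁻¹ * x ^ n * y := by
  have := conj_zpow (a := y⁻¹) (b := x) (i := n)
  simpa using this

theorem orderOf_conj_inv {G : Type*} [Group G] (y x : G) :
    orderOf (y⁻¹ * x * y) = orderOf x := by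
  have := (MulAut.conj y⁻¹).orderOf_eq x
  simpa using this

/-- For every `x : G` there is a `p`-quasi-elementary subgroup `H` such that the number of fixed
points of `x` on `G ⧸ H` is prime to `p`. -/
theorem exists_quasiElem_permFun_not_dvd {G : Type*} [Group G] [Finite G] (x : G) {p : ℕ}
    (hp : p.Prime) : ∃ H : Subgroup G, IsQuasiElem p H ∧ ¬ p ∣ permFun H x := by
  classical
  set o := orderOf x with ho
  have hopos : 0 < o := orderOf_pos x
  set a := o.factorization p with ha
  set c := x ^ p ^ a with hc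
  let C : Subgroup G := Subgroup.zpowers c
  let N : Subgroup G := Subgroup.normalizer (C : Set G)
  have hCN : C ≤ N := Subgroup.le_normalizer
  have hxN : x ∈ N := by
    apply Subgroup.centralizer_le_normalizer
    rw [Subgroup.mem_centralizer_iff]
    intro h hh
    obtain ⟨j, rfl⟩ := Subgroup.mem_zpowers_iff.mp hh
    have : Commute (x ^ p ^ a) x := (Commute.refl x).pow_left _
    exact (this.zpow_left j).eq
  have hordc : orderOf c = ordCompl[p] o :=
    orderOf_pow_of_dvd (pow_ne_zero _ hp.ne_zero) (Nat.ordProj_dvd o p)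
  have hcardC : Nat.card C = ordCompl[p] o := by rw [Nat.card_zpowers, hordc]
  have hcopc : Nat.Coprime (orderOf c) p := by
    rw [hordc]; exact (Nat.coprime_ordCompl hp hopos.ne').symm
  have hcop : Nat.Coprime (Nat.card C) p := by
    rw [hcardC]; exact (Nat.coprime_ordCompl hp hopos.ne').symm
  let C' : Subgroup N := C.subgroupOf N
  have hC'n : C'.Normal := Subgroup.normal_in_normalizer
  let xN : N := ⟨x, hxN⟩
  have hx' : xN ^ p ^ a ∈ C' := by
    rw [Subgroup.mem_subgroupOf]
    simp only [Subgroup.coe_pow]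
    exact Subgroup.mem_zpowers c
  obtain ⟨H', hCH', ⟨k, hk⟩, hndvd, hB⟩ := exists_quasi_abstract hp C' xN a hx'
  let H : Subgroup G := H'.map N.subtype
  have hCmap : C'.map N.subtype = C := by
    rw [Subgroup.subgroupOf_map_subtype]; exact inf_eq_left.mpr hCN
  have hCH : C ≤ H := by rw [← hCmap]; exact Subgroup.map_mono hCH'
  have hHN : H ≤ N := Subgroup.map_subtype_le H'
  have hmemH : ∀ y : N, y ∈ H' ↔ (y : G) ∈ H := by
    intro y
    constructor
    · intro h
      exact ⟨y, h, rfl⟩
    · rintro ⟨w, hw, hwe⟩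
      have : w = y := Subtype.ext hwe
      rw [← this]; exact hw
  refine ⟨H, ⟨C, hCH, hHN, inferInstance, hcop, k, ?_⟩, ?_⟩
  · conv_lhs => rw [← hCmap]
    rw [Subgroup.relIndex_map_map_of_injective _ _ N.subtype_injective, hk]
  · -- every `y` with `y⁻¹ x y ∈ H` normalises `C`
    have key : ∀ y : G, y⁻¹ * x * y ∈ H → y ∈ N := by
      intro y hy
      have hz : y⁻¹ * c * y ∈ H := by
        rw [hc, ← conj_inv_pow]
        exact H.pow_mem hy _
      have hzN : y⁻¹ * c * y ∈ N := hHN hz
      have hz' : (⟨y⁻¹ * c * y, hzN⟩ : N) ∈ H' := (hmemH _).mpr hz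
      have hzo : Nat.Coprime (orderOf (⟨y⁻¹ * c * y, hzN⟩ : N)) p := by
        rw [← Subgroup.orderOf_coe]
        simp only
        rw [orderOf_conj_inv]
        exact hcopc
      have hzC : y⁻¹ * c * y ∈ C := hB _ hz' hzo
      have hyinv : y⁻¹ ∈ N := by
        apply Subgroup.mem_normalizer_fintype
        intro n hn
        obtain ⟨j, rfl⟩ := Subgroup.mem_zpowers_iff.mp hn
        rw [inv_inv, ← conj_inv_zpow]
        exact C.zpow_mem hzC j
      exact N.inv_mem_iff.mp hyinv
    have e1 := card_conj_mem H x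
    have e2 := card_conj_mem H' xN
    have hmem2 : ∀ y : N, y⁻¹ * xN * y ∈ H' ↔ (y : G)⁻¹ * x * (y : G) ∈ H := by
      intro y
      rw [hmemH]
      rfl
    have e3 : Nat.card {y : N // y⁻¹ * xN * y ∈ H'} = Nat.card {y : G // y⁻¹ * x * y ∈ H} := by
      apply Nat.card_congr
      refine Equiv.ofBijective (fun y => ⟨y.1.1, (hmem2 y.1).mp y.2⟩) ⟨?_, ?_⟩
      · intro y y' h
        apply Subtype.ext
        apply Subtype.ext
        have := congrArg Subtype.val h
        exact this
      · rintro ⟨y, hy⟩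
        exact ⟨⟨⟨y, key y hy⟩, (hmem2 _).mpr hy⟩, rfl⟩
    have e4 : Nat.card H = Nat.card H' := Subgroup.card_map_of_injective N.subtype_injective
    have e5 : permFun H x = permFun H' xN := by
      have hpos : 0 < Nat.card H' := Nat.card_pos
      apply Nat.eq_of_mul_eq_mul_left hpos
      rw [← e2, e3, e1, e4]
    rw [e5]
    exact hndvd

/-- Subgroups of `p`-quasi-elementary subgroups are `p`-quasi-elementary. -/
theorem IsQuasiElem.of_le {G : Type*} [Group G] [Finite G] {p : ℕ} (hp : p.Prime)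
    {H U : Subgroup G} (hH : IsQuasiElem p H) (hUH : U ≤ H) : IsQuasiElem p U := by
  obtain ⟨C, hCH, hHN, hcyc, hcop, k, hk⟩ := hH
  refine ⟨C ⊓ U, inf_le_right, ?_, ?_, ?_, ?_⟩
  · intro u hu
    have huN : u ∈ Subgroup.normalizer (C : Set G) := hHN (hUH hu)
    rw [Subgroup.mem_normalizer_iff] at huN ⊢
    intro h
    rw [Subgroup.mem_inf, Subgroup.mem_inf, ← huN h]
    constructor
    · rintro ⟨h1, h2⟩
      exact ⟨h1, U.mul_mem (U.mul_mem hu h2) (U.inv_mem hu)⟩
    · rintro ⟨h1, h2⟩
      refine ⟨h1, ?_⟩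
      have := U.mul_mem (U.mul_mem (U.inv_mem hu) h2) hu
      simpa [mul_assoc] using this
  · exact isCyclic_of_injective (Subgroup.inclusion (inf_le_left : C ⊓ U ≤ C))
      (Subgroup.inclusion_injective _)
  · exact Nat.Coprime.coprime_dvd_left (Subgroup.card_dvd_of_le inf_le_left) hcop
  · have hCn : (C.subgroupOf H).Normal :=
      (Subgroup.normal_subgroupOf_iff_le_normalizer hCH).mpr hHN
    have h1 : (C.subgroupOf H).relIndex (U.subgroupOf H) ∣ (C.subgroupOf H).index :=
      Subgroup.relIndex_dvd_index_of_normal _ _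
    rw [Subgroup.relIndex_subgroupOf hUH] at h1
    have h2 : (C.subgroupOf H).index = p ^ k := hk
    rw [h2] at h1
    obtain ⟨j, -, hj⟩ := (Nat.dvd_prime_pow hp).mp h1
    exact ⟨j, by rw [Subgroup.inf_relIndex_right, hj]⟩

end Cfsg.Agent.Helper15
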