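import Mathlib
import Cfsg.Agent.Helper15.LinChar

/-!
# Transfer and extension of invariant linear characters

* `transfer_eq_pow_of_conj_invariant`: evaluation of the transfer at an element all of whose
  relevant conjugates have the "expected" value.
* `transfer_apply_of_normal_le`: if `N ⊴ G`, `N ≤ H` and `ν : H →* A` is `G`-invariant on `N`,
  then the transfer of `ν` restricted to `N` is `ν ^ [G : H]`.
* a small bridge between linear characters as functions `G → ℂ` and homomorphisms `G →* ℂˣ`.
-/

set_option autoImplicit false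

namespace Cfsg.Agent.Helper15

open Cfsg MulAction Subgroup

/-- Evaluation of the transfer at an element `x` of `P` such that every conjugate of a power
`x ^ k` lying in `P` has value `φ x ^ k`. -/
theorem transfer_eq_pow_of_conj_invariant {K : Type*} [Group K] (P : Subgroup K) [P.FiniteIndex]
    {A : Type*} [CommGroup A] (φ : P →* A) (x : K) (hx : x ∈ P)
    (hconj : ∀ (g : K) (k : ℕ) (hw : g⁻¹ * x ^ k * g ∈ P),
      φ ⟨g⁻¹ * x ^ k * g, hw⟩ = φ ⟨x, hx⟩ ^ k) :
    MonoidHom.transfer φ x = φ ⟨x, hx⟩ ^ P.index := by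
  classical
  let _ : Fintype (Quotient (orbitRel (zpowers x) (K ⧸ P))) := Fintype.ofFinite _
  rw [MonoidHom.transfer_eq_prod_quotient_orbitRel_zpowers_quot]
  rw [Finset.prod_congr rfl (fun q _ => hconj _ _ _), Finset.prod_pow_eq_pow_sum,
    ← Subgroup.index_eq_sum_minimalPeriod]

/-- If `N ⊴ G`, `N ≤ H` and `ν : H →* A` is invariant on `N` under conjugation by `G`, then the
transfer of `ν` to `G` restricts to `ν ^ [G : H]` on `N`. -/
theorem transfer_apply_of_normal_le {G : Type*} [Group G] (N H : Subgroup G) [hN : N.Normal]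
    [H.FiniteIndex] (hNH : N ≤ H) {A : Type*} [CommGroup A] (ν : H →* A)
    (hinv : ∀ (g : G) (n : G) (hn : n ∈ N),
      ν ⟨g⁻¹ * n * g, hNH (by simpa using hN.conj_mem n hn g⁻¹)⟩ = ν ⟨n, hNH hn⟩)
    (n : G) (hn : n ∈ N) :
    MonoidHom.transfer ν n = ν ⟨n, hNH hn⟩ ^ H.index := by
  apply transfer_eq_pow_of_conj_invariant H ν n (hNH hn)
  intro g k hw
  rw [hinv g (n ^ k) (N.pow_mem hn k), ← map_pow]
  rfl

/-- The function `G → ℂ` underlying a homomorphism `G →* ℂˣ`. -/
noncomputable def unitsFun {G : Type*} [Group G] (μ : G →* ℂˣ) : G → ℂ := fun g => (μ g : ℂ)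

@[simp] theorem unitsFun_apply {G : Type*} [Group G] (μ : G →* ℂˣ) (g : G) :
    unitsFun μ g = (μ g : ℂ) := rfl

theorem isCharacter_unitsFun {G : Type*} [Group G] (μ : G →* ℂˣ) :
    IsCharacter G (unitsFun μ) ∧ unitsFun μ 1 = 1 :=
  isCharacter_of_hom ((Units.coeHom ℂ).comp μ)

theorem linCharUnits_unitsFun {G : Type*} [Group G] (μ : G →* ℂˣ)
    (h : IsCharacter G (unitsFun μ)) (h1 : unitsFun μ 1 = 1) :
    linCharUnits h h1 = μ := by
  ext g
  rfl

theorem unitsFun_linCharUnits {G : Type*} [Group G] {lam : G → ℂ} (h : IsCharacter G lam)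
    (h1 : lam 1 = 1) : unitsFun (linCharUnits h h1) = lam := rfl

theorem unitsFun_pow {G : Type*} [Group G] (μ : G →* ℂˣ) (k : ℕ) :
    unitsFun (μ ^ k) = unitsFun μ ^ k := by
  funext g
  simp

theorem unitsFun_eq_one_iff {G : Type*} [Group G] (μ : G →* ℂˣ) :
    unitsFun μ = 1 ↔ μ = 1 := by
  constructor
  · intro h
    ext g
    have := congrFun h g
    simpa using this
  · rintro rfl
    funext g
    simp

theorem unitsFun_injective {G : Type*} [Group G] :
    Function.Injective (unitsFun (G := G)) := by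
  intro μ μ' h
  ext g
  exact congrFun h g

/-- The order of a hom `G →* ℂˣ` equals the order of the underlying function in the monoid
`G → ℂ`. -/
theorem orderOf_unitsFun {G : Type*} [Group G] (μ : G →* ℂˣ) :
    orderOf (unitsFun μ) = orderOf μ := by
  rw [orderOf_eq_orderOf_iff]
  intro k
  rw [← unitsFun_pow, unitsFun_eq_one_iff]

theorem orderOf_linCharUnits {G : Type*} [Group G] {lam : G → ℂ} (h : IsCharacter G lam)
    (h1 : lam 1 = 1) : orderOf (linCharUnits h h1) = orderOf lam := by
  rw [← orderOf_unitsFun]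
  rfl

/-- A hom from a finite group to `ℂˣ` has positive order. -/
theorem orderOf_hom_pos {G : Type*} [Group G] [Finite G] (μ : G →* ℂˣ) : 0 < orderOf μ := by
  apply orderOf_pos_iff.mpr
  rw [isOfFinOrder_iff_pow_eq_one]
  refine ⟨Nat.card G, Nat.card_pos, ?_⟩
  ext g
  simp only [MonoidHom.pow_apply, MonoidHom.one_apply, Units.val_pow_eq_pow_val, Units.val_one]
  rw [← Units.val_pow_eq_pow_val, ← map_pow, pow_card_eq_one', map_one, Units.val_one]

/-- A hom from a finite group to a commutative group has positive order. -/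
theorem orderOf_hom_pos' {G : Type*} [Group G] [Finite G] {A : Type*} [CommGroup A]
    (μ : G →* A) : 0 < orderOf μ := by
  apply orderOf_pos_iff.mpr
  rw [isOfFinOrder_iff_pow_eq_one]
  refine ⟨Nat.card G, Nat.card_pos, ?_⟩
  ext g
  rw [MonoidHom.pow_apply, MonoidHom.one_apply, ← map_pow, pow_card_eq_one', map_one]

/-- A hom `ρ : G →* A` into a commutative group which is trivial on a normal subgroup `N`
satisfies `ρ ^ [G : N] = 1`. -/
theorem hom_pow_index_eq_one {G : Type*} [Group G] (N : Subgroup G) [N.Normal]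
    {A : Type*} [CommGroup A] (ρ : G →* A) (h : ∀ n ∈ N, ρ n = 1) (g : G) :
    ρ g ^ N.index = 1 := by
  rw [← map_pow]
  exact h _ (N.pow_index_mem g)

/-- Restriction of homs `G →* A` to a subgroup, as a homomorphism (for commutative `A`). -/
def resHom {G : Type*} [Group G] (N : Subgroup G) (A : Type*) [CommGroup A] :
    (G →* A) →* (N →* A) where
  toFun μ := μ.comp N.subtype
  map_one' := rfl
  map_mul' _ _ := rfl

@[simp] theorem resHom_apply {G : Type*} [Group G] (N : Subgroup G) {A : Type*} [CommGroup A]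
    (μ : G →* A) (n : N) : resHom N A μ n = μ n := rfl

end Cfsg.Agent.Helper15
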