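import Mathlib
import Cfsg.Prelude.Def_CharExt
import Cfsg.Agent.Helper3.EquivOfChar
import Cfsg.Agent.Helper3.Transport
import Cfsg.Agent.Helper15.TransferLin

/-!
# The determinantal character `Cfsg.detChar`

* `detChar_eq_det`: for ANY finite-dimensional complex representation `ρ` of a finite group,
  `detChar ρ.character g = det (ρ g)` (independence of the chosen representation).
* `isCharacter_detChar`: `detChar χ` is a character of degree one.
* `detChar_comp`: compatibility with pulling back along a homomorphism (restriction,
  conjugation).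
* `detChar_twist`: `detChar (lam * χ) = lam ^ χ(1) * detChar χ` for `lam` of degree one.
-/

set_option autoImplicit false

namespace Cfsg.Agent.Helper15

open Cfsg Module

universe u

section

variable {G : Type u} [Group G]

/-- Equivalent representations have equal determinants. -/
theorem det_eq_of_equiv {V W : Type*} [AddCommGroup V] [Module ℂ V]
    [AddCommGroup W] [Module ℂ W]
    (ρ : Representation ℂ G V) (σ : Representation ℂ G W) (φ : ρ.Equiv σ) (g : G) :
    LinearMap.det (ρ g) = LinearMap.det (σ g) := by
  obtain ⟨e, he⟩ : ∃ e : V ≃ₗ[ℂ] W, ∀ g, e.toLinearMap ∘ₗ ρ g = σ g ∘ₗ e.toLinearMap :=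
    ⟨φ.toLinearEquiv, fun g => φ.1.2 g⟩
  have h : σ g = e.toLinearMap ∘ₗ ρ g ∘ₗ e.symm.toLinearMap := by
    rw [← LinearMap.comp_assoc, he, LinearMap.comp_assoc]
    ext v
    simp
  rw [h, LinearMap.det_conj]

variable [Finite G]

/-- `detChar` of the character of a representation is the determinant of that representation. -/
theorem detChar_eq_det {V : Type*} [AddCommGroup V] [Module ℂ V] [FiniteDimensional ℂ V]
    (ρ : Representation ℂ G V) (g : G) :
    detChar ρ.character g = LinearMap.det (ρ g) := by
  classical
  have : Fintype G := Fintype.ofFinite G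
  have hc : IsCharacter G ρ.character := Helper3.isCharacter_character ρ
  unfold detChar
  rw [dif_pos hc]
  have hspec := Classical.choose_spec (Classical.choose_spec hc)
  obtain ⟨φ⟩ := Helper3.equiv_of_character_eq _ ρ hspec
  exact det_eq_of_equiv _ ρ φ g

/-- The determinantal character, as a monoid homomorphism. -/
noncomputable def detHom {V : Type*} [AddCommGroup V] [Module ℂ V]
    (ρ : Representation ℂ G V) : G →* ℂ :=
  (LinearMap.det : (V →ₗ[ℂ] V) →* ℂ).comp ρ

theorem detChar_eq_detHom {V : Type*} [AddCommGroup V] [Module ℂ V] [FiniteDimensional ℂ V]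
    (ρ : Representation ℂ G V) : detChar ρ.character = ⇑(detHom ρ) := by
  funext g
  exact detChar_eq_det ρ g

/-- The determinantal character of a character is a character of degree one. -/
theorem isCharacter_detChar {χ : G → ℂ} (hχ : IsCharacter G χ) :
    IsCharacter G (detChar χ) ∧ detChar χ 1 = 1 := by
  obtain ⟨n, ρ, rfl⟩ := hχ
  rw [detChar_eq_detHom]
  exact isCharacter_of_hom (detHom ρ)

theorem detChar_mul {χ : G → ℂ} (hχ : IsCharacter G χ) (a b : G) :
    detChar χ (a * b) = detChar χ a * detChar χ b :=
  linChar_mul (isCharacter_detChar hχ).1 (isCharacter_detChar hχ).2 a b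

/-- Compatibility of `detChar` with pull-back along a homomorphism. -/
theorem detChar_comp {H : Type u} [Group H] [Finite H] (f : H →* G) {χ : G → ℂ}
    (hχ : IsCharacter G χ) (h : H) : detChar (fun x : H => χ (f x)) h = detChar χ (f h) := by
  obtain ⟨n, ρ, rfl⟩ := hχ
  let σ : Representation ℂ H (Fin n → ℂ) := ρ.comp f
  have h1 : (fun x : H => ρ.character (f x)) = σ.character := rfl
  rw [h1, detChar_eq_det, detChar_eq_det]
  rfl

/-- `detChar` of a restriction. -/
theorem detChar_restrict (H : Subgroup G) {χ : G → ℂ} (hχ : IsCharacter G χ) (h : H) :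
    detChar (fun x : H => χ x) h = detChar χ h :=
  detChar_comp H.subtype hχ h

/-- `detChar` of a twist by a character of degree one. -/
theorem detChar_twist {lam χ : G → ℂ} (hlam : IsCharacter G lam) (hlam1 : lam 1 = 1)
    (hχ : IsCharacter G χ) (d : ℕ) (hd : χ 1 = d) (g : G) :
    detChar (lam * χ) g = lam g ^ d * detChar χ g := by
  obtain ⟨n, ρ, rfl⟩ := hχ
  have hn : n = d := by
    rw [character_one_eq] at hd
    exact_mod_cast hd
  subst hn
  let σ : Representation ℂ G (Fin n → ℂ) :=
    { toFun := fun x => lam x • ρ x
      map_one' := by rw [hlam1, one_smul, map_one]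
      map_mul' := fun a b => by
        rw [linChar_mul hlam hlam1, map_mul, smul_mul_smul_comm] }
  have hσ : σ.character = lam * ρ.character := by
    funext x
    show LinearMap.trace ℂ _ (lam x • ρ x) = lam x * LinearMap.trace ℂ _ (ρ x)
    rw [map_smul, smul_eq_mul]
  rw [← hσ, detChar_eq_det, detChar_eq_det]
  show LinearMap.det (lam g • ρ g) = _
  rw [LinearMap.det_smul]
  simp

end

end Cfsg.Agent.Helper15
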