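import Mathlib

/-!
# Extending a homomorphism from a normal subgroup with cyclic quotient

`exists_hom_extension`: if `G = N ⟨g⟩`, `f : N →* U`, and `B : U` satisfies
`B (f n) B⁻¹ = f (g n g⁻¹)` and `B ^ j = f (g ^ j)` whenever `g ^ j ∈ N`, then `f` extends to a
homomorphism `F : G →* U` with `F g = B`.
-/

set_option autoImplicit false

namespace Cfsg.Agent.Helper15

section

variable {G U : Type*} [Group G] [Group U] (N : Subgroup G) [hN : N.Normal]

/-- Conjugation relation passes to integer powers. -/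
theorem conj_rel_zpow (g : G) (f : N →* U) (B : U)
    (hconj : ∀ n : N, B * f n * B⁻¹ = f ⟨g * n * g⁻¹, hN.conj_mem n n.2 g⟩) (j : ℤ) (n : N) :
    B ^ j * f n * (B ^ j)⁻¹ = f ⟨g ^ j * n * (g ^ j)⁻¹, hN.conj_mem n n.2 (g ^ j)⟩ := by
  have hinv : ∀ n : N, B⁻¹ * f n * B = f ⟨g⁻¹ * n * g, by
      simpa using hN.conj_mem n n.2 g⁻¹⟩ := by
    intro n
    have h := hconj ⟨g⁻¹ * n * g, by simpa using hN.conj_mem n n.2 g⁻¹⟩
    have e : (⟨g * (g⁻¹ * n * g) * g⁻¹, hN.conj_mem _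
        (by simpa using hN.conj_mem n n.2 g⁻¹ : g⁻¹ * (n : G) * g ∈ N) g⟩ : N) = n := by
      apply Subtype.ext
      simp [mul_assoc]
    simp only at h
    rw [e] at h
    rw [← h]
    group
  induction j using Int.induction_on generalizing n with
  | zero =>
    simp
  | succ i ih =>
    have e1 : B ^ ((i : ℤ) + 1) = B * B ^ (i : ℤ) := by rw [zpow_add, zpow_one, ← zpow_one_add,
      add_comm, zpow_add, zpow_one]
    have e2 : g ^ ((i : ℤ) + 1) = g * g ^ (i : ℤ) := by rw [zpow_add, zpow_one, ← zpow_one_add,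
      add_comm, zpow_add, zpow_one]
    have h1 := ih n
    have h2 := hconj ⟨g ^ (i : ℤ) * n * (g ^ (i : ℤ))⁻¹, hN.conj_mem n n.2 (g ^ (i : ℤ))⟩
    calc B ^ ((i : ℤ) + 1) * f n * (B ^ ((i : ℤ) + 1))⁻¹
        = B * (B ^ (i : ℤ) * f n * (B ^ (i : ℤ))⁻¹) * B⁻¹ := by rw [e1]; group
      _ = f ⟨g * (g ^ (i : ℤ) * n * (g ^ (i : ℤ))⁻¹) * g⁻¹, _⟩ := by rw [h1, h2]
      _ = _ := by
        congr 1
        apply Subtype.ext
        simp only [e2]
        group
  | pred i ih =>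
    have e1 : B ^ (-(i : ℤ) - 1) = B⁻¹ * B ^ (-(i : ℤ)) := by
      rw [sub_eq_add_neg, add_comm, zpow_add, zpow_neg_one]
    have e2 : g ^ (-(i : ℤ) - 1) = g⁻¹ * g ^ (-(i : ℤ)) := by
      rw [sub_eq_add_neg, add_comm, zpow_add, zpow_neg_one]
    have h1 := ih n
    have h2 := hinv ⟨g ^ (-(i : ℤ)) * n * (g ^ (-(i : ℤ)))⁻¹, hN.conj_mem n n.2 (g ^ (-(i : ℤ)))⟩
    calc B ^ (-(i : ℤ) - 1) * f n * (B ^ (-(i : ℤ) - 1))⁻¹
        = B⁻¹ * (B ^ (-(i : ℤ)) * f n * (B ^ (-(i : ℤ)))⁻¹) * B := by rw [e1]; group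
      _ = f ⟨g⁻¹ * (g ^ (-(i : ℤ)) * n * (g ^ (-(i : ℤ)))⁻¹) * g, _⟩ := by rw [h1, h2]
      _ = _ := by
        congr 1
        apply Subtype.ext
        simp only [e2]
        group

/-- Extension of a homomorphism from `N` to `G = N ⟨g⟩`. -/
theorem exists_hom_extension (g : G) (hgen : ∀ x : G, ∃ k : ℤ, x * g ^ (-k) ∈ N)
    (f : N →* U) (B : U)
    (hconj : ∀ n : N, B * f n * B⁻¹ = f ⟨g * n * g⁻¹, hN.conj_mem n n.2 g⟩)
    (hpow : ∀ (j : ℤ) (hj : g ^ j ∈ N), B ^ j = f ⟨g ^ j, hj⟩) :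
    ∃ F : G →* U, (∀ n : N, F n = f n) ∧ F g = B := by
  classical
  choose k hk using hgen
  -- well-definedness
  have key : ∀ (n n' : N) (i i' : ℤ), (n : G) * g ^ i = (n' : G) * g ^ i' →
      f n * B ^ i = f n' * B ^ i' := by
    intro n n' i i' h
    have hj : g ^ (i' - i) = (n' : G)⁻¹ * n := by
      rw [zpow_sub, mul_inv_eq_iff_eq_mul, mul_assoc, h, ← mul_assoc, inv_mul_cancel, one_mul]
    have hjN : g ^ (i' - i) ∈ N := by rw [hj]; exact N.mul_mem (N.inv_mem n'.2) n.2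
    have h1 := hpow (i' - i) hjN
    have h2 : (⟨g ^ (i' - i), hjN⟩ : N) = n'⁻¹ * n := Subtype.ext hj
    rw [h2, map_mul, map_inv] at h1
    have : f n = f n' * B ^ (i' - i) := by rw [h1]; group
    rw [this, mul_assoc, ← zpow_add, sub_add_cancel]
  let F : G → U := fun x => f ⟨x * g ^ (-(k x)), hk x⟩ * B ^ (k x)
  have hF : ∀ (x : G) (n : N) (i : ℤ), (n : G) * g ^ i = x → F x = f n * B ^ i := by
    intro x n i h
    apply key
    simp only
    rw [h, mul_assoc, ← zpow_add, neg_add_cancel, zpow_zero, mul_one]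
  have hFN : ∀ n : N, F n = f n := by
    intro n
    rw [hF n n 0 (by simp)]
    simp
  refine ⟨⟨⟨F, ?_⟩, ?_⟩, hFN, ?_⟩
  · have := hFN 1
    simpa using this
  · intro x y
    set nx : N := ⟨x * g ^ (-(k x)), hk x⟩ with hnx
    set ny : N := ⟨y * g ^ (-(k y)), hk y⟩ with hny
    have hx : (nx : G) * g ^ (k x) = x := by
      simp only [hnx]
      rw [mul_assoc, ← zpow_add, neg_add_cancel, zpow_zero, mul_one]
    have hy : (ny : G) * g ^ (k y) = y := by
      simp only [hny]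
      rw [mul_assoc, ← zpow_add, neg_add_cancel, zpow_zero, mul_one]
    have hconjk := conj_rel_zpow N g f B hconj (k x) ny
    set nc : N := ⟨g ^ (k x) * ny * (g ^ (k x))⁻¹, hN.conj_mem ny ny.2 (g ^ (k x))⟩ with hnc
    have hxy : ((nx * nc : N) : G) * g ^ (k x + k y) = x * y := by
      simp only [Subgroup.coe_mul, hnc]
      rw [zpow_add]
      calc (nx : G) * (g ^ k x * ny * (g ^ k x)⁻¹) * (g ^ k x * g ^ k y)
          = ((nx : G) * g ^ k x) * ((ny : G) * g ^ k y) := by group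
        _ = x * y := by rw [hx, hy]
    show F (x * y) = F x * F y
    rw [hF (x * y) (nx * nc) (k x + k y) hxy, map_mul, ← hconjk]
    show _ = (f nx * B ^ k x) * (f ny * B ^ k y)
    rw [zpow_add]
    group
  · show F g = B
    rw [hF g 1 1 (by simp)]
    simp

end

end Cfsg.Agent.Helper15
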