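import Mathlib
import Cfsg.Prelude.Def_Characters
import Cfsg.Agent.Helper3.EquivOfChar
import Cfsg.Agent.Helper81.Gallagher
import Cfsg.Agent.S0864

/-!
# Extending an invariant irreducible representation: the lifting group

Let `N ⊴ G` be finite groups and `ρ` an irreducible representation of `N` on `Fin d → ℂ` whose
character is `G`-invariant.  The *lifting group* `liftGroup N ρ M` consists of the pairs
`(g, A)` with `A ρ(n) A⁻¹ = ρ(g n g⁻¹)` and `det(A) ^ M = 1`.  It is a finite group mapping onto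
`G` with a finite central kernel of scalars.  Extending `ρ` to `G` is equivalent to extending a
certain invariant homomorphism into the centre of `GL(V)` from the preimage of `N` to the whole
lifting group; this reduces extension problems for `ρ` to extension problems for linear
characters (transfer).

Main results: `exists_hom_extension_of_sylow` (abstract group-theoretic form) and
`exists_rep_extension_of_sylow`: if for every prime `p` the character of `ρ` extends to an
irreducible character of a subgroup `P ≥ N` of index prime to `p`, then `ρ` extends to `G`.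
-/

set_option autoImplicit false

namespace Cfsg.Agent.Helper15

open Cfsg

universe u

section compat

variable {G : Type*} {U : Type*} [Group G] [Group U] (N : Subgroup G) [hN : N.Normal]

/-- The pairs `(g, A)` such that conjugation by `A` on the image of `f` realises conjugation by
`g` on `N`. -/
def conjCompat (f : N →* U) : Subgroup (G × U) where
  carrier := {x | ∀ n : N, x.2 * f n * x.2⁻¹ = f ⟨x.1 * n * x.1⁻¹, hN.conj_mem n n.2 x.1⟩}
  one_mem' := by
    intro n
    simp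
  mul_mem' := by
    intro x y hx hy n
    have h1 := hy n
    have h2 := hx ⟨y.1 * n * y.1⁻¹, hN.conj_mem n n.2 y.1⟩
    calc (x * y).2 * f n * (x * y).2⁻¹ = x.2 * (y.2 * f n * y.2⁻¹) * x.2⁻¹ := by
          simp only [Prod.snd_mul]; group
      _ = f ⟨x.1 * (y.1 * n * y.1⁻¹) * x.1⁻¹, _⟩ := by rw [h1, h2]
      _ = _ := by
          congr 1
          apply Subtype.ext
          simp only [Prod.fst_mul]
          group
  inv_mem' := by
    intro x hx n
    have h1 := hx ⟨x.1⁻¹ * n * x.1, by simpa using hN.conj_mem n n.2 x.1⁻¹⟩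
    have e : (⟨x.1 * (x.1⁻¹ * (n : G) * x.1) * x.1⁻¹, hN.conj_mem _
        (by simpa using hN.conj_mem n n.2 x.1⁻¹ : x.1⁻¹ * (n : G) * x.1 ∈ N) x.1⟩ : N) = n := by
      apply Subtype.ext
      simp [mul_assoc]
    simp only at h1
    rw [e] at h1
    have h2 : x⁻¹.2 * f n * x⁻¹.2⁻¹ = x.2⁻¹ * f n * x.2 := by simp
    rw [h2, ← h1]
    have : (⟨x⁻¹.1 * (n : G) * x⁻¹.1⁻¹, hN.conj_mem n n.2 x⁻¹.1⟩ : N)
        = ⟨x.1⁻¹ * n * x.1, by simpa using hN.conj_mem n n.2 x.1⁻¹⟩ := by
      apply Subtype.ext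
      simp
    rw [this]
    group

theorem mem_conjCompat (f : N →* U) (x : G × U) :
    x ∈ conjCompat N f ↔
      ∀ n : N, x.2 * f n * x.2⁻¹ = f ⟨x.1 * n * x.1⁻¹, hN.conj_mem n n.2 x.1⟩ := Iff.rfl

end compat

section abstract

variable {G : Type*} {U : Type*} [Group G] [Group U] (N : Subgroup G) [hN : N.Normal]
  (f : N →* U) (U₁ : Subgroup U)

/-- The lifting group: compatible pairs `(g, A)` with `A ∈ U₁`. -/
def liftGroup : Subgroup (G × U) := conjCompat N f ⊓ U₁.comap (MonoidHom.snd G U)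

/-- First projection of the lifting group. -/
def liftFst : liftGroup N f U₁ →* G := (MonoidHom.fst G U).comp (liftGroup N f U₁).subtype

/-- Second projection of the lifting group. -/
def liftSnd : liftGroup N f U₁ →* U := (MonoidHom.snd G U).comp (liftGroup N f U₁).subtype

theorem liftSnd_conj (x : liftGroup N f U₁) (n : N) :
    liftSnd N f U₁ x * f n * (liftSnd N f U₁ x)⁻¹ =
      f ⟨liftFst N f U₁ x * n * (liftFst N f U₁ x)⁻¹, hN.conj_mem n n.2 _⟩ := x.2.1 n

theorem liftSnd_mem (x : liftGroup N f U₁) : liftSnd N f U₁ x ∈ U₁ := x.2.2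

theorem liftGroup_ext {x y : liftGroup N f U₁} (h1 : liftFst N f U₁ x = liftFst N f U₁ y)
    (h2 : liftSnd N f U₁ x = liftSnd N f U₁ y) : x = y :=
  Subtype.ext (Prod.ext h1 h2)

theorem liftFst_surjective
    (hlift : ∀ g : G, ∃ A ∈ U₁, ∀ n : N, A * f n * A⁻¹ = f ⟨g * n * g⁻¹, hN.conj_mem n n.2 g⟩) :
    Function.Surjective (liftFst N f U₁) := by
  intro g
  obtain ⟨A, hA1, hA⟩ := hlift g
  exact ⟨⟨(g, A), hA, hA1⟩, rfl⟩

omit hN in
theorem commute_of_conj_eq {A B : U} {n : N} {c : U} (hA : A * f n * A⁻¹ = c)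
    (hB : B * f n * B⁻¹ = c) : (B⁻¹ * A) * f n = f n * (B⁻¹ * A) := by
  have h : A * f n * A⁻¹ = B * f n * B⁻¹ := hA.trans hB.symm
  calc B⁻¹ * A * f n = B⁻¹ * (A * f n * A⁻¹) * A := by group
    _ = B⁻¹ * (B * f n * B⁻¹) * A := by rw [h]
    _ = f n * (B⁻¹ * A) := by group

theorem finite_liftGroup [Finite G]
    (hcent : ∀ A : U, (∀ n : N, A * f n = f n * A) → A ∈ Subgroup.center U)
    (hfin : Finite ↥(Subgroup.center U ⊓ U₁)) : Finite (liftGroup N f U₁) := by
  classical
  -- choose a representative in each fibre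
  let r : G → liftGroup N f U₁ := fun g =>
    if h : ∃ x : liftGroup N f U₁, liftFst N f U₁ x = g then h.choose else 1
  have hr : ∀ x : liftGroup N f U₁, liftFst N f U₁ (r (liftFst N f U₁ x)) = liftFst N f U₁ x := by
    intro x
    have h : ∃ y : liftGroup N f U₁, liftFst N f U₁ y = liftFst N f U₁ x := ⟨x, rfl⟩
    simp only [r, dif_pos h]
    exact h.choose_spec
  let φ : liftGroup N f U₁ → G × ↥(Subgroup.center U ⊓ U₁) := fun x =>
    (liftFst N f U₁ x, ⟨(liftSnd N f U₁ (r (liftFst N f U₁ x)))⁻¹ * liftSnd N f U₁ x, by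
      refine ⟨hcent _ (fun n => ?_), ?_⟩
      · apply commute_of_conj_eq N f (liftSnd_conj N f U₁ x n)
        rw [liftSnd_conj N f U₁ (r (liftFst N f U₁ x)) n]
        congr 1
        apply Subtype.ext
        simp only [hr x]
      · exact U₁.mul_mem (U₁.inv_mem (liftSnd_mem N f U₁ _)) (liftSnd_mem N f U₁ _)⟩)
  apply Finite.of_injective φ
  intro x y hxy
  have h1 : liftFst N f U₁ x = liftFst N f U₁ y := congrArg (fun z => z.1) hxy
  have h2 : (liftSnd N f U₁ (r (liftFst N f U₁ x)))⁻¹ * liftSnd N f U₁ x =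
      (liftSnd N f U₁ (r (liftFst N f U₁ y)))⁻¹ * liftSnd N f U₁ y :=
    congrArg (fun z => (z.2 : U)) hxy
  rw [h1] at h2
  exact liftGroup_ext N f U₁ h1 (mul_left_cancel h2)


/-- An extension `τ` of `f` to `H ≥ N` is compatible with conjugation. -/
theorem ext_conj {H : Subgroup G} (hNH : N ≤ H) (τ : H →* U)
    (hτ : ∀ n : N, τ ⟨n, hNH n.2⟩ = f n) (h : H) (n : N) :
    τ h * f n * (τ h)⁻¹ = f ⟨h * n * (h : G)⁻¹, hN.conj_mem n n.2 h⟩ := by
  rw [← hτ n, ← hτ ⟨h * n * (h : G)⁻¹, hN.conj_mem n n.2 h⟩, ← map_inv, ← map_mul, ← map_mul]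
  congr 1

/-- The central-valued homomorphism measuring the difference between an extension `τ` of `f` to
`H` and the tautological lift on the lifting group. -/
def muHom (hcent : ∀ A : U, (∀ n : N, A * f n = f n * A) → A ∈ Subgroup.center U)
    {H : Subgroup G} (hNH : N ≤ H) (τ : H →* U) (hτ : ∀ n : N, τ ⟨n, hNH n.2⟩ = f n) :
    (H.comap (liftFst N f U₁)) →* Subgroup.center U :=
  MonoidHom.mk' (fun x => ⟨(liftSnd N f U₁ x.1)⁻¹ * τ ⟨liftFst N f U₁ x.1, x.2⟩,
    hcent _ (fun n => commute_of_conj_eq N f (ext_conj N f hNH τ hτ _ n)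
      (liftSnd_conj N f U₁ x.1 n))⟩) (by
    intro x y
    apply Subtype.ext
    have hy : (liftSnd N f U₁ y.1)⁻¹ * τ ⟨liftFst N f U₁ y.1, y.2⟩ ∈ Subgroup.center U :=
      hcent _ (fun n => commute_of_conj_eq N f (ext_conj N f hNH τ hτ _ n)
        (liftSnd_conj N f U₁ y.1 n))
    have hx : (liftSnd N f U₁ x.1)⁻¹ * τ ⟨liftFst N f U₁ x.1, x.2⟩ ∈ Subgroup.center U :=
      hcent _ (fun n => commute_of_conj_eq N f (ext_conj N f hNH τ hτ _ n)
        (liftSnd_conj N f U₁ x.1 n))
    have e : (⟨liftFst N f U₁ (x * y).1, (x * y).2⟩ : H) =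
        ⟨liftFst N f U₁ x.1, x.2⟩ * ⟨liftFst N f U₁ y.1, y.2⟩ := by
      apply Subtype.ext
      simp
    show (liftSnd N f U₁ (x * y).1)⁻¹ * τ ⟨liftFst N f U₁ (x * y).1, (x * y).2⟩ =
      ((liftSnd N f U₁ x.1)⁻¹ * τ ⟨liftFst N f U₁ x.1, x.2⟩) *
        ((liftSnd N f U₁ y.1)⁻¹ * τ ⟨liftFst N f U₁ y.1, y.2⟩)
    rw [e, map_mul, Subgroup.coe_mul, map_mul, mul_inv_rev]
    have hc := (Subgroup.mem_center_iff.mp hx) (liftSnd N f U₁ y.1)⁻¹
    calc (liftSnd N f U₁ y.1)⁻¹ * (liftSnd N f U₁ x.1)⁻¹ *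
          (τ ⟨liftFst N f U₁ x.1, x.2⟩ * τ ⟨liftFst N f U₁ y.1, y.2⟩)
        = ((liftSnd N f U₁ y.1)⁻¹ * ((liftSnd N f U₁ x.1)⁻¹ * τ ⟨liftFst N f U₁ x.1, x.2⟩)) *
            τ ⟨liftFst N f U₁ y.1, y.2⟩ := by group
      _ = (((liftSnd N f U₁ x.1)⁻¹ * τ ⟨liftFst N f U₁ x.1, x.2⟩) * (liftSnd N f U₁ y.1)⁻¹) *
            τ ⟨liftFst N f U₁ y.1, y.2⟩ := by rw [hc]
      _ = _ := by group)

theorem muHom_apply (hcent : ∀ A : U, (∀ n : N, A * f n = f n * A) → A ∈ Subgroup.center U)
    {H : Subgroup G} (hNH : N ≤ H) (τ : H →* U) (hτ : ∀ n : N, τ ⟨n, hNH n.2⟩ = f n)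
    (x : H.comap (liftFst N f U₁)) :
    ((muHom N f U₁ hcent hNH τ hτ x : Subgroup.center U) : U) =
      (liftSnd N f U₁ x.1)⁻¹ * τ ⟨liftFst N f U₁ x.1, x.2⟩ := rfl


open scoped IsMulCommutative in
/-- **Abstract extension theorem.**  If `f : N →* U` has "Schur-type" centraliser, every element
of `G` lifts to a compatible element of `U₁` (where `U₁` meets the centre in a finite group), and
`f` extends to subgroups of index prime to `p` for every prime `p`, then `f` extends to `G`. -/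
theorem exists_hom_extension_of_sylow [Finite G]
    (hcent : ∀ A : U, (∀ n : N, A * f n = f n * A) → A ∈ Subgroup.center U)
    (hlift : ∀ g : G, ∃ A ∈ U₁, ∀ n : N, A * f n * A⁻¹ = f ⟨g * n * g⁻¹, hN.conj_mem n n.2 g⟩)
    (hfin : Finite ↥(Subgroup.center U ⊓ U₁))
    (hsyl : ∀ p : ℕ, p.Prime → ∃ (P : Subgroup G) (hNP : N ≤ P) (τ : P →* U),
      Nat.Coprime P.index p ∧ ∀ n : N, τ ⟨n, hNP n.2⟩ = f n) :
    ∃ F : G →* U, ∀ n : N, F n = f n := by
  classical
  have : Finite (liftGroup N f U₁) := finite_liftGroup N f U₁ hcent hfin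
  have hsurj := liftFst_surjective N f U₁ hlift
  let K : Subgroup (liftGroup N f U₁) := N.comap (liftFst N f U₁)
  have : K.Normal := hN.comap (liftFst N f U₁)
  let lam : K →* Subgroup.center U := muHom N f U₁ hcent le_rfl f (fun n => rfl)
  have hlam : ∀ x : K, ((lam x : Subgroup.center U) : U) =
      (liftSnd N f U₁ x.1)⁻¹ * f ⟨liftFst N f U₁ x.1, x.2⟩ := fun x => rfl
  have hinv : ∀ (g : liftGroup N f U₁) (n : liftGroup N f U₁) (hn : n ∈ K),
      lam ⟨g⁻¹ * n * g, by
          have := (inferInstance : K.Normal).conj_mem n hn g⁻¹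
          rwa [inv_inv] at this⟩
        = lam ⟨n, hn⟩ := by
    intro g n hn
    apply Subtype.ext
    rw [hlam, hlam]
    have hmem : liftFst N f U₁ (g⁻¹ * n * g) ∈ N := by
      have := (inferInstance : K.Normal).conj_mem n hn g⁻¹
      rw [inv_inv] at this
      exact this
    have e : f ⟨liftFst N f U₁ (g⁻¹ * n * g), hmem⟩ =
        (liftSnd N f U₁ g)⁻¹ * f ⟨liftFst N f U₁ n, hn⟩ * liftSnd N f U₁ g := by
      have h := liftSnd_conj N f U₁ g⁻¹ ⟨liftFst N f U₁ n, hn⟩
      rw [map_inv (liftSnd N f U₁), inv_inv] at h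
      rw [h]
      congr 1
      apply Subtype.ext
      simp [map_mul]
    have hz : (liftSnd N f U₁ n)⁻¹ * f ⟨liftFst N f U₁ n, hn⟩ ∈ Subgroup.center U := by
      rw [← hlam ⟨n, hn⟩]
      exact (lam ⟨n, hn⟩).2
    have hc := (Subgroup.mem_center_iff.mp hz) (liftSnd N f U₁ g)⁻¹
    show (liftSnd N f U₁ (g⁻¹ * n * g))⁻¹ * f ⟨liftFst N f U₁ (g⁻¹ * n * g), hmem⟩ = _
    rw [e, map_mul, map_mul, map_inv]
    calc ((liftSnd N f U₁ g)⁻¹ * liftSnd N f U₁ n * liftSnd N f U₁ g)⁻¹ *
          ((liftSnd N f U₁ g)⁻¹ * f ⟨liftFst N f U₁ n, hn⟩ * liftSnd N f U₁ g)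
        = ((liftSnd N f U₁ g)⁻¹ * ((liftSnd N f U₁ n)⁻¹ * f ⟨liftFst N f U₁ n, hn⟩)) *
            liftSnd N f U₁ g := by group
      _ = (((liftSnd N f U₁ n)⁻¹ * f ⟨liftFst N f U₁ n, hn⟩) * (liftSnd N f U₁ g)⁻¹) *
            liftSnd N f U₁ g := by rw [hc]
      _ = _ := by group
  have hsyl' : ∀ p : ℕ, p.Prime → p ∣ orderOf lam →
      ∃ (H : Subgroup (liftGroup N f U₁)) (hNH : K ≤ H) (ν : H →* Subgroup.center U),
        Nat.Coprime H.index p ∧ ∀ n : K, ν ⟨(n : liftGroup N f U₁), hNH n.2⟩ = lam n := by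
    intro p hp _
    obtain ⟨P, hNP, τ, hcop, hτ⟩ := hsyl p hp
    refine ⟨P.comap (liftFst N f U₁), Subgroup.comap_mono hNP,
      muHom N f U₁ hcent hNP τ hτ, ?_, ?_⟩
    · rw [Subgroup.index_comap_of_surjective P hsurj]
      exact hcop
    · intro n
      apply Subtype.ext
      rw [muHom_apply, hlam]
      congr 1
      exact hτ ⟨liftFst N f U₁ n.1, n.2⟩
  obtain ⟨μ, hμ⟩ := Cfsg.Agent.S0864.hom_version (A := Subgroup.center U) K lam hinv hsyl'
  -- the corrected lift
  have hμc : ∀ x y : liftGroup N f U₁, ((μ x : Subgroup.center U) : U) * liftSnd N f U₁ y =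
      liftSnd N f U₁ y * (μ x : Subgroup.center U) := fun x y =>
    ((Subgroup.mem_center_iff.mp (μ x).2) (liftSnd N f U₁ y)).symm
  let F : liftGroup N f U₁ →* U :=
    MonoidHom.mk' (fun x => liftSnd N f U₁ x * (μ x : Subgroup.center U)) (by
      intro x y
      show liftSnd N f U₁ (x * y) * ((μ (x * y) : Subgroup.center U) : U) = _
      rw [map_mul, map_mul, Subgroup.coe_mul]
      calc liftSnd N f U₁ x * liftSnd N f U₁ y * ((μ x : U) * (μ y : U))
          = liftSnd N f U₁ x * (liftSnd N f U₁ y * (μ x : U)) * (μ y : U) := by group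
        _ = liftSnd N f U₁ x * ((μ x : U) * liftSnd N f U₁ y) * (μ y : U) := by rw [hμc]
        _ = _ := by group)
  have hF : ∀ x, F x = liftSnd N f U₁ x * (μ x : Subgroup.center U) := fun x => rfl
  have hFK : ∀ (x : liftGroup N f U₁) (hx : liftFst N f U₁ x ∈ N),
      F x = f ⟨liftFst N f U₁ x, hx⟩ := by
    intro x hx
    have h1 := hμ ⟨x, hx⟩
    rw [hF]
    have h2 : ((μ x : Subgroup.center U) : U) =
        (liftSnd N f U₁ x)⁻¹ * f ⟨liftFst N f U₁ x, hx⟩ := by
      have : μ x = lam ⟨x, hx⟩ := h1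
      rw [this, hlam]
    rw [h2]
    group
  have hker : (liftFst N f U₁).ker ≤ F.ker := by
    intro x hx
    rw [MonoidHom.mem_ker] at hx ⊢
    have hxN : liftFst N f U₁ x ∈ N := by rw [hx]; exact N.one_mem
    rw [hFK x hxN]
    have : (⟨liftFst N f U₁ x, hxN⟩ : N) = 1 := Subtype.ext hx
    rw [this, map_one]
  refine ⟨(liftFst N f U₁).liftOfSurjective hsurj ⟨F, hker⟩, fun n => ?_⟩
  obtain ⟨x, hx⟩ := hsurj (n : G)
  have hxN : liftFst N f U₁ x ∈ N := by rw [hx]; exact n.2
  rw [← hx]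
  have := MonoidHom.liftOfRightInverse_comp_apply (liftFst N f U₁) (Function.surjInv hsurj)
    (Function.rightInverse_surjInv hsurj) ⟨F, hker⟩ x
  rw [MonoidHom.liftOfSurjective, this]
  show F x = _
  rw [hFK x hxN]
  congr 1
  exact Subtype.ext hx

end abstract

section concrete

/-- Units of the endomorphism ring of `Fin d → ℂ`. -/
abbrev EndU (d : ℕ) := (Module.End ℂ (Fin d → ℂ))ˣ

/-- The determinant on units. -/
noncomputable def detU (d : ℕ) : EndU d →* ℂˣ :=
  Units.map (LinearMap.det : Module.End ℂ (Fin d → ℂ) →* ℂ)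

/-- Scalar units. -/
noncomputable def scalarU (d : ℕ) : ℂˣ →* EndU d :=
  Units.map (algebraMap ℂ (Module.End ℂ (Fin d → ℂ)) : ℂ →* Module.End ℂ (Fin d → ℂ))

theorem scalarU_mem_center (d : ℕ) (c : ℂˣ) : scalarU d c ∈ Subgroup.center (EndU d) := by
  rw [Subgroup.mem_center_iff]
  intro u
  apply Units.ext
  exact (Algebra.commutes (c : ℂ) (u : Module.End ℂ (Fin d → ℂ))).symm

theorem detU_scalarU (d : ℕ) (c : ℂˣ) : detU d (scalarU d c) = c ^ d := by
  apply Units.ext
  show LinearMap.det (algebraMap ℂ (Module.End ℂ (Fin d → ℂ)) (c : ℂ)) = ((c ^ d : ℂˣ) : ℂ)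
  rw [Algebra.algebraMap_eq_smul_one, LinearMap.det_smul, Module.finrank_fin_fun]
  simp

variable {N : Type*} [Group N] {d : ℕ}

/-- An endomorphism unit commuting with an irreducible representation is a scalar unit. -/
theorem exists_scalarU_of_commute (ρ : Representation ℂ N (Fin d → ℂ)) [ρ.IsIrreducible]
    (A : EndU d) (hA : ∀ n : N, A * MonoidHom.toHomUnits ρ n = MonoidHom.toHomUnits ρ n * A) :
    ∃ c : ℂˣ, A = scalarU d c := by
  obtain ⟨c, hc⟩ := Helper81.schur_scalar ρ (A : Module.End ℂ (Fin d → ℂ))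
    (fun n => congrArg Units.val (hA n))
  have hVnt : Nontrivial (Fin d → ℂ) := Helper81.nontrivial_of_irreducible ρ
  have hc0 : c ≠ 0 := by
    rintro rfl
    rw [zero_smul] at hc
    have h1 : (A : Module.End ℂ (Fin d → ℂ)) * (A⁻¹ : EndU d) = 1 := Units.mul_inv A
    rw [hc, zero_mul] at h1
    obtain ⟨v, hv⟩ := exists_ne (0 : Fin d → ℂ)
    have := congrArg (fun f : Module.End ℂ (Fin d → ℂ) => f v) h1
    simp at this
    exact hv this.symm
  refine ⟨Units.mk0 c hc0, ?_⟩
  apply Units.ext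
  rw [hc]
  show c • LinearMap.id = algebraMap ℂ (Module.End ℂ (Fin d → ℂ)) c
  rw [Algebra.algebraMap_eq_smul_one]
  rfl

theorem mem_center_of_commute (ρ : Representation ℂ N (Fin d → ℂ)) [ρ.IsIrreducible]
    (A : EndU d) (hA : ∀ n : N, A * MonoidHom.toHomUnits ρ n = MonoidHom.toHomUnits ρ n * A) :
    A ∈ Subgroup.center (EndU d) := by
  obtain ⟨c, rfl⟩ := exists_scalarU_of_commute ρ A hA
  exact scalarU_mem_center d c

theorem finite_center_inf_ker_det (ρ : Representation ℂ N (Fin d → ℂ)) [ρ.IsIrreducible] :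
    Finite ↥(Subgroup.center (EndU d) ⊓ (detU d).ker) := by
  have hVnt : Nontrivial (Fin d → ℂ) := Helper81.nontrivial_of_irreducible ρ
  have hd : d ≠ 0 := by
    rintro rfl
    exact not_subsingleton (Fin 0 → ℂ) inferInstance
  have : NeZero d := ⟨hd⟩
  have hsub : ((Subgroup.center (EndU d) ⊓ (detU d).ker : Subgroup (EndU d)) : Set (EndU d)) ⊆
      (scalarU d) '' (rootsOfUnity d ℂ : Set ℂˣ) := by
    rintro A ⟨hA1, hA2⟩
    obtain ⟨c, rfl⟩ := exists_scalarU_of_commute ρ A
      (fun n => (Subgroup.mem_center_iff.mp hA1 _).symm)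
    refine ⟨c, ?_, rfl⟩
    have : detU d (scalarU d c) = 1 := hA2
    rw [detU_scalarU] at this
    exact (mem_rootsOfUnity d c).mpr this
  have hfin : (rootsOfUnity d ℂ : Set ℂˣ).Finite :=
    Set.finite_coe_iff.mp (inferInstanceAs (Finite (rootsOfUnity d ℂ)))
  exact ((hfin.image (scalarU d)).subset hsub).to_subtype

/-- Representations on `Fin d → ℂ` with equal characters are conjugate by a unit. -/
theorem exists_intertwiner_of_character_eq [Finite N] (ρ σ : Representation ℂ N (Fin d → ℂ))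
    (h : ρ.character = σ.character) :
    ∃ E : EndU d, ∀ n : N, E * MonoidHom.toHomUnits ρ n = MonoidHom.toHomUnits σ n * E := by
  have : Fintype N := Fintype.ofFinite N
  obtain ⟨φ⟩ := Helper3.equiv_of_character_eq ρ σ h
  let e : (Fin d → ℂ) ≃ₗ[ℂ] (Fin d → ℂ) := φ.toLinearEquiv
  have he : ∀ m : N, e.toLinearMap ∘ₗ ρ m = σ m ∘ₗ e.toLinearMap := fun m => φ.1.2 m
  refine ⟨⟨e.toLinearMap, e.symm.toLinearMap, by ext v; simp, by ext v; simp⟩, fun n => ?_⟩
  apply Units.ext
  exact he n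


/-- **Extension of an invariant irreducible representation from Sylow-type extensions.** -/
theorem exists_rep_extension_of_sylow {G : Type*} [Group G] [Finite G] (N : Subgroup G)
    [hN : N.Normal] {d : ℕ} (ρ : Representation ℂ N (Fin d → ℂ)) [ρ.IsIrreducible]
    (hinv : ∀ (g : G) (n : N),
      ρ.character ⟨g * n * g⁻¹, hN.conj_mem n n.2 g⟩ = ρ.character n)
    (hsyl : ∀ p : ℕ, p.Prime → ∃ (P : Subgroup G) (hNP : N ≤ P) (η : P → ℂ),
      Nat.Coprime P.index p ∧ Cfsg.IsIrrCharacter P η ∧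
        ∀ n : N, η ⟨(n : G), hNP n.2⟩ = ρ.character n) :
    ∃ F : G →* EndU d, ∀ n : N, F n = MonoidHom.toHomUnits ρ n := by
  classical
  have hVnt : Nontrivial (Fin d → ℂ) := Helper81.nontrivial_of_irreducible ρ
  have hd : d ≠ 0 := by
    rintro rfl
    exact not_subsingleton (Fin 0 → ℂ) inferInstance
  apply exists_hom_extension_of_sylow N (MonoidHom.toHomUnits ρ) (detU d).ker
    (mem_center_of_commute ρ) ?_ (finite_center_inf_ker_det ρ) ?_
  · -- lifting
    intro g
    let cj : N →* N :=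
      { toFun := fun m => ⟨g * m * g⁻¹, hN.conj_mem m m.2 g⟩
        map_one' := by apply Subtype.ext; simp
        map_mul' := fun a b => by apply Subtype.ext; simp [mul_assoc] }
    let ρg : Representation ℂ N (Fin d → ℂ) := ρ.comp cj
    have hρg_char : ρ.character = ρg.character := by
      funext m
      exact (hinv g m).symm
    obtain ⟨E, hE⟩ := exists_intertwiner_of_character_eq ρ ρg hρg_char
    have hE' : ∀ n : N, E * MonoidHom.toHomUnits ρ n * E⁻¹ =
        MonoidHom.toHomUnits ρ ⟨g * n * g⁻¹, hN.conj_mem n n.2 g⟩ := by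
      intro n
      rw [mul_inv_eq_iff_eq_mul, hE n]
      congr 1
      apply Units.ext
      rfl
    -- scale to determinant one
    obtain ⟨c, hc⟩ := IsAlgClosed.exists_pow_nat_eq (((detU d E)⁻¹ : ℂˣ) : ℂ)
      (Nat.pos_of_ne_zero hd)
    have hc0 : c ≠ 0 := by
      rintro rfl
      rw [zero_pow hd] at hc
      exact (Units.ne_zero _) hc.symm
    let z : EndU d := scalarU d (Units.mk0 c hc0)
    have hz : z ∈ Subgroup.center (EndU d) := scalarU_mem_center d _
    have hzc : ∀ u : EndU d, z * u * z⁻¹ = u := fun u => by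
      rw [← (Subgroup.mem_center_iff.mp hz) u, mul_assoc, mul_inv_cancel, mul_one]
    refine ⟨z * E, ?_, fun n => ?_⟩
    · rw [MonoidHom.mem_ker, map_mul, detU_scalarU]
      have : (Units.mk0 c hc0) ^ d = (detU d E)⁻¹ := by
        apply Units.ext
        rw [Units.val_pow_eq_pow_val]
        exact hc
      rw [this, inv_mul_cancel]
    · rw [← hE' n]
      calc z * E * MonoidHom.toHomUnits ρ n * (z * E)⁻¹
          = z * (E * MonoidHom.toHomUnits ρ n * E⁻¹) * z⁻¹ := by group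
        _ = _ := hzc _
  · -- Sylow extensions
    intro p hp
    obtain ⟨P, hNP, η, hcop, hη, hres⟩ := hsyl p hp
    obtain ⟨d', σ', hσ'irr, rfl⟩ := hη
    have hdd : d' = d := by
      have h1 := hres 1
      have e1 : (⟨((1 : N) : G), hNP (1 : N).2⟩ : P) = 1 := Subtype.ext rfl
      rw [e1, Representation.char_one, Representation.char_one, Module.finrank_fin_fun,
        Module.finrank_fin_fun] at h1
      exact_mod_cast h1
    subst hdd
    let σN : Representation ℂ N (Fin d' → ℂ) := σ'.comp (Subgroup.inclusion hNP)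
    have hchar : ρ.character = σN.character := by
      funext m
      exact (hres m).symm
    obtain ⟨E, hE⟩ := exists_intertwiner_of_character_eq ρ σN hchar
    refine ⟨P, hNP, (MulAut.conj E⁻¹).toMonoidHom.comp (MonoidHom.toHomUnits σ'), hcop,
      fun n => ?_⟩
    show E⁻¹ * MonoidHom.toHomUnits σ' ⟨(n : G), hNP n.2⟩ * E⁻¹⁻¹ = MonoidHom.toHomUnits ρ n
    rw [inv_inv, mul_assoc, inv_mul_eq_iff_eq_mul, hE n]
    congr 1

end concrete

end Cfsg.Agent.Helper15
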