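import Mathlib
import Cfsg.Prelude.Def_Characters
import Cfsg.Agent.Helper15.TransferLin
import Cfsg.Agent.Helper80.Degree

set_option autoImplicit false

/-!
# Facts on `p`-elementary subgroups used for extending invariant characters

* `exists_hom_extension_of_commutator`: a linear character of a subgroup `B` of a finite group
  `E` which is trivial on `B ∩ E'` extends to `E`.
* `eq_one_of_mem_commutator_of_linear_extend`: if all linear characters of a central subgroup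
  `A` of `P` extend to `P` then `A ∩ P' = 1`.
* `elementary_inf_facts`: structure of `E ∩ N` for a `p`-elementary subgroup `E`.
* `irr_one_eq_one_of_comm`: irreducible characters of commutative groups are linear.
-/

namespace Cfsg.Agent.Helper15

open Cfsg
open scoped commutatorElement Pointwise

/-- A homomorphism `B →* ℂˣ` from a subgroup of a finite group `E` which is trivial on
`B ∩ E'` extends to `E`. -/
theorem exists_hom_extension_of_commutator {E : Type*} [Group E] [Finite E] (B : Subgroup E)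
    (lam : B →* ℂˣ) (h : ∀ b : B, (b : E) ∈ commutator E → lam b = 1) :
    ∃ μ : E →* ℂˣ, ∀ b : B, μ b = lam b := by
  classical
  let ab : E →* Abelianization E := Abelianization.of
  let B' : Subgroup (Abelianization E) := B.map ab
  -- the surjection `B → B'`
  let f : B →* B' := (ab.comp B.subtype).codRestrict B' (fun b => Subgroup.mem_map_of_mem ab b.2)
  have hf : Function.Surjective f := by
    rintro ⟨y, hy⟩
    obtain ⟨b, hb, rfl⟩ := Subgroup.mem_map.mp hy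
    exact ⟨⟨b, hb⟩, rfl⟩
  have hker : f.ker ≤ lam.ker := by
    intro b hb
    rw [MonoidHom.mem_ker] at hb ⊢
    apply h
    have h1 : ab (b : E) = 1 := congrArg Subtype.val hb
    have h2 : (b : E) ∈ (Abelianization.of : E →* Abelianization E).ker := h1
    rwa [Abelianization.ker_of] at h2
  let lam' : B' →* ℂˣ := f.liftOfSurjective hf ⟨lam, hker⟩
  have hlam' : ∀ b : B, lam' (f b) = lam b := by
    intro b
    exact MonoidHom.liftOfRightInverse_comp_apply f (Function.surjInv hf)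
      (Function.rightInverse_surjInv hf) ⟨lam, hker⟩ b
  obtain ⟨ν, hν⟩ := MonoidHom.domRestrict_surjective (G := Abelianization E) ℂ B' lam'
  refine ⟨ν.comp ab, fun b => ?_⟩
  rw [← hlam' b, ← hν]
  rfl

/-- If every linear character of a subgroup `A`, central in `P`, extends to `P`, then `A`
meets the commutator subgroup of `P` trivially. -/
theorem eq_one_of_mem_commutator_of_linear_extend {G : Type*} [Group G] [Finite G]
    (P A : Subgroup G) (hAP : A ≤ P) (hcent : ∀ x ∈ A, ∀ y ∈ P, x * y = y * x)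
    (hlin : ∀ lam : ↥A → ℂ, IsCharacter ↥A lam → lam 1 = 1 →
      ∃ μ : ↥P → ℂ, IsCharacter ↥P μ ∧ μ 1 = 1 ∧ ∀ x : ↥A, μ ⟨(x : G), hAP x.2⟩ = lam x)
    {z : G} (hzA : z ∈ A) (hzc : z ∈ ⁅P, P⁆) : z = 1 := by
  classical
  by_contra hz
  let _ : CommGroup ↥A :=
    { (inferInstance : Group ↥A) with
      mul_comm := fun a b => Subtype.ext (hcent a a.2 b (hAP b.2)) }
  have hne : (⟨z, hzA⟩ : ↥A) ≠ 1 := fun h => hz (congrArg Subtype.val h)
  obtain ⟨φ, hφ⟩ := CommGroup.exists_apply_ne_one_of_hasEnoughRootsOfUnity ↥A ℂ hne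
  obtain ⟨μ, hμ, hμ1, hμA⟩ := hlin (unitsFun φ) (isCharacter_unitsFun φ).1
    (isCharacter_unitsFun φ).2
  let μ' : ↥P →* ℂˣ := linCharUnits hμ hμ1
  have hle : ⁅P, P⁆ ≤ (μ'.ker).map P.subtype := by
    rw [Subgroup.commutator_le]
    intro a ha b hb
    refine ⟨(⟨a, ha⟩ : ↥P) * ⟨b, hb⟩ * (⟨a, ha⟩ : ↥P)⁻¹ * (⟨b, hb⟩ : ↥P)⁻¹, ?_, rfl⟩
    rw [SetLike.mem_coe, MonoidHom.mem_ker, map_mul, map_mul, map_mul, map_inv, map_inv]
    rw [mul_comm (μ' ⟨a, ha⟩), mul_assoc, mul_assoc, mul_inv_cancel_left, mul_inv_cancel]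
  obtain ⟨w, hw, hwz⟩ := hle hzc
  have h1 : μ w = 1 := by
    have : μ' w = 1 := hw
    have h2 := congrArg (fun u : ℂˣ => (u : ℂ)) this
    simpa [μ'] using h2
  have h2 : w = ⟨z, hAP hzA⟩ := Subtype.ext hwz
  have h3 := hμA ⟨z, hzA⟩
  rw [← h2, h1] at h3
  apply hφ
  apply Units.ext
  exact h3.symm

/-- Commutators are insensitive to central factors. -/
theorem commutatorElement_central_mul {E : Type*} [Group E] {c₁ c₂ : E}
    (h₁ : c₁ ∈ Subgroup.center E) (h₂ : c₂ ∈ Subgroup.center E) (q₁ q₂ : E) :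
    ⁅c₁ * q₁, c₂ * q₂⁆ = ⁅q₁, q₂⁆ := by
  have hc₁ : ∀ y : E, c₁ * y * c₁⁻¹ = y := fun y => by
    rw [mul_inv_eq_iff_eq_mul]; exact (Subgroup.mem_center_iff.mp h₁ y).symm
  have hc₂ : ∀ y : E, c₂ * y * c₂⁻¹ = y := fun y => by
    rw [mul_inv_eq_iff_eq_mul]; exact (Subgroup.mem_center_iff.mp h₂ y).symm
  rw [commutatorElement_def, commutatorElement_def]
  calc c₁ * q₁ * (c₂ * q₂) * (c₁ * q₁)⁻¹ * (c₂ * q₂)⁻¹
      = (c₁ * (q₁ * c₂ * q₂ * q₁⁻¹) * c₁⁻¹) * q₂⁻¹ * c₂⁻¹ := by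
        rw [mul_inv_rev, mul_inv_rev]; group
    _ = q₁ * (c₂ * (q₂ * q₁⁻¹ * q₂⁻¹) * c₂⁻¹) := by rw [hc₁]; group
    _ = q₁ * (q₂ * q₁⁻¹ * q₂⁻¹) := by rw [hc₂]
    _ = q₁ * q₂ * q₁⁻¹ * q₂⁻¹ := by group

/-- An element of order prime to `p` lies in every normal subgroup of `p`-power index. -/
theorem mem_of_coprime_orderOf_of_index {G : Type*} [Group G] [Finite G] {p : ℕ}
    (N : Subgroup G) [N.Normal] {k : ℕ} (hind : N.index = p ^ k) {x : G}
    (hx : (orderOf x).Coprime p) : x ∈ N := by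
  rw [← QuotientGroup.eq_one_iff]
  have h1 : ((x : G ⧸ N)) ^ (p ^ k) = 1 := by
    rw [← hind, Subgroup.index_eq_card]
    exact pow_card_eq_one'
  have h2 : ((x : G ⧸ N)) ^ orderOf x = 1 := by
    rw [← QuotientGroup.mk_pow, pow_orderOf_eq_one]; rfl
  have h3 : orderOf (x : G ⧸ N) ∣ Nat.gcd (orderOf x) (p ^ k) :=
    Nat.dvd_gcd (orderOf_dvd_of_pow_eq_one h2) (orderOf_dvd_of_pow_eq_one h1)
  have h4 : Nat.gcd (orderOf x) (p ^ k) = 1 := Nat.Coprime.pow_right k hx
  rw [h4, Nat.dvd_one, orderOf_eq_one_iff] at h3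
  exact h3

/-- In a `p`-elementary group, every element is a product of an element of the central
cyclic `p'`-subgroup and an element of a given Sylow `p`-subgroup. -/
theorem exists_mul_of_isElementary {E : Type*} [Group E] [Finite E] {p : ℕ} [Fact p.Prime]
    {x : E} (hx : x ∈ Subgroup.center E) {k : ℕ} (hk : (Subgroup.zpowers x).index = p ^ k)
    (Q : Sylow p E) (e : E) :
    ∃ c ∈ Subgroup.zpowers x, ∃ q ∈ (Q : Subgroup E), e = c * q := by
  have hC : Subgroup.zpowers x ≤ Subgroup.center E := by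
    rw [Subgroup.zpowers_le]; exact hx
  have hCn : (Subgroup.zpowers x).Normal := by
    constructor
    intro n hn g
    have := Subgroup.mem_center_iff.mp (hC hn) g
    rw [this, mul_inv_cancel_right]
    exact hn
  have h1 : (Subgroup.zpowers x ⊔ (Q : Subgroup E)).index ∣ p ^ k := by
    rw [← hk]; exact Subgroup.index_dvd_of_le le_sup_left
  have h2 : (Subgroup.zpowers x ⊔ (Q : Subgroup E)).index ∣ (Q : Subgroup E).index :=
    Subgroup.index_dvd_of_le le_sup_right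
  have h3 : ¬ p ∣ (Q : Subgroup E).index := Q.not_dvd_index
  have h4 : (Subgroup.zpowers x ⊔ (Q : Subgroup E)).index = 1 := by
    obtain ⟨j, -, hj⟩ := (Nat.dvd_prime_pow (Fact.out : p.Prime)).mp h1
    rcases Nat.eq_zero_or_pos j with h0 | hpos
    · rw [hj, h0, pow_zero]
    · exfalso
      apply h3
      refine dvd_trans ?_ h2
      rw [hj]
      exact dvd_pow_self p hpos.ne'
  have h5 : e ∈ Subgroup.zpowers x ⊔ (Q : Subgroup E) := by
    rw [Subgroup.index_eq_one.mp h4]; exact Subgroup.mem_top e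
  have h6 : e ∈ ((Subgroup.zpowers x : Subgroup E) : Set E) * ((Q : Subgroup E) : Set E) := by
    rw [← Subgroup.normal_mul]; exact h5
  obtain ⟨c, hc, q, hq, rfl⟩ := Set.mem_mul.mp h6
  exact ⟨c, hc, q, hq, rfl⟩

theorem commutator_self_le {G : Type*} [Group G] (P : Subgroup G) : ⁅P, P⁆ ≤ P :=
  Subgroup.commutator_le.mpr (fun a ha b hb =>
    P.mul_mem (P.mul_mem (P.mul_mem ha hb) (P.inv_mem ha)) (P.inv_mem hb))

/-- The two properties of the Sylow subgroup `P` used below pass to every Sylow subgroup. -/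
theorem sylow_transfer_facts {G : Type*} [Group G] [Finite G] {p : ℕ} [Fact p.Prime]
    (N : Subgroup G) [hN : N.Normal] (P P' : Sylow p G)
    (hcent : ∀ x ∈ (P : Subgroup G) ⊓ N, ∀ y ∈ (P : Subgroup G), x * y = y * x)
    (htriv : ∀ z ∈ (P : Subgroup G) ⊓ N, z ∈ ⁅(P : Subgroup G), (P : Subgroup G)⁆ → z = 1) :
    (∀ x ∈ (P' : Subgroup G) ⊓ N, ∀ y ∈ (P' : Subgroup G), x * y = y * x) ∧
    (∀ z ∈ (P' : Subgroup G) ⊓ N, z ∈ ⁅(P' : Subgroup G), (P' : Subgroup G)⁆ → z = 1) := by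
  obtain ⟨g, hg⟩ := MulAction.exists_smul_eq G P P'
  have hP' : (P' : Subgroup G) = (P : Subgroup G).map (MulAut.conj g).toMonoidHom := by
    rw [← hg, Sylow.coe_subgroup_smul]
    rfl
  have hNmem : ∀ x₀ : G, (MulAut.conj g).toMonoidHom x₀ ∈ N → x₀ ∈ N := by
    intro x₀ h
    have h1 : g * x₀ * g⁻¹ ∈ N := h
    have h2 := hN.conj_mem _ h1 g⁻¹
    have h3 : g⁻¹ * (g * x₀ * g⁻¹) * g⁻¹⁻¹ = x₀ := by group
    rwa [h3] at h2
  constructor
  · intro x hx y hy
    rw [hP'] at hx hy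
    obtain ⟨x₀, hx₀, rfl⟩ := Subgroup.mem_map.mp hx.1
    obtain ⟨y₀, hy₀, rfl⟩ := Subgroup.mem_map.mp hy
    have := hcent x₀ ⟨hx₀, hNmem x₀ hx.2⟩ y₀ hy₀
    rw [← map_mul, ← map_mul, this]
  · intro z hz hzc
    rw [hP'] at hz
    rw [hP', ← Subgroup.map_commutator] at hzc
    obtain ⟨z₀, hz₀, rfl⟩ := Subgroup.mem_map.mp hzc
    have h1 : z₀ ∈ (P : Subgroup G) := commutator_self_le _ hz₀
    rw [htriv z₀ ⟨h1, hNmem z₀ hz.2⟩ hz₀, map_one]

/-- Structure of the intersection of a `p`-elementary subgroup with `N`. -/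
theorem elementary_inf_facts {G : Type*} [Group G] [Finite G] {p : ℕ} [Fact p.Prime]
    (N : Subgroup G) [hN : N.Normal] {k : ℕ} (hind : N.index = p ^ k) (P : Sylow p G)
    (hcent : ∀ x ∈ (P : Subgroup G) ⊓ N, ∀ y ∈ (P : Subgroup G), x * y = y * x)
    (htriv : ∀ z ∈ (P : Subgroup G) ⊓ N, z ∈ ⁅(P : Subgroup G), (P : Subgroup G)⁆ → z = 1)
    (E : Subgroup G) (hE : Cfsg.IsElementary p ↥E) :
    (∀ a ∈ E ⊓ N, ∀ b ∈ E ⊓ N, a * b = b * a) ∧
    (∀ b : ↥E, (b : G) ∈ N → b ∈ commutator ↥E → b = 1) := by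
  obtain ⟨x, hx, hxo, k', hk'⟩ := hE
  obtain ⟨Q⟩ : Nonempty (Sylow p ↥E) := inferInstance
  have hQG : IsPGroup p ((Q : Subgroup ↥E).map E.subtype) := Q.isPGroup'.map E.subtype
  obtain ⟨P', hP'⟩ := hQG.exists_le_sylow
  obtain ⟨hc', ht'⟩ := sylow_transfer_facts N P P' hcent htriv
  have hxN : (x : G) ∈ N := by
    apply mem_of_coprime_orderOf_of_index N hind
    rw [Subgroup.orderOf_coe]; exact hxo
  have hCN : ∀ c ∈ Subgroup.zpowers x, (c : G) ∈ N := by
    have : Subgroup.zpowers x ≤ N.comap E.subtype := by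
      rw [Subgroup.zpowers_le]; exact hxN
    intro c hc; exact this hc
  have hC : Subgroup.zpowers x ≤ Subgroup.center ↥E := by
    rw [Subgroup.zpowers_le]; exact hx
  have dec := exists_mul_of_isElementary hx hk' Q
  have hQP : ∀ q ∈ (Q : Subgroup ↥E), (q : G) ∈ (P' : Subgroup G) := fun q hq =>
    hP' (Subgroup.mem_map_of_mem E.subtype hq)
  constructor
  · intro a ha b hb
    obtain ⟨c₁, hc₁, q₁, hq₁, h1⟩ := dec ⟨a, ha.1⟩
    obtain ⟨c₂, hc₂, q₂, hq₂, h2⟩ := dec ⟨b, hb.1⟩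
    have hq₁N : (q₁ : G) ∈ N := by
      have : (q₁ : G) = (c₁ : G)⁻¹ * a := by
        have := congrArg Subtype.val h1
        simp only [Subgroup.coe_mul] at this
        rw [this]; group
      rw [this]
      exact N.mul_mem (N.inv_mem (hCN c₁ hc₁)) ha.2
    have e4 : q₁ * q₂ = q₂ * q₁ := Subtype.ext (hc' q₁ ⟨hQP q₁ hq₁, hq₁N⟩ q₂ (hQP q₂ hq₂))
    have e1 : q₁ * c₂ = c₂ * q₁ := Subgroup.mem_center_iff.mp (hC hc₂) q₁
    have e2 : q₂ * c₁ = c₁ * q₂ := Subgroup.mem_center_iff.mp (hC hc₁) q₂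
    have e3 : c₂ * c₁ = c₁ * c₂ := Subgroup.mem_center_iff.mp (hC hc₁) c₂
    have key : c₁ * q₁ * (c₂ * q₂) = c₂ * q₂ * (c₁ * q₁) := by
      calc c₁ * q₁ * (c₂ * q₂) = c₁ * (q₁ * c₂) * q₂ := by group
        _ = c₁ * (c₂ * q₁) * q₂ := by rw [e1]
        _ = (c₁ * c₂) * (q₁ * q₂) := by group
        _ = (c₂ * c₁) * (q₂ * q₁) := by rw [e3, e4]
        _ = c₂ * (c₁ * q₂) * q₁ := by group
        _ = c₂ * (q₂ * c₁) * q₁ := by rw [e2]
        _ = c₂ * q₂ * (c₁ * q₁) := by group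
    rw [← h1, ← h2] at key
    exact congrArg Subtype.val key
  · intro b hbN hbc
    rw [commutator_def] at hbc
    have hle : ⁅(⊤ : Subgroup ↥E), ⊤⁆ ≤ ⁅(Q : Subgroup ↥E), (Q : Subgroup ↥E)⁆ := by
      rw [Subgroup.commutator_le]
      intro g₁ _ g₂ _
      obtain ⟨c₁, hc₁, q₁, hq₁, rfl⟩ := dec g₁
      obtain ⟨c₂, hc₂, q₂, hq₂, rfl⟩ := dec g₂
      rw [commutatorElement_central_mul (hC hc₁) (hC hc₂)]
      exact Subgroup.commutator_mem_commutator hq₁ hq₂
    have hbQ := hle hbc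
    have h1 : (b : G) ∈ (⁅(Q : Subgroup ↥E), (Q : Subgroup ↥E)⁆).map E.subtype :=
      Subgroup.mem_map_of_mem E.subtype hbQ
    rw [Subgroup.map_commutator] at h1
    have h2 : (b : G) ∈ ⁅(P' : Subgroup G), (P' : Subgroup G)⁆ :=
      Subgroup.commutator_mono hP' hP' h1
    have h3 : (b : G) ∈ (P' : Subgroup G) := hQP b (commutator_self_le _ hbQ)
    exact Subtype.ext (ht' (b : G) ⟨h3, hbN⟩ h2)

/-- Irreducible characters of a commutative finite group have degree `1`. -/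
theorem irr_one_eq_one_of_comm {A : Type*} [Group A] [Finite A] (hA : ∀ a b : A, a * b = b * a)
    {μ : A → ℂ} (hμ : IsIrrCharacter A μ) : μ 1 = 1 := by
  have hcen : Subgroup.center A = ⊤ := by
    rw [eq_top_iff]
    intro g _
    rw [Subgroup.mem_center_iff]
    intro h
    exact hA h g
  have h1 := Helper80.IsIrrCharacter.charDegree_sq_le_index_center hμ
  rw [hcen, Subgroup.index_top] at h1
  have h2 := Helper80.IsIrrCharacter.charDegree_pos hμ
  have h3 : charDegree μ = 1 := by nlinarith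
  rw [← Helper80.IsCharacter.charDegree_cast (Helper80.IsIrrCharacter.isCharacter hμ), h3,
    Nat.cast_one]

end Cfsg.Agent.Helper15
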