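import Mathlib

/-!
# S4257 (class-size prime graph, diameter ≤ 3): definitions (helper15)

`cs g` is the size of the conjugacy class of `g`.  `Good G b`: the Sylow `b`-subgroups of `G` are
central in their normalizers.  `Split G π K H`: `K` is a normal subgroup with an abelian complement
`H`, every prime divisor of `|H|` lies in `π`, and no element of `π` divides `|K|`.
-/

set_option autoImplicit false

namespace Cfsg.Agent.Helper15.CSG

open Subgroup

/-- The class size of `g`. -/
noncomputable abbrev cs {G : Type*} [Group G] (g : G) : ℕ := (centralizer ({g} : Set G)).index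

/-- The Sylow `b`-subgroups are central in their normalizers. -/
def Good (G : Type*) [Group G] (b : ℕ) : Prop :=
  ∀ P : Sylow b G, normalizer ((P : Subgroup G) : Set G) ≤ centralizer ((P : Subgroup G) : Set G)

/-- `G = K ⋊ H` with `H` an abelian `π`-group and `K` a `π'`-group. -/
structure Split (G : Type*) [Group G] (π : Set ℕ) (K H : Subgroup G) : Prop where
  normal : K.Normal
  compl : K.IsComplement' H
  comm : ∀ x ∈ H, ∀ y ∈ H, x * y = y * x
  hH : ∀ r : ℕ, r.Prime → r ∣ Nat.card H → r ∈ π
  hK : ∀ b ∈ π, ¬ b ∣ Nat.card K

end Cfsg.Agent.Helper15.CSG
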