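import Mathlib

/-!
# Fourier analysis on a finite abelian group, and the Gram matrix of exceptional multiplicities
(helper15)

`Q` is a finite commutative group with dual `Q →* ℂˣ`.  For `f : Q → ℂ` the Fourier coefficient is
`coef f ψ = |Q|⁻¹ ∑ z, f z * conj (ψ z)` (this is `Cfsg.classInner f ψ`), and
`acoef f ψ = coef f ψ - coef f 1`.

Main results:
* `row_orth`, `col_orth`: orthogonality relations;
* `inversion`, `inversion_ne_one`: `f z = ∑ ψ, coef f ψ * ψ z`, and for `z ≠ 1` also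
  `f z = ∑ ψ, acoef f ψ * ψ z`;
* `gram`: if a group `A` of automorphisms of `Q` acts freely on `Q \ {1}` and a family
  `X : ι → Q → ℂ` satisfies `∑ i, X i y * conj (X i y') = |Q| * [y' ∈ A y]` for `y, y' ≠ 1`, then
  `∑ i, acoef (X i) ψ * conj (acoef (X i) ψ') = |A| + [ψ ∈ ψ' ∘ A]` for `ψ, ψ' ≠ 1`;
* `acoef_sum_eq_zero`: linear relations among the columns `y ≠ 1` pass to the `acoef`.
-/

set_option autoImplicit false

namespace Cfsg.Agent.Helper15.AbFourier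

open Finset
open scoped ComplexConjugate

variable {Q : Type*} [CommGroup Q] [Fintype Q]

theorem norm_apply (ψ : Q →* ℂˣ) (z : Q) : ‖((ψ z : ℂˣ) : ℂ)‖ = 1 := by
  apply Complex.norm_eq_one_of_pow_eq_one (n := Fintype.card Q) _ Fintype.card_ne_zero
  rw [← Units.val_pow_eq_pow_val, ← map_pow, pow_card_eq_one, map_one, Units.val_one]

theorem conj_apply (ψ : Q →* ℂˣ) (z : Q) :
    conj ((ψ z : ℂˣ) : ℂ) = ((ψ z⁻¹ : ℂˣ) : ℂ) := by
  rw [← Complex.inv_eq_conj (norm_apply ψ z), map_inv, Units.val_inv_eq_inv_val]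

theorem sum_apply_eq_zero {ψ : Q →* ℂˣ} (hψ : ψ ≠ 1) : ∑ z, ((ψ z : ℂˣ) : ℂ) = 0 := by
  have h := sum_hom_units_eq_zero ((Units.coeHom ℂ).comp ψ) (by
    intro hcon
    apply hψ
    ext z
    have := DFunLike.congr_fun hcon z
    simpa using this)
  simpa using h

theorem sum_conj_apply_eq_zero {ψ : Q →* ℂˣ} (hψ : ψ ≠ 1) :
    ∑ z, conj ((ψ z : ℂˣ) : ℂ) = 0 := by
  rw [← map_sum, sum_apply_eq_zero hψ, map_zero]

/-- Row orthogonality. -/
theorem row_orth (ψ ψ' : Q →* ℂˣ) [Decidable (ψ = ψ')] :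
    ∑ z, ((ψ z : ℂˣ) : ℂ) * conj ((ψ' z : ℂˣ) : ℂ) = if ψ = ψ' then (Nat.card Q : ℂ) else 0 := by
  have h1 : ∀ z, ((ψ z : ℂˣ) : ℂ) * conj ((ψ' z : ℂˣ) : ℂ) = (((ψ * ψ'⁻¹) z : ℂˣ) : ℂ) := by
    intro z
    rw [conj_apply, MonoidHom.mul_apply, MonoidHom.inv_apply, map_inv, Units.val_mul]
  rw [Finset.sum_congr rfl (fun z _ => h1 z)]
  split_ifs with h
  · subst h
    simp [Nat.card_eq_fintype_card]
  · apply sum_apply_eq_zero
    intro hcon
    apply h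
    ext z
    have h2 := DFunLike.congr_fun hcon z
    rw [MonoidHom.mul_apply, MonoidHom.inv_apply, MonoidHom.one_apply, mul_inv_eq_one] at h2
    rw [h2]

variable [Fintype (Q →* ℂˣ)]

theorem card_dual : (Fintype.card (Q →* ℂˣ) : ℂ) = (Nat.card Q : ℂ) := by
  rw [← Nat.card_eq_fintype_card, CommGroup.card_monoidHom_of_hasEnoughRootsOfUnity Q ℂ]

theorem sum_dual_apply_eq_zero {z : Q} (hz : z ≠ 1) : ∑ ψ : Q →* ℂˣ, ((ψ z : ℂˣ) : ℂ) = 0 := by
  obtain ⟨ψ₀, hψ₀⟩ := CommGroup.exists_apply_ne_one_of_hasEnoughRootsOfUnity Q ℂ hz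
  have h1 : ∑ ψ : Q →* ℂˣ, ((ψ z : ℂˣ) : ℂ)
      = ((ψ₀ z : ℂˣ) : ℂ) * ∑ ψ : Q →* ℂˣ, ((ψ z : ℂˣ) : ℂ) := by
    rw [Finset.mul_sum]
    rw [← Equiv.sum_comp (Equiv.mulLeft ψ₀) (fun ψ : Q →* ℂˣ => ((ψ z : ℂˣ) : ℂ))]
    refine Finset.sum_congr rfl (fun ψ _ => ?_)
    simp [MonoidHom.mul_apply]
  have h2 : (1 - ((ψ₀ z : ℂˣ) : ℂ)) * ∑ ψ : Q →* ℂˣ, ((ψ z : ℂˣ) : ℂ) = 0 := by
    rw [sub_mul, one_mul, ← h1, sub_self]
  rcases mul_eq_zero.1 h2 with h | h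
  · exfalso
    apply hψ₀
    ext
    rw [sub_eq_zero] at h
    simp [← h]
  · exact h

/-- Column orthogonality. -/
theorem col_orth (z z' : Q) [Decidable (z = z')] :
    ∑ ψ : Q →* ℂˣ, ((ψ z : ℂˣ) : ℂ) * conj ((ψ z' : ℂˣ) : ℂ)
      = if z = z' then (Nat.card Q : ℂ) else 0 := by
  have h1 : ∀ ψ : Q →* ℂˣ, ((ψ z : ℂˣ) : ℂ) * conj ((ψ z' : ℂˣ) : ℂ)
      = ((ψ (z * z'⁻¹) : ℂˣ) : ℂ) := by
    intro ψ
    rw [conj_apply, map_mul, Units.val_mul]
  rw [Finset.sum_congr rfl (fun ψ _ => h1 ψ)]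
  split_ifs with h
  · subst h
    simp [card_dual]
  · apply sum_dual_apply_eq_zero
    intro hcon
    apply h
    rw [mul_inv_eq_one] at hcon
    exact hcon


omit [Fintype (Q →* ℂˣ)] in
theorem card_ne_zero' : (Nat.card Q : ℂ) ≠ 0 := by
  exact_mod_cast Nat.card_pos.ne'

/-- The Fourier coefficient of `f` at `ψ` (this is `Cfsg.classInner f ψ`). -/
noncomputable def coef (f : Q → ℂ) (ψ : Q →* ℂˣ) : ℂ :=
  (Nat.card Q : ℂ)⁻¹ * ∑ z, f z * conj ((ψ z : ℂˣ) : ℂ)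

/-- The Fourier coefficient relative to the trivial character. -/
noncomputable def acoef (f : Q → ℂ) (ψ : Q →* ℂˣ) : ℂ := coef f ψ - coef f 1

omit [Fintype (Q →* ℂˣ)] in
theorem acoef_eq (f : Q → ℂ) (ψ : Q →* ℂˣ) :
    acoef f ψ = (Nat.card Q : ℂ)⁻¹ * ∑ z, f z * (conj ((ψ z : ℂˣ) : ℂ) - 1) := by
  unfold acoef coef
  rw [← mul_sub, ← Finset.sum_sub_distrib]
  congr 1
  refine Finset.sum_congr rfl (fun z _ => ?_)
  simp
  ring

omit [Fintype (Q →* ℂˣ)] in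
@[simp] theorem acoef_one (f : Q → ℂ) : acoef f 1 = 0 := by
  unfold acoef
  ring

/-- Fourier inversion. -/
theorem inversion (f : Q → ℂ) (z : Q) :
    f z = ∑ ψ : Q →* ℂˣ, coef f ψ * ((ψ z : ℂˣ) : ℂ) := by
  classical
  have hQ := card_ne_zero' (Q := Q)
  have h1 : ∑ ψ : Q →* ℂˣ, coef f ψ * ((ψ z : ℂˣ) : ℂ)
      = (Nat.card Q : ℂ)⁻¹ * ∑ z', f z' *
          ∑ ψ : Q →* ℂˣ, ((ψ z : ℂˣ) : ℂ) * conj ((ψ z' : ℂˣ) : ℂ) := by
    unfold coef
    simp only [Finset.mul_sum, Finset.sum_mul]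
    rw [Finset.sum_comm]
    refine Finset.sum_congr rfl (fun z' _ => Finset.sum_congr rfl (fun ψ _ => ?_))
    ring
  rw [h1]
  simp only [col_orth]
  rw [Finset.sum_eq_single z]
  · rw [if_pos rfl]
    field_simp
  · intro z' _ hne
    rw [if_neg (fun h => hne h.symm), mul_zero]
  · intro h
    exact absurd (mem_univ z) h

/-- Fourier inversion away from the identity, in terms of the relative coefficients. -/
theorem inversion_ne_one (f : Q → ℂ) {z : Q} (hz : z ≠ 1) :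
    f z = ∑ ψ : Q →* ℂˣ, acoef f ψ * ((ψ z : ℂˣ) : ℂ) := by
  have h1 : ∑ ψ : Q →* ℂˣ, acoef f ψ * ((ψ z : ℂˣ) : ℂ)
      = ∑ ψ : Q →* ℂˣ, coef f ψ * ((ψ z : ℂˣ) : ℂ)
        - coef f 1 * ∑ ψ : Q →* ℂˣ, ((ψ z : ℂˣ) : ℂ) := by
    rw [Finset.mul_sum, ← Finset.sum_sub_distrib]
    refine Finset.sum_congr rfl (fun ψ _ => ?_)
    unfold acoef
    ring
  rw [h1, sum_dual_apply_eq_zero hz, mul_zero, sub_zero, ← inversion]

/-- The value at the identity. -/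
theorem apply_one_eq (f : Q → ℂ) :
    f 1 = ∑ ψ : Q →* ℂˣ, acoef f ψ + (Nat.card Q : ℂ) * coef f 1 := by
  have h1 : ∑ ψ : Q →* ℂˣ, acoef f ψ
      = ∑ ψ : Q →* ℂˣ, coef f ψ * ((ψ 1 : ℂˣ) : ℂ) - (Nat.card Q : ℂ) * coef f 1 := by
    unfold acoef
    rw [Finset.sum_sub_distrib, Finset.sum_const, Finset.card_univ, nsmul_eq_mul, card_dual]
    congr 1
    refine Finset.sum_congr rfl (fun ψ _ => ?_)
    simp
  rw [h1, ← inversion]
  ring


omit [Fintype (Q →* ℂˣ)] in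
/-- The relative coefficients of the constant function `1`. -/
theorem acoef_one_fun {ψ : Q →* ℂˣ} (hψ : ψ ≠ 1) : acoef (fun _ : Q => (1 : ℂ)) ψ = -1 := by
  have hQ := card_ne_zero' (Q := Q)
  rw [acoef_eq]
  simp only [one_mul]
  rw [Finset.sum_sub_distrib, sum_conj_apply_eq_zero hψ, Finset.sum_const, Finset.card_univ,
    nsmul_eq_mul, mul_one, zero_sub, ← Nat.card_eq_fintype_card]
  field_simp

section Gram

variable {ι : Type*} [Fintype ι]

omit [Fintype Q] [Fintype (Q →* ℂˣ)] in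
/-- A group of automorphisms acting freely on `Q \ {1}` acts freely on the non-trivial elements
of the dual. -/
theorem dual_free [Finite Q] (A : Subgroup (MulAut Q))
    (hfree : ∀ α ∈ A, α ≠ 1 → ∀ z : Q, α z = z → z = 1)
    {ψ : Q →* ℂˣ} (hψ : ψ ≠ 1) {α β : MulAut Q} (hα : α ∈ A) (hβ : β ∈ A)
    (h : ψ.comp (α : Q ≃* Q).toMonoidHom = ψ.comp (β : Q ≃* Q).toMonoidHom) : α = β := by
  by_contra hne
  have hγ : α * β⁻¹ ≠ 1 := by
    intro hcon
    apply hne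
    rw [mul_inv_eq_one] at hcon
    exact hcon
  have hγA : α * β⁻¹ ∈ A := A.mul_mem hα (A.inv_mem hβ)
  -- the homomorphism `z ↦ γ z * z⁻¹`
  let hom : Q →* Q :=
    { toFun := fun z => (α * β⁻¹) z * z⁻¹
      map_one' := by simp
      map_mul' := fun x y => by
        rw [map_mul, mul_inv_rev, mul_comm y⁻¹ x⁻¹, mul_mul_mul_comm] }
  have hinj : Function.Injective hom := by
    rw [injective_iff_map_eq_one]
    intro z hz
    have hz' : (α * β⁻¹) z * z⁻¹ = 1 := hz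
    rw [mul_inv_eq_one] at hz'
    exact hfree _ hγA hγ z hz'
  have hsurj : Function.Surjective hom := Finite.injective_iff_surjective.1 hinj
  apply hψ
  ext z
  obtain ⟨w, rfl⟩ := hsurj z
  have h1 := DFunLike.congr_fun h (β⁻¹ w)
  simp only [MonoidHom.comp_apply, MulEquiv.coe_toMonoidHom] at h1
  have h2 : β (β⁻¹ w) = w := by
    rw [← MulAut.mul_apply, mul_inv_cancel, MulAut.one_apply]
  rw [h2] at h1
  have h3 : hom w = (α * β⁻¹) w * w⁻¹ := rfl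
  rw [h3, MulAut.mul_apply, map_mul, h1, map_inv, mul_inv_cancel]
  rfl


omit [Fintype (Q →* ℂˣ)] in
/-- The Gram matrix of the relative Fourier coefficients, as a sum over `A`. -/
theorem gram_aux (A : Subgroup (MulAut Q)) [Fintype A]
    (hfree : ∀ α ∈ A, α ≠ 1 → ∀ z : Q, α z = z → z = 1)
    (X : ι → Q → ℂ)
    (hCO1 : ∀ y y' : Q, y ≠ 1 → y' ≠ 1 → (∃ α ∈ A, α y = y') →
      ∑ i, X i y * conj (X i y') = (Nat.card Q : ℂ))
    (hCO0 : ∀ y y' : Q, y ≠ 1 → y' ≠ 1 → (¬ ∃ α ∈ A, α y = y') →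
      ∑ i, X i y * conj (X i y') = 0)
    (ψ ψ' : Q →* ℂˣ) (hψ : ψ ≠ 1) (hψ' : ψ' ≠ 1) [DecidableEq (Q →* ℂˣ)] :
    ∑ i, acoef (X i) ψ * conj (acoef (X i) ψ')
      = (Nat.card A : ℂ)
        + ∑ α : A, if ψ'.comp ((α : MulAut Q) : Q ≃* Q).toMonoidHom = ψ then (1 : ℂ) else 0 := by
  classical
  obtain ⟨n, hn⟩ : ∃ n : ℂ, n = (Nat.card Q : ℂ) := ⟨_, rfl⟩
  have hn0 : n ≠ 0 := hn ▸ card_ne_zero'
  let φ : Q → ℂ := fun z => conj ((ψ z : ℂˣ) : ℂ) - 1
  let φ' : Q → ℂ := fun z => ((ψ' z : ℂˣ) : ℂ) - 1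
  have hφ1 : φ 1 = 0 := by simp [φ]
  have hφ'1 : φ' 1 = 0 := by simp [φ']
  let K : Q → Q → ℂ := fun z z' => ∑ i, X i z * conj (X i z')
  -- step 0
  have h0 : ∑ i, acoef (X i) ψ * conj (acoef (X i) ψ')
      = n⁻¹ * n⁻¹ * ∑ z, φ z * ∑ z', φ' z' * K z z' := by
    have ha : ∀ i, acoef (X i) ψ = n⁻¹ * ∑ z, X i z * φ z := fun i => by
      rw [hn]; exact acoef_eq _ _
    have hb : ∀ i, conj (acoef (X i) ψ') = n⁻¹ * ∑ z', conj (X i z') * φ' z' := by
      intro i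
      rw [acoef_eq, map_mul, map_inv₀, Complex.conj_natCast, map_sum, hn]
      congr 1
      refine Finset.sum_congr rfl (fun z _ => ?_)
      rw [map_mul, map_sub, Complex.conj_conj, map_one]
    calc ∑ i, acoef (X i) ψ * conj (acoef (X i) ψ')
        = n⁻¹ * n⁻¹ * ∑ i, ∑ z, ∑ z', (X i z * φ z) * (conj (X i z') * φ' z') := by
          rw [Finset.mul_sum]
          refine Finset.sum_congr rfl (fun i _ => ?_)
          rw [ha, hb, ← Finset.sum_mul_sum]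
          ring
      _ = n⁻¹ * n⁻¹ * ∑ z, ∑ z', ∑ i, (X i z * φ z) * (conj (X i z') * φ' z') := by
          congr 1
          rw [Finset.sum_comm]
          refine Finset.sum_congr rfl (fun z _ => ?_)
          rw [Finset.sum_comm]
      _ = n⁻¹ * n⁻¹ * ∑ z, φ z * ∑ z', φ' z' * K z z' := by
          congr 1
          refine Finset.sum_congr rfl (fun z _ => ?_)
          rw [Finset.mul_sum]
          refine Finset.sum_congr rfl (fun z' _ => ?_)
          simp only [K]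
          rw [Finset.mul_sum, Finset.mul_sum]
          refine Finset.sum_congr rfl (fun i _ => ?_)
          ring
  -- step 1
  have hC1 : ∀ z, z ≠ 1 → ∑ z', φ' z' * K z z' = n * ∑ α : A, φ' ((α : MulAut Q) z) := by
    intro z hz
    have hinj : Function.Injective (fun α : A => (α : MulAut Q) z) := by
      intro α β hαβ
      by_contra hne
      have hγ : (β : MulAut Q)⁻¹ * α ≠ 1 := by
        intro hcon
        apply hne
        rw [inv_mul_eq_one] at hcon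
        exact Subtype.ext hcon.symm
      have hfix : ((β : MulAut Q)⁻¹ * α) z = z := by
        rw [MulAut.mul_apply, show (α : MulAut Q) z = (β : MulAut Q) z from hαβ,
          ← MulAut.mul_apply, inv_mul_cancel, MulAut.one_apply]
      exact hz (hfree _ (A.mul_mem (A.inv_mem β.2) α.2) hγ z hfix)
    have hK : ∀ z', φ' z' * K z z'
        = if z' ∈ univ.image (fun α : A => (α : MulAut Q) z) then n * φ' z' else 0 := by
      intro z'
      by_cases hz' : z' = 1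
      · subst hz'
        rw [hφ'1]
        split_ifs <;> simp
      · by_cases hex : ∃ α ∈ A, α z = z'
        · rw [if_pos, show K z z' = n from hn ▸ hCO1 z z' hz hz' hex]
          · ring
          · obtain ⟨α, hα, hαz⟩ := hex
            exact Finset.mem_image.2 ⟨⟨α, hα⟩, mem_univ _, hαz⟩
        · rw [if_neg, show K z z' = 0 from hCO0 z z' hz hz' hex]
          · ring
          · intro hmem
            obtain ⟨α, _, hαz⟩ := Finset.mem_image.1 hmem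
            exact hex ⟨α, α.2, hαz⟩
    rw [Finset.sum_congr rfl (fun z' _ => hK z'), ← Finset.sum_filter, Finset.filter_mem_eq_inter,
      Finset.univ_inter, Finset.sum_image (fun a _ b _ h => hinj h), Finset.mul_sum]
  -- step 2
  have h1 : ∑ z, φ z * ∑ z', φ' z' * K z z'
      = n * ∑ α : A, ∑ z, φ z * φ' ((α : MulAut Q) z) := by
    have h2 : ∀ z, φ z * ∑ z', φ' z' * K z z' = ∑ α : A, n * (φ z * φ' ((α : MulAut Q) z)) := by
      intro z
      by_cases hz : z = 1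
      · subst hz
        rw [hφ1]
        simp
      · rw [hC1 z hz, Finset.mul_sum, Finset.mul_sum]
        refine Finset.sum_congr rfl (fun α _ => ?_)
        ring
    rw [Finset.sum_congr rfl (fun z _ => h2 z), Finset.sum_comm, Finset.mul_sum]
    refine Finset.sum_congr rfl (fun α _ => ?_)
    rw [Finset.mul_sum]
  -- step 3
  have hC2 : ∀ α : A, ∑ z, φ z * φ' ((α : MulAut Q) z)
      = (if ψ'.comp ((α : MulAut Q) : Q ≃* Q).toMonoidHom = ψ then n else 0) + n := by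
    intro α
    obtain ⟨ψα, hψα⟩ : ∃ ψα : Q →* ℂˣ, ψα = ψ'.comp ((α : MulAut Q) : Q ≃* Q).toMonoidHom :=
      ⟨_, rfl⟩
    have hψα_apply : ∀ z, ψα z = ψ' ((α : MulAut Q) z) := by
      intro z
      rw [hψα]
      rfl
    have hψα1 : ψα ≠ 1 := by
      intro hcon
      apply hψ'
      ext z
      have h3 := DFunLike.congr_fun hcon ((α : MulAut Q)⁻¹ z)
      rw [hψα_apply, ← MulAut.mul_apply, mul_inv_cancel, MulAut.one_apply] at h3
      rw [h3]
      rfl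
    have hexp : ∀ z, φ z * φ' ((α : MulAut Q) z)
        = ((ψα z : ℂˣ) : ℂ) * conj ((ψ z : ℂˣ) : ℂ) - conj ((ψ z : ℂˣ) : ℂ)
          - ((ψα z : ℂˣ) : ℂ) + 1 := by
      intro z
      simp only [φ, φ', hψα_apply]
      ring
    rw [Finset.sum_congr rfl (fun z _ => hexp z), Finset.sum_add_distrib, Finset.sum_sub_distrib,
      Finset.sum_sub_distrib, row_orth, sum_conj_apply_eq_zero hψ, sum_apply_eq_zero hψα1, ← hψα]
    simp [hn, Nat.card_eq_fintype_card]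
  rw [h0, h1, Finset.sum_congr rfl (fun α _ => hC2 α), Finset.sum_add_distrib, Finset.sum_const,
    Finset.card_univ, nsmul_eq_mul, Nat.card_eq_fintype_card (α := A)]
  have h4 : ∑ α : A, (if ψ'.comp ((α : MulAut Q) : Q ≃* Q).toMonoidHom = ψ then n else 0)
      = n * ∑ α : A, if ψ'.comp ((α : MulAut Q) : Q ≃* Q).toMonoidHom = ψ then (1 : ℂ) else 0 := by
    rw [Finset.mul_sum]
    refine Finset.sum_congr rfl (fun α _ => ?_)
    split_ifs <;> simp
  rw [h4]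
  field_simp
  ring


/-- The orbit relation on the dual: `ψ` lies in the `A`-orbit of `ψ'`. -/
def DualRel (A : Subgroup (MulAut Q)) (ψ ψ' : Q →* ℂˣ) : Prop :=
  ∃ α ∈ A, ψ'.comp ((α : MulAut Q) : Q ≃* Q).toMonoidHom = ψ

omit [Fintype Q] [Fintype (Q →* ℂˣ)] in
theorem dualRel_equivalence (A : Subgroup (MulAut Q)) : Equivalence (DualRel A) := by
  refine ⟨fun ψ => ⟨1, A.one_mem, ?_⟩, ?_, ?_⟩
  · ext z
    rfl
  · rintro ψ ψ' ⟨α, hα, h⟩
    refine ⟨α⁻¹, A.inv_mem hα, ?_⟩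
    ext z
    rw [← h]
    simp only [MonoidHom.comp_apply, MulEquiv.coe_toMonoidHom]
    rw [← MulAut.mul_apply, mul_inv_cancel, MulAut.one_apply]
  · rintro ψ₁ ψ₂ ψ₃ ⟨α, hα, h⟩ ⟨β, hβ, h'⟩
    refine ⟨β * α, A.mul_mem hβ hα, ?_⟩
    ext z
    rw [← h, ← h']
    simp only [MonoidHom.comp_apply, MulEquiv.coe_toMonoidHom, MulAut.mul_apply]

omit [Fintype Q] [Fintype (Q →* ℂˣ)] in
theorem dualRel_ne_one (A : Subgroup (MulAut Q)) {ψ ψ' : Q →* ℂˣ} (h : DualRel A ψ ψ')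
    (hψ : ψ ≠ 1) : ψ' ≠ 1 := by
  rintro rfl
  obtain ⟨α, _, h⟩ := h
  apply hψ
  rw [← h]
  ext z
  rfl

omit [Fintype (Q →* ℂˣ)] in
/-- Gram matrix, equivalent case. -/
theorem gram_pos (A : Subgroup (MulAut Q))
    (hfree : ∀ α ∈ A, α ≠ 1 → ∀ z : Q, α z = z → z = 1)
    (X : ι → Q → ℂ)
    (hCO1 : ∀ y y' : Q, y ≠ 1 → y' ≠ 1 → (∃ α ∈ A, α y = y') →
      ∑ i, X i y * conj (X i y') = (Nat.card Q : ℂ))
    (hCO0 : ∀ y y' : Q, y ≠ 1 → y' ≠ 1 → (¬ ∃ α ∈ A, α y = y') →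
      ∑ i, X i y * conj (X i y') = 0)
    (ψ ψ' : Q →* ℂˣ) (hψ : ψ ≠ 1) (hψ' : ψ' ≠ 1) (hr : DualRel A ψ ψ') :
    ∑ i, acoef (X i) ψ * conj (acoef (X i) ψ') = (Nat.card A : ℂ) + 1 := by
  classical
  have : Fintype A := Fintype.ofFinite _
  rw [gram_aux A hfree X hCO1 hCO0 ψ ψ' hψ hψ']
  congr 1
  obtain ⟨α₀, hα₀, h₀⟩ := hr
  rw [Finset.sum_eq_single (⟨α₀, hα₀⟩ : A)]
  · rw [if_pos h₀]
  · intro β _ hne
    rw [if_neg]
    intro hβ
    apply hne
    apply Subtype.ext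
    exact dual_free A hfree hψ' β.2 hα₀ (hβ.trans h₀.symm)
  · intro h
    exact absurd (mem_univ _) h

omit [Fintype (Q →* ℂˣ)] in
/-- Gram matrix, inequivalent case. -/
theorem gram_neg (A : Subgroup (MulAut Q))
    (hfree : ∀ α ∈ A, α ≠ 1 → ∀ z : Q, α z = z → z = 1)
    (X : ι → Q → ℂ)
    (hCO1 : ∀ y y' : Q, y ≠ 1 → y' ≠ 1 → (∃ α ∈ A, α y = y') →
      ∑ i, X i y * conj (X i y') = (Nat.card Q : ℂ))
    (hCO0 : ∀ y y' : Q, y ≠ 1 → y' ≠ 1 → (¬ ∃ α ∈ A, α y = y') →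
      ∑ i, X i y * conj (X i y') = 0)
    (ψ ψ' : Q →* ℂˣ) (hψ : ψ ≠ 1) (hψ' : ψ' ≠ 1) (hr : ¬ DualRel A ψ ψ') :
    ∑ i, acoef (X i) ψ * conj (acoef (X i) ψ') = (Nat.card A : ℂ) := by
  classical
  have : Fintype A := Fintype.ofFinite _
  rw [gram_aux A hfree X hCO1 hCO0 ψ ψ' hψ hψ']
  rw [Finset.sum_eq_zero, add_zero]
  intro β _
  rw [if_neg]
  intro hβ
  exact hr ⟨β, β.2, hβ⟩

omit [Fintype (Q →* ℂˣ)] in
/-- Linear relations among the columns `y ≠ 1` pass to the relative Fourier coefficients. -/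
theorem acoef_sum_eq_zero (X : ι → Q → ℂ) (w : ι → ℂ)
    (hw : ∀ y : Q, y ≠ 1 → ∑ i, X i y * w i = 0) (ψ : Q →* ℂˣ) :
    ∑ i, acoef (X i) ψ * w i = 0 := by
  have h1 : ∑ i, acoef (X i) ψ * w i
      = (Nat.card Q : ℂ)⁻¹ * ∑ z, (conj ((ψ z : ℂˣ) : ℂ) - 1) * ∑ i, X i z * w i := by
    simp only [acoef_eq, Finset.mul_sum, Finset.sum_mul]
    rw [Finset.sum_comm]
    refine Finset.sum_congr rfl (fun z _ => Finset.sum_congr rfl (fun i _ => ?_))
    ring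
  rw [h1, Finset.sum_eq_zero, mul_zero]
  intro z _
  by_cases hz : z = 1
  · subst hz
    simp
  · rw [hw z hz, mul_zero]

/-- Each `DualRel`-class has at most `|A|` elements: the class of `ψ'` is the image of `A`. -/
theorem dualRel_class_card_le (A : Subgroup (MulAut Q)) [Fintype A] (ψ' : Q →* ℂˣ)
    [DecidablePred (fun ψ => DualRel A ψ ψ')] :
    (univ.filter (fun ψ => DualRel A ψ ψ')).card ≤ Fintype.card A := by
  classical
  have hsub : univ.filter (fun ψ => DualRel A ψ ψ')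
      ⊆ univ.image (fun α : A => ψ'.comp ((α : MulAut Q) : Q ≃* Q).toMonoidHom) := by
    intro ψ hψ
    obtain ⟨α, hα, h⟩ := (Finset.mem_filter.1 hψ).2
    exact Finset.mem_image.2 ⟨⟨α, hα⟩, mem_univ _, h⟩
  exact (Finset.card_le_card hsub).trans (Finset.card_image_le.trans (by simp))

end Gram

end Cfsg.Agent.Helper15.AbFourier
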