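import Cfsg.Agent.Helper15.AbelSylowGroup
import Cfsg.Agent.S0942
import Cfsg.Agent.S0947
import Cfsg.Agent.S0925
import Cfsg.Agent.Helper79.ClassMult
import Cfsg.Agent.Helper74.CharBasic

/-!
# The principal block over an abelian Sylow subgroup with Frobenius-type fusion: columns (helper15)

`P` an abelian Sylow `p`-subgroup of `G`; for `y ∈ P \ {1}` with `C_G(y) ∩ N_G(P) ≤ C_G(P)`:
* `principal_const_on_section`: `χ z = χ y` for `χ` in the principal block and `z` with `p`-part `y`;
* `principal_norm_sum`: `∑_{χ ∈ B₀} ‖χ y‖² = |P|`;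
* `principal_orth_of_not_isConj`, `principal_weak_orth`: block orthogonality of the columns.
-/

set_option autoImplicit false

namespace Cfsg.Agent.Helper15.AbelSylow

open Cfsg
open scoped ComplexConjugate

variable {G : Type*} [Group G] [Finite G]

variable (p : ℕ) [hp : Fact p.Prime] (M : Ideal AlgInt) (hM : IsPModular p M) (P : Sylow p G)

omit [Finite G] in
theorem exists_orderOf_eq_of_mem {y : G} (hy : y ∈ P) : ∃ k : ℕ, orderOf y = p ^ k := by
  obtain ⟨k, hk⟩ := (IsPGroup.iff_orderOf.1 P.2) ⟨y, hy⟩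
  exact ⟨k, by rw [← hk, Subgroup.orderOf_mk]⟩

omit [Finite G] in
theorem isPPart_self_of_mem {y : G} (hy : y ∈ P) : IsPPart p y y :=
  ⟨1, mul_one y, Commute.one_right y, exists_orderOf_eq_of_mem p P hy, by
    rw [orderOf_one]; exact hp.out.one_lt.ne' ∘ Nat.dvd_one.1⟩

include hM in
/-- A principal block character is constant on the `p`-section of `y ∈ P`. -/
theorem principal_const_on_section (hab : ∀ x ∈ P, ∀ y ∈ P, x * y = y * x) {y : G} (hy : y ∈ P)
    (hfrob : Subgroup.centralizer ({y} : Set G) ⊓ Subgroup.normalizer ((P : Subgroup G) : Set G)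
      ≤ Subgroup.centralizer ((P : Subgroup G) : Set G))
    (χ : IrrCharacter G) (hχ : χ ∈ principalBlock M G) {z : G} (hz : IsPPart p z y) :
    (χ : G → ℂ) z = (χ : G → ℂ) y := by
  obtain ⟨v, hyv, hcomm, hk, hv⟩ := hz
  have hvC : v ∈ Subgroup.centralizer ({y} : Set G) := by
    rw [Subgroup.mem_centralizer_iff]
    intro h hh
    rw [Set.mem_singleton_iff] at hh
    rw [hh]
    exact hcomm.eq
  have hidx := pnilpotent_centralizer p P hab hy hfrob
  have hv' : ¬ p ∣ orderOf (⟨v, hvC⟩ : Subgroup.centralizer ({y} : Set G)) := by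
    rw [Subgroup.orderOf_mk]; exact hv
  have hmem := mem_pPrimeCore_of_not_dvd p hidx ⟨v, hvC⟩ hv'
  have hvcore : v ∈ Cfsg.centralizerPPrimeCore p y := by
    unfold Cfsg.centralizerPPrimeCore
    exact ⟨⟨v, hvC⟩, hmem, rfl⟩
  rw [← hyv]
  exact Cfsg.Agent.S0942.result p M hM y hk v hvcore χ hχ

include hM in
/-- The norm sum of the principal block at `y ∈ P \ {1}` is `|P|`. -/
theorem principal_norm_sum (hab : ∀ x ∈ P, ∀ y ∈ P, x * y = y * x) {y : G} (hy : y ∈ P)
    (hy1 : y ≠ 1)
    (hfrob : Subgroup.centralizer ({y} : Set G) ⊓ Subgroup.normalizer ((P : Subgroup G) : Set G)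
      ≤ Subgroup.centralizer ((P : Subgroup G) : Set G)) :
    ∑ᶠ χ ∈ principalBlock M G, ‖(χ : G → ℂ) y‖ ^ 2 = (Nat.card P : ℝ) := by
  have hidx := pnilpotent_centralizer p P hab hy hfrob
  have key := (Cfsg.Agent.S0947.result p M hM y (exists_orderOf_eq_of_mem p P hy) hy1
    (1 : Subgroup.centralizer ({y} : Set G)) (by
      rw [orderOf_one]; exact hp.out.one_lt.ne' ∘ Nat.dvd_one.1)).2 hidx
  rw [pow_factorization_card_centralizer p P hab hy] at key
  simpa using key

include hM in
/-- Block orthogonality of two non-conjugate columns in `P`. -/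
theorem principal_orth_of_not_isConj {y y' : G} (hy : y ∈ P) (hy' : y' ∈ P)
    (hne : ¬ IsConj y y') :
    ∑ᶠ χ ∈ principalBlock M G, (χ : G → ℂ) y * conj ((χ : G → ℂ) y') = 0 := by
  classical
  let _ : Fintype G := Fintype.ofFinite G
  have h := (Cfsg.Agent.S0925.result p M hM).2 y y' y y' (isPPart_self_of_mem p P hy)
    (isPPart_self_of_mem p P hy') hne (principalBlock M G)
    ⟨Cfsg.Agent.Helper79.principalIrr G, rfl⟩
  rw [← h]
  exact finsum_mem_congr rfl (fun χ _ => by rw [Cfsg.Agent.Helper79.irr_inv])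

include hM in
/-- Weak block orthogonality: the column of `y ∈ P \ {1}` is orthogonal to the degrees. -/
theorem principal_weak_orth {y : G} (hy : y ∈ P) (hy1 : y ≠ 1) :
    ∑ᶠ χ ∈ principalBlock M G, (χ : G → ℂ) y * (χ : G → ℂ) 1 = 0 := by
  have h1 : IsPPart p (1 : G) 1 := isPPart_self_of_mem p P (P : Subgroup G).one_mem
  have h := (Cfsg.Agent.S0925.result p M hM).2 y 1 y 1 (isPPart_self_of_mem p P hy) h1
    (by rw [isConj_one_left]; exact hy1) (principalBlock M G)
    ⟨Cfsg.Agent.Helper79.principalIrr G, rfl⟩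
  rw [inv_one] at h
  exact h

end Cfsg.Agent.Helper15.AbelSylow
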