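import Cfsg.Agent.Helper15.AbelSylowBlock
import Cfsg.Agent.Helper15.AbFourier
import Cfsg.Agent.Helper79.Linear

/-!
# The principal block over an abelian Sylow subgroup with Frobenius-type fusion: Gram data
(helper15)

`P` an abelian Sylow `p`-subgroup of `G` with `C_G(y) ∩ N_G(P) = C_G(P)` for all `y ∈ P \ {1}`.
`autP P` is the image of `N_G(P)` in `Aut P`; it acts freely on `P \ {1}` and has order
`|N_G(P) : C_G(P)|`.  For the family `X χ = χ|_P` (`χ` in the principal block) we verify the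
hypotheses of `AbFourier.gram_pos / gram_neg`, integrality of the relative multiplicities, weak
orthogonality, and compute the relative multiplicities of the principal character.
-/

set_option autoImplicit false

namespace Cfsg.Agent.Helper15.AbelSylow

open Cfsg Finset
open scoped ComplexConjugate IsMulCommutative

variable {G : Type*} [Group G] [Finite G]

variable (p : ℕ) [hp : Fact p.Prime] (M : Ideal AlgInt) (hM : IsPModular p M) (P : Sylow p G)

/-- The image of `N_G(P)` in `Aut P`. -/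
def autP : Subgroup (MulAut ↥(P : Subgroup G)) :=
  (Subgroup.normalizerMonoidHom (P : Subgroup G)).range

omit [Finite G] hp in
theorem mem_autP_iff (α : MulAut ↥(P : Subgroup G)) :
    α ∈ autP p P ↔ ∃ n : Subgroup.normalizer ((P : Subgroup G) : Set G),
      ∀ z : ↥(P : Subgroup G), ((α z : ↥(P : Subgroup G)) : G) = (n : G) * z * (n : G)⁻¹ := by
  constructor
  · rintro ⟨n, rfl⟩
    exact ⟨n, fun z => rfl⟩
  · rintro ⟨n, hn⟩
    refine ⟨n, ?_⟩
    ext z
    rw [hn z]
    rfl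

omit [Finite G] hp in
theorem card_autP :
    Nat.card (autP p P) = (Subgroup.centralizer ((P : Subgroup G) : Set G)).relIndex
      (Subgroup.normalizer ((P : Subgroup G) : Set G)) := by
  unfold autP
  rw [← Subgroup.index_ker, Subgroup.normalizerMonoidHom_ker]
  rfl

omit [Finite G] hp in
/-- `autP` acts freely on `P \ {1}`. -/
theorem autP_free
    (hfrob : ∀ y ∈ (P : Subgroup G), y ≠ 1 → Subgroup.centralizer ({y} : Set G) ⊓
      Subgroup.normalizer ((P : Subgroup G) : Set G) = Subgroup.centralizer ((P : Subgroup G) : Set G))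
    (α : MulAut ↥(P : Subgroup G)) (hα : α ∈ autP p P) (hα1 : α ≠ 1) (z : ↥(P : Subgroup G))
    (hz : α z = z) : z = 1 := by
  by_contra hz1
  obtain ⟨n, rfl⟩ := hα
  apply hα1
  have hzG : (z : G) ≠ 1 := fun h => hz1 (Subtype.ext h)
  have hnz : (n : G) ∈ Subgroup.centralizer ({(z : G)} : Set G) := by
    rw [Subgroup.mem_centralizer_iff]
    intro w hw
    rw [Set.mem_singleton_iff] at hw
    subst hw
    have h1 : (n : G) * z * (n : G)⁻¹ = z := congrArg Subtype.val hz
    calc (z : G) * n = ((n : G) * z * (n : G)⁻¹) * n := by rw [h1]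
      _ = n * z := by group
  have hnC : (n : G) ∈ Subgroup.centralizer ((P : Subgroup G) : Set G) := by
    rw [← hfrob z z.2 hzG]
    exact ⟨hnz, n.2⟩
  have hker : n ∈ (Subgroup.normalizerMonoidHom (P : Subgroup G)).ker := by
    rw [Subgroup.normalizerMonoidHom_ker, Subgroup.mem_subgroupOf]
    exact hnC
  exact hker

/-- A sum over a finite set as a `Finset` sum over the subtype. -/
theorem finsum_mem_eq_sum {α : Type*} (B : Set α) [Fintype ↥B] (f : α → ℂ) :
    ∑ᶠ x ∈ B, f x = ∑ i : ↥B, f i := by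
  rw [← finsum_set_coe_eq_finsum_mem, finsum_eq_sum_of_fintype]

theorem finsum_mem_eq_sum_real {α : Type*} (B : Set α) [Fintype ↥B] (f : α → ℝ) :
    ∑ᶠ x ∈ B, f x = ∑ i : ↥B, f i := by
  rw [← finsum_set_coe_eq_finsum_mem, finsum_eq_sum_of_fintype]

variable [hab : IsMulCommutative (P : Subgroup G)]

omit [Finite G] hp in
theorem mul_comm_of_mem : ∀ x ∈ (P : Subgroup G), ∀ y ∈ (P : Subgroup G), x * y = y * x := by
  intro x hx y hy
  have := mul_comm' (⟨x, hx⟩ : ↥(P : Subgroup G)) ⟨y, hy⟩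
  exact congrArg Subtype.val this

variable [Fintype ↥(principalBlock M G)]

include hM in
/-- Column orthogonality, conjugate case. -/
theorem hCO1
    (hfrob : ∀ y ∈ (P : Subgroup G), y ≠ 1 → Subgroup.centralizer ({y} : Set G) ⊓
      Subgroup.normalizer ((P : Subgroup G) : Set G) = Subgroup.centralizer ((P : Subgroup G) : Set G))
    (y y' : ↥(P : Subgroup G)) (hy : y ≠ 1) (_hy' : y' ≠ 1)
    (h : ∃ α ∈ autP p P, α y = y') :
    ∑ i : ↥(principalBlock M G), (i.1 : G → ℂ) y * conj ((i.1 : G → ℂ) y')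
      = (Nat.card ↥(P : Subgroup G) : ℂ) := by
  obtain ⟨α, hα, hαy⟩ := h
  obtain ⟨n, hn⟩ := (mem_autP_iff p P α).1 hα
  have hyy' : (y' : G) = (n : G) * y * (n : G)⁻¹ := by rw [← hαy, hn]
  have hyG : (y : G) ≠ 1 := fun h => hy (Subtype.ext h)
  have hns := principal_norm_sum p M hM P (mul_comm_of_mem p P) y.2 hyG
    (hfrob y y.2 hyG).le
  rw [finsum_mem_eq_sum_real] at hns
  have h1 : ∀ i : ↥(principalBlock M G), (i.1 : G → ℂ) y * conj ((i.1 : G → ℂ) y')
      = ((‖(i.1 : G → ℂ) y‖ ^ 2 : ℝ) : ℂ) := by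
    intro i
    rw [hyy', Cfsg.Agent.Helper79.irr_isClassFunction i.1 (y : G) (n : G), Complex.mul_conj,
      Complex.normSq_eq_norm_sq]
  rw [Finset.sum_congr rfl (fun i _ => h1 i), ← Complex.ofReal_sum, hns]
  simp

include hM in
/-- Column orthogonality, non-conjugate case. -/
theorem hCO0 (y y' : ↥(P : Subgroup G)) (_hy : y ≠ 1) (_hy' : y' ≠ 1)
    (h : ¬ ∃ α ∈ autP p P, α y = y') :
    ∑ i : ↥(principalBlock M G), (i.1 : G → ℂ) y * conj ((i.1 : G → ℂ) y') = 0 := by
  have hnc : ¬ IsConj (y : G) (y' : G) := by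
    intro hc
    apply h
    obtain ⟨g, hg⟩ := isConj_iff.1 hc
    -- `g * y * g⁻¹ = y'`
    have h1 : (g⁻¹)⁻¹ * (y : G) * g⁻¹ ∈ (P : Subgroup G) := by
      rw [inv_inv, hg]; exact y'.2
    obtain ⟨n, hn, hn'⟩ := P.conj_eq_normalizer_conj_of_mem (y : G) g⁻¹ y.2 h1
    rw [inv_inv, hg] at hn'
    have hninv : n⁻¹ ∈ Subgroup.normalizer ((P : Subgroup G) : Set G) := Subgroup.inv_mem _ hn
    refine ⟨Subgroup.normalizerMonoidHom (P : Subgroup G) ⟨n⁻¹, hninv⟩, ⟨_, rfl⟩, ?_⟩
    apply Subtype.ext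
    rw [hn']
    show n⁻¹ * (y : G) * (n⁻¹)⁻¹ = n⁻¹ * y * n
    rw [inv_inv]
  have := principal_orth_of_not_isConj p M hM P y.2 y'.2 hnc
  rw [finsum_mem_eq_sum] at this
  exact this

omit hab in
include hM in
/-- Weak orthogonality over the subtype. -/
theorem weak_orth (y : ↥(P : Subgroup G)) (hy : y ≠ 1) :
    ∑ i : ↥(principalBlock M G), (i.1 : G → ℂ) y * (i.1 : G → ℂ) 1 = 0 := by
  have hyG : (y : G) ≠ 1 := fun h => hy (Subtype.ext h)
  have := principal_weak_orth p M hM P y.2 hyG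
  rw [finsum_mem_eq_sum] at this
  exact this


variable [Fintype ↥(P : Subgroup G)]

omit [Finite G] hp [Fintype ↥(principalBlock M G)] in
/-- The Fourier coefficients of a restricted character are natural numbers. -/
theorem coef_restrict_nat (χ : IrrCharacter G) (ψ : ↥(P : Subgroup G) →* ℂˣ) :
    ∃ n : ℕ, AbFourier.coef (fun z : ↥(P : Subgroup G) => (χ : G → ℂ) z) ψ = n := by
  have hχ : IsCharacter ↥(P : Subgroup G) (fun z => (χ : G → ℂ) z) :=
    Cfsg.Agent.Helper74.isCharacter_restrict _ (Cfsg.Agent.Helper74.isCharacter_of_isIrr χ.2)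
  let ψ' : IrrCharacter ↥(P : Subgroup G) :=
    ⟨fun z => ((ψ z : ℂˣ) : ℂ),
      Cfsg.Agent.Helper79.isIrrCharacter_of_monoidHom ((Units.coeHom ℂ).comp ψ)⟩
  obtain ⟨n, hn⟩ := Cfsg.Agent.Helper74.isCharacter_inner_irr_nat hχ ψ'
  exact ⟨n, hn⟩

omit [Finite G] hp [Fintype ↥(principalBlock M G)] in
/-- The relative Fourier coefficients of a restricted character are integers. -/
theorem acoef_restrict_int (χ : IrrCharacter G) (ψ : ↥(P : Subgroup G) →* ℂˣ) :
    ∃ n : ℤ, AbFourier.acoef (fun z : ↥(P : Subgroup G) => (χ : G → ℂ) z) ψ = n := by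
  obtain ⟨a, ha⟩ := coef_restrict_nat p P χ ψ
  obtain ⟨b, hb⟩ := coef_restrict_nat p P χ 1
  refine ⟨(a : ℤ) - b, ?_⟩
  unfold AbFourier.acoef
  rw [ha, hb]
  push_cast
  ring

include hM in
/-- The Gram matrix of the relative multiplicities over the principal block, equivalent case. -/
theorem gram_principal_pos
    (hfrob : ∀ y ∈ (P : Subgroup G), y ≠ 1 → Subgroup.centralizer ({y} : Set G) ⊓
      Subgroup.normalizer ((P : Subgroup G) : Set G) = Subgroup.centralizer ((P : Subgroup G) : Set G))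
    (ψ ψ' : ↥(P : Subgroup G) →* ℂˣ) (hψ : ψ ≠ 1) (hψ' : ψ' ≠ 1)
    (hr : AbFourier.DualRel (autP p P) ψ ψ') :
    ∑ i : ↥(principalBlock M G),
      AbFourier.acoef (fun z : ↥(P : Subgroup G) => (i.1 : G → ℂ) z) ψ
        * conj (AbFourier.acoef (fun z : ↥(P : Subgroup G) => (i.1 : G → ℂ) z) ψ')
      = (Nat.card (autP p P) : ℂ) + 1 :=
  AbFourier.gram_pos (autP p P) (autP_free p P hfrob)
    (fun (i : ↥(principalBlock M G)) (z : ↥(P : Subgroup G)) => (i.1 : G → ℂ) z)
    (hCO1 p M hM P hfrob) (hCO0 p M hM P) ψ ψ' hψ hψ' hr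

include hM in
/-- The Gram matrix of the relative multiplicities over the principal block, inequivalent case. -/
theorem gram_principal_neg
    (hfrob : ∀ y ∈ (P : Subgroup G), y ≠ 1 → Subgroup.centralizer ({y} : Set G) ⊓
      Subgroup.normalizer ((P : Subgroup G) : Set G) = Subgroup.centralizer ((P : Subgroup G) : Set G))
    (ψ ψ' : ↥(P : Subgroup G) →* ℂˣ) (hψ : ψ ≠ 1) (hψ' : ψ' ≠ 1)
    (hr : ¬ AbFourier.DualRel (autP p P) ψ ψ') :
    ∑ i : ↥(principalBlock M G),
      AbFourier.acoef (fun z : ↥(P : Subgroup G) => (i.1 : G → ℂ) z) ψ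
        * conj (AbFourier.acoef (fun z : ↥(P : Subgroup G) => (i.1 : G → ℂ) z) ψ')
      = (Nat.card (autP p P) : ℂ) :=
  AbFourier.gram_neg (autP p P) (autP_free p P hfrob)
    (fun (i : ↥(principalBlock M G)) (z : ↥(P : Subgroup G)) => (i.1 : G → ℂ) z)
    (hCO1 p M hM P hfrob) (hCO0 p M hM P) ψ ψ' hψ hψ' hr

include hM in
/-- The relative multiplicities are orthogonal to the degrees. -/
theorem acoef_degree_orth (ψ : ↥(P : Subgroup G) →* ℂˣ) :
    ∑ i : ↥(principalBlock M G),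
      AbFourier.acoef (fun z : ↥(P : Subgroup G) => (i.1 : G → ℂ) z) ψ * (i.1 : G → ℂ) 1 = 0 :=
  AbFourier.acoef_sum_eq_zero
    (fun (i : ↥(principalBlock M G)) (z : ↥(P : Subgroup G)) => (i.1 : G → ℂ) z)
    (fun i => (i.1 : G → ℂ) 1) (fun y hy => weak_orth p M hM P y hy) ψ

end Cfsg.Agent.Helper15.AbelSylow
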