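import Mathlib
import Cfsg.Agent.Lib.Cores
import Cfsg.Prelude.Def_Local

/-!
# Abelian Sylow subgroups with `C_G(y) ∩ N_G(P) = C_G(P)`: local group theory (helper15)

`P` an abelian Sylow `p`-subgroup of the finite group `G`, `y ∈ P` with
`C_G(y) ∩ N_G(P) ≤ C_G(P)`.  Then `C_G(y)` has a normal `p`-complement (Burnside), its
`p`-regular elements lie in `O_{p'}(C_G(y))`, and its `p`-part is `|P|`.
-/

set_option autoImplicit false

namespace Cfsg.Agent.Helper15.AbelSylow

open Cfsg

variable {G : Type*} [Group G] [Finite G]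

/-- A `p`-regular element of a group whose `O_{p'}` has `p`-power index lies in `O_{p'}`. -/
theorem mem_pPrimeCore_of_not_dvd (p : ℕ) [hp : Fact p.Prime] {H : Type*} [Group H] [Finite H]
    (hidx : ∃ k : ℕ, (Cfsg.pPrimeCore p H).index = p ^ k) (y : H) (hy : ¬ p ∣ orderOf y) :
    y ∈ Cfsg.pPrimeCore p H := by
  have : (Cfsg.pPrimeCore p H).Characteristic := Cfsg.Agent.Lib.pPrimeCore_characteristic p
  have hKn : (Cfsg.pPrimeCore p H).Normal := Subgroup.normal_of_characteristic _
  obtain ⟨k, hk⟩ := hidx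
  rw [← QuotientGroup.eq_one_iff]
  have h1 : (QuotientGroup.mk y : H ⧸ Cfsg.pPrimeCore p H) ^ orderOf y = 1 := by
    rw [← QuotientGroup.mk_pow, pow_orderOf_eq_one, QuotientGroup.mk_one]
  have h2 : (QuotientGroup.mk y : H ⧸ Cfsg.pPrimeCore p H) ^ p ^ k = 1 := by
    have : Nat.card (H ⧸ Cfsg.pPrimeCore p H) = p ^ k := by rw [← hk]; rfl
    rw [← this]
    exact pow_card_eq_one'
  have h3 : orderOf (QuotientGroup.mk y : H ⧸ Cfsg.pPrimeCore p H) ∣ Nat.gcd (orderOf y) (p ^ k) :=
    Nat.dvd_gcd (orderOf_dvd_of_pow_eq_one h1) (orderOf_dvd_of_pow_eq_one h2)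
  have h4 : Nat.gcd (orderOf y) (p ^ k) = 1 := by
    apply Nat.Coprime.pow_right
    exact (Nat.Prime.coprime_iff_not_dvd hp.out).2 hy |>.symm
  rw [h4, Nat.dvd_one, orderOf_eq_one_iff] at h3
  exact h3

variable (p : ℕ) [hp : Fact p.Prime] (P : Sylow p G)

omit [Finite G] hp in
/-- `P` abelian, `y ∈ P`: `P ≤ C_G(y)`. -/
theorem le_centralizer_singleton (hab : ∀ x ∈ P, ∀ y ∈ P, x * y = y * x) {y : G} (hy : y ∈ P) :
    (P : Subgroup G) ≤ Subgroup.centralizer ({y} : Set G) := by
  intro x hx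
  rw [Subgroup.mem_centralizer_iff]
  intro z hz
  rw [Set.mem_singleton_iff] at hz
  subst hz
  exact hab z hy x hx

/-- **Burnside** in `C_G(y)`: if `C_G(y) ∩ N_G(P) ≤ C_G(P)` then `C_G(y)` has a normal
`p`-complement. -/
theorem pnilpotent_centralizer (hab : ∀ x ∈ P, ∀ y ∈ P, x * y = y * x) {y : G} (hy : y ∈ P)
    (hfrob : Subgroup.centralizer ({y} : Set G) ⊓ Subgroup.normalizer ((P : Subgroup G) : Set G)
      ≤ Subgroup.centralizer ((P : Subgroup G) : Set G)) :
    ∃ k : ℕ, (Cfsg.pPrimeCore p (Subgroup.centralizer ({y} : Set G))).index = p ^ k := by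
  have hPH := le_centralizer_singleton p P hab hy
  obtain ⟨H, hH⟩ : ∃ H : Subgroup G, H = Subgroup.centralizer ({y} : Set G) := ⟨_, rfl⟩
  rw [← hH] at hPH hfrob ⊢
  let P' : Sylow p H := P.subtype hPH
  have hP'coe : (P' : Subgroup H) = (P : Subgroup G).subgroupOf H := Sylow.coe_subtype _ _
  have hNC : Subgroup.normalizer ((P' : Subgroup H) : Set H)
      ≤ Subgroup.centralizer ((P' : Subgroup H) : Set H) := by
    intro n hn
    have hnN : (n : G) ∈ Subgroup.normalizer ((P : Subgroup G) : Set G) := by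
      rw [Subgroup.mem_normalizer_iff]
      intro g
      rw [Subgroup.mem_normalizer_iff] at hn
      constructor
      · intro hg
        have h1 := (hn ⟨g, hPH hg⟩).1 (by rw [hP'coe, Subgroup.mem_subgroupOf]; exact hg)
        rw [hP'coe, Subgroup.mem_subgroupOf] at h1
        exact h1
      · intro hg
        have hgH : g ∈ H := by
          have h1 : (n : G)⁻¹ * ((n : G) * g * (n : G)⁻¹) * (n : G) ∈ H :=
            H.mul_mem (H.mul_mem (H.inv_mem n.2) (hPH hg)) n.2
          have h2 : (n : G)⁻¹ * ((n : G) * g * (n : G)⁻¹) * (n : G) = g := by group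
          rwa [h2] at h1
        have h1 := (hn ⟨g, hgH⟩).2 (by rw [hP'coe, Subgroup.mem_subgroupOf]; exact hg)
        rw [hP'coe, Subgroup.mem_subgroupOf] at h1
        exact h1
    have hnC : (n : G) ∈ Subgroup.centralizer ((P : Subgroup G) : Set G) :=
      hfrob ⟨n.2, hnN⟩
    rw [Subgroup.mem_centralizer_iff]
    intro x hx
    rw [SetLike.mem_coe, hP'coe, Subgroup.mem_subgroupOf] at hx
    apply Subtype.ext
    have := (Subgroup.mem_centralizer_iff.1 hnC) (x : G) hx
    simpa using this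
  have hcompl := MonoidHom.ker_transferSylow_isComplement' P' hNC
  obtain ⟨K, hK⟩ : ∃ K : Subgroup H, K = (MonoidHom.transferSylow P' hNC).ker := ⟨_, rfl⟩
  rw [← hK] at hcompl
  have hKn : K.Normal := hK ▸ MonoidHom.normal_ker _
  have hKidx : K.index = Nat.card P' := hcompl.symm.index_eq_card
  have hKcop : (Nat.card K).Coprime p := by
    have h1 : Nat.card K = (P' : Subgroup H).index := by
      rw [← hcompl.index_eq_card]
    rw [h1, Nat.coprime_comm, Nat.Prime.coprime_iff_not_dvd hp.out]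
    exact P'.not_dvd_index
  have hle : K ≤ Cfsg.pPrimeCore p H := Cfsg.Agent.Lib.le_pPrimeCore hKn hKcop
  have hdvd : (Cfsg.pPrimeCore p H).index ∣ Nat.card P' := by
    rw [← hKidx]
    exact Subgroup.index_dvd_of_le hle
  obtain ⟨n, hn⟩ := P'.2.exists_card_eq
  rw [hn] at hdvd
  obtain ⟨j, _, hj⟩ := (Nat.dvd_prime_pow hp.out).1 hdvd
  exact ⟨j, hj⟩

/-- The `p`-part of `|C_G(y)|` is `|P|`. -/
theorem pow_factorization_card_centralizer (hab : ∀ x ∈ P, ∀ y ∈ P, x * y = y * x) {y : G}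
    (hy : y ∈ P) :
    p ^ (Nat.card (Subgroup.centralizer ({y} : Set G))).factorization p = Nat.card P := by
  have hPH := le_centralizer_singleton p P hab hy
  let P' : Sylow p (Subgroup.centralizer ({y} : Set G)) := P.subtype hPH
  have h1 : Nat.card P' = Nat.card P := by
    have hP'coe : (P' : Subgroup (Subgroup.centralizer ({y} : Set G)))
        = (P : Subgroup G).subgroupOf (Subgroup.centralizer ({y} : Set G)) :=
      Sylow.coe_subtype _ _
    rw [hP'coe]
    exact Nat.card_congr (Subgroup.subgroupOfEquivOfLe hPH).toEquiv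
  rw [← h1, P'.card_eq_multiplicity]

end Cfsg.Agent.Helper15.AbelSylow
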