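import Cfsg.Agent.Helper57.BP.PartI

/-!
# S4705 piece (P06): a `2`-element of `N ∖ C` with central square
-/

set_option autoImplicit false

namespace Cfsg.Agent.Helper15.B66

open Cfsg Cfsg.Agent.Helper16 Cfsg.Agent.Helper16.DefOne Cfsg.Agent.Helper82.DefOne
  Cfsg.Agent.Helper77.DefOne Cfsg.Agent.Helper57.BH Cfsg.Agent.Helper57.BP
open scoped ComplexConjugate

universe u

variable {G : Type u} [Group G] [Fintype G] {p : ℕ} [Fact p.Prime] (P : Sylow p G)

/-- in a subgroup pair of relative index two, squares of elements of the big group lie in the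
small one -/
theorem mul_self_mem_of_relIndex_two {H K : Subgroup G} (h : H.relIndex K = 2) {a : G}
    (ha : a ∈ K) : a * a ∈ H := by
  have h2 : (H.subgroupOf K).index = 2 := h
  have h3 := Subgroup.mul_self_mem_of_index_two h2 (⟨a, ha⟩ : K)
  rw [Subgroup.mem_subgroupOf] at h3
  simpa using h3

/-- (P06) a `2`-element of `N ∖ C` with central square -/
theorem exists_tau (hP : Nat.card P = p) (hp2 : 2 < p) (hf : (cen P).relIndex (nor P) = 2)
    (hcent : ∀ c : cen P, ¬ p ∣ orderOf c → (c : G) ∈ Subgroup.center G) :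
    ∃ t : G, t ∈ nor P ∧ t ∉ cen P ∧ ¬ p ∣ orderOf t ∧ t * t ∈ Subgroup.center G := by
  have hp : p.Prime := Fact.out
  -- an element of `N ∖ C`
  have hnle : ¬ nor P ≤ cen P := by
    intro hle
    have h1 : (cen P).relIndex (nor P) = 1 := Subgroup.relIndex_eq_one.mpr hle
    omega
  obtain ⟨n, hnN, hnC⟩ := SetLike.not_le_iff_exists.mp hnle
  -- its order
  have hpos : orderOf n ≠ 0 := (orderOf_pos n).ne'
  obtain ⟨a, m, hm, hnm⟩ := Nat.exists_eq_two_pow_mul_odd hpos
  obtain ⟨k, hk⟩ := hm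
  refine ⟨n ^ m, Subgroup.pow_mem _ hnN m, ?_, ?_, ?_⟩
  · -- not in `C`
    intro htC
    have hsq : n * n ∈ cen P := mul_self_mem_of_relIndex_two hf hnN
    have h1 : n ^ m = (n * n) ^ k * n := by
      rw [hk, pow_succ, pow_mul, pow_two]
    have h2 : n = ((n * n) ^ k)⁻¹ * n ^ m := by
      rw [h1]; group
    apply hnC
    rw [h2]
    exact Subgroup.mul_mem _ (Subgroup.inv_mem _ (Subgroup.pow_mem _ hsq k)) htC
  · -- `p`-regular
    have hord : orderOf (n ^ m) = 2 ^ a := by
      rw [orderOf_pow' n (by omega : m ≠ 0), hnm]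
      have hg : Nat.gcd (2 ^ a * m) m = m := Nat.gcd_eq_right (Dvd.intro_left _ rfl)
      rw [hg]
      exact Nat.mul_div_cancel _ (by omega)
    rw [hord]
    intro hdvd
    have h2 := hp.dvd_of_dvd_pow hdvd
    have := Nat.le_of_dvd (by norm_num) h2
    omega
  · -- the square is central
    have htN : n ^ m ∈ nor P := Subgroup.pow_mem _ hnN m
    have hsq : n ^ m * n ^ m ∈ cen P := mul_self_mem_of_relIndex_two hf htN
    have hord : orderOf (n ^ m) = 2 ^ a := by
      rw [orderOf_pow' n (by omega : m ≠ 0), hnm]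
      have hg : Nat.gcd (2 ^ a * m) m = m := Nat.gcd_eq_right (Dvd.intro_left _ rfl)
      rw [hg]
      exact Nat.mul_div_cancel _ (by omega)
    have hreg : ¬ p ∣ orderOf (⟨n ^ m * n ^ m, hsq⟩ : cen P) := by
      rw [Subgroup.orderOf_mk]
      intro hdvd
      have h1 : orderOf (n ^ m * n ^ m) ∣ 2 ^ a := by
        rw [← hord, ← pow_two]
        exact orderOf_pow_dvd 2
      have h2 := hp.dvd_of_dvd_pow (hdvd.trans h1)
      have := Nat.le_of_dvd (by norm_num) h2
      omega
    exact hcent ⟨n ^ m * n ^ m, hsq⟩ hreg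

end Cfsg.Agent.Helper15.B66
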