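import Cfsg.Agent.Helper57.BP.PartI

/-!
# S4705 piece (P07): an element of `N ∖ C` inverts `P` when `|N : C| = 2`
-/

set_option autoImplicit false

namespace Cfsg.Agent.Helper15.B66

open Cfsg Cfsg.Agent.Helper16 Cfsg.Agent.Helper16.DefOne Cfsg.Agent.Helper82.DefOne
  Cfsg.Agent.Helper77.DefOne Cfsg.Agent.Helper57.BH Cfsg.Agent.Helper57.BP
open scoped ComplexConjugate

universe u

variable {G : Type u} [Group G] [Fintype G] {p : ℕ} [Fact p.Prime] (P : Sylow p G)

/-- in a subgroup pair of relative index two, squares of elements of the big group lie in the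
small one -/
theorem mul_self_mem_of_relIndex_two' {H K : Subgroup G} (h : H.relIndex K = 2) {a : G}
    (ha : a ∈ K) : a * a ∈ H := by
  have h2 : (H.subgroupOf K).index = 2 := h
  have h3 := Subgroup.mul_self_mem_of_index_two h2 (⟨a, ha⟩ : K)
  rw [Subgroup.mem_subgroupOf] at h3
  simpa using h3

/-- (P07) an element of `N ∖ C` inverts `P` when `|N : C| = 2` -/
theorem conj_eq_inv (hP : Nat.card P = p) (hf : (cen P).relIndex (nor P) = 2)
    (t : G) (htN : t ∈ nor P) (htC : t ∉ cen P) (x : G) (hx : x ∈ (P : Subgroup G)) :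
    t * x * t⁻¹ = x⁻¹ := by
  have hp : p.Prime := Fact.out
  have htN' : t ∈ Subgroup.normalizer ((P : Subgroup G) : Set G) := by
    rw [← nor_eq_normalizer P hP]; exact htN
  -- a generator of `P`
  have hcard : 1 < Nat.card (P : Subgroup G) := by
    have h1 : Nat.card (P : Subgroup G) = p := hP
    rw [h1]; exact hp.one_lt
  obtain ⟨x₀, hx₀P, hx₀ne⟩ : ∃ y : G, y ∈ (P : Subgroup G) ∧ y ≠ 1 := by
    by_contra hcon
    push Not at hcon
    have hbot : (P : Subgroup G) = ⊥ := by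
      rw [Subgroup.eq_bot_iff_forall]; exact hcon
    rw [hbot, Subgroup.card_bot] at hcard
    exact absurd hcard (lt_irrefl 1)
  have hord : orderOf x₀ = p := by
    have hdvd : orderOf x₀ ∣ p := by
      have h1 : orderOf (⟨x₀, hx₀P⟩ : (P : Subgroup G)) ∣ Nat.card (P : Subgroup G) :=
        orderOf_dvd_natCard _
      rw [Subgroup.orderOf_mk] at h1
      have h2 : Nat.card (P : Subgroup G) = p := hP
      rwa [h2] at h1
    rcases (Nat.dvd_prime hp).mp hdvd with h | h
    · exact absurd (orderOf_eq_one_iff.mp h) hx₀ne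
    · exact h
  have hz : Subgroup.zpowers x₀ = (P : Subgroup G) :=
    Helper82.McKayP.zpowers_eq_sylow p P hP x₀ hx₀P hord
  -- conjugation by `t` on the generator
  have hconjP : t * x₀ * t⁻¹ ∈ (P : Subgroup G) :=
    (Subgroup.mem_normalizer_iff.mp htN' x₀).mp hx₀P
  rw [← hz] at hconjP
  obtain ⟨k, hk⟩ := Subgroup.mem_zpowers_iff.mp hconjP
  -- conjugation by `t` is `y ↦ y ^ k` on powers
  have hpowconj : ∀ j : ℤ, t * x₀ ^ j * t⁻¹ = (x₀ ^ j) ^ k := by
    intro j
    have h1 : t * x₀ ^ j * t⁻¹ = (t * x₀ * t⁻¹) ^ j := by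
      rw [conj_zpow]
    rw [h1, ← hk, ← zpow_mul, ← zpow_mul, mul_comm]
  -- `t * t` centralizes `x₀`
  have hsq : t * t ∈ cen P := mul_self_mem_of_relIndex_two' hf htN
  have hcomm : (t * t) * x₀ * (t * t)⁻¹ = x₀ := by
    have h1 := (Subgroup.mem_centralizer_iff.mp hsq) x₀ hx₀P
    -- h1 : x₀ * (t * t) = (t * t) * x₀
    rw [← h1]; group
  have hkk : x₀ ^ (k * k) = x₀ := by
    have h1 : (t * t) * x₀ * (t * t)⁻¹ = t * (t * x₀ * t⁻¹) * t⁻¹ := by group
    rw [h1, ← hk, hpowconj k, ← zpow_mul] at hcomm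
    exact hcomm
  have hdvd : (p : ℤ) ∣ k * k - 1 := by
    have h1 : x₀ ^ (k * k - 1) = 1 := by
      rw [zpow_sub, zpow_one, hkk, mul_inv_cancel]
    have h2 := orderOf_dvd_iff_zpow_eq_one.mpr h1
    rwa [hord] at h2
  have hfac : k * k - 1 = (k - 1) * (k + 1) := by ring
  rw [hfac] at hdvd
  have hpZ : Prime (p : ℤ) := Nat.prime_iff_prime_int.mp hp
  rcases hpZ.dvd_or_dvd hdvd with h | h
  · -- `k ≡ 1`: then `t` centralizes `P`, contradiction
    exfalso
    apply htC
    have hx1 : x₀ ^ k = x₀ := by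
      have h1 : x₀ ^ (k - 1) = 1 := by
        apply orderOf_dvd_iff_zpow_eq_one.mp
        rw [hord]; exact h
      have h2 : x₀ ^ k = x₀ ^ (k - 1) * x₀ := by
        rw [← zpow_add_one]; congr 1; ring
      rw [h2, h1, one_mul]
    rw [Subgroup.mem_centralizer_iff]
    intro y hy
    have hy' : y ∈ Subgroup.zpowers x₀ := by rw [hz]; exact hy
    obtain ⟨j, rfl⟩ := Subgroup.mem_zpowers_iff.mp hy'
    have h3 := hpowconj j
    have h4 : (x₀ ^ j) ^ k = x₀ ^ j := by
      rw [← zpow_mul, mul_comm, zpow_mul, hx1]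
    rw [h4] at h3
    -- h3 : t * x₀ ^ j * t⁻¹ = x₀ ^ j
    calc x₀ ^ j * t = (t * x₀ ^ j * t⁻¹) * t := by rw [h3]
      _ = t * x₀ ^ j := by group
  · -- `k ≡ -1`
    have hxinv : x₀ ^ k = x₀⁻¹ := by
      have h1 : x₀ ^ (k + 1) = 1 := by
        apply orderOf_dvd_iff_zpow_eq_one.mp
        rw [hord]; exact h
      have h2 : x₀ ^ k = x₀ ^ (k + 1) * x₀⁻¹ := by
        rw [zpow_add_one]; group
      rw [h2, h1, one_mul]
    have hx' : x ∈ Subgroup.zpowers x₀ := by rw [hz]; exact hx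
    obtain ⟨j, rfl⟩ := Subgroup.mem_zpowers_iff.mp hx'
    rw [hpowconj j, ← zpow_mul, mul_comm, zpow_mul, hxinv, inv_zpow]

end Cfsg.Agent.Helper15.B66
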