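import Mathlib
import Cfsg.Prelude.Def_Characters
import Cfsg.Agent.Helper15.IndFun

/-!
# Mackey's formula in the case of a single double coset

If `G = K H` then `(ϑ^G)_K = (ϑ_{H ∩ K})^K` for a class function `ϑ` of `H`.
-/

set_option autoImplicit false

namespace Cfsg.Agent.Helper15

open Cfsg

section Mackey

variable {G : Type*} [Group G] [Fintype G]

/-- Counting lemma: if every element of `G` is a product `c * h` with `c ∈ K`, `h ∈ H`, then
summing `F (c * h)` over `K × H` counts every element of `G` exactly `|H ∩ K|` times. -/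
theorem sum_prod_eq_card_inf_mul_sum (H K : Subgroup G) [Fintype H] [Fintype K]
    (hKH : ∀ g : G, ∃ c ∈ K, ∃ h ∈ H, g = c * h) (F : G → ℂ) :
    ∑ c : K, ∑ h : H, F ((c : G) * (h : G)) = (Nat.card ↥(H ⊓ K) : ℂ) * ∑ g : G, F g := by
  classical
  rw [← Fintype.sum_prod_type']
  rw [← Finset.sum_fiberwise (s := (Finset.univ : Finset (K × H)))
    (g := fun x : K × H => ((x.1 : G) * (x.2 : G))) (f := fun x => F ((x.1 : G) * (x.2 : G)))]
  rw [Finset.mul_sum]
  apply Finset.sum_congr rfl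
  intro g _
  have h1 : ∀ x ∈ (Finset.univ : Finset (K × H)).filter (fun x => (x.1 : G) * (x.2 : G) = g),
      F ((x.1 : G) * (x.2 : G)) = F g := by
    intro x hx
    rw [(Finset.mem_filter.mp hx).2]
  rw [Finset.sum_congr rfl h1, Finset.sum_const, nsmul_eq_mul]
  congr 1
  -- the fibre has `|H ∩ K|` elements
  obtain ⟨c₀, hc₀, h₀, hh₀, rfl⟩ := hKH g
  rw [Nat.card_eq_fintype_card, ← Fintype.card_subtype]
  congr 1
  apply Fintype.card_congr
  refine
    { toFun := fun x => ⟨c₀⁻¹ * (x.1.1 : G), ?_, ?_⟩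
      invFun := fun d => ⟨(⟨c₀ * (d : G), K.mul_mem hc₀ d.2.2⟩,
        ⟨(d : G)⁻¹ * h₀, H.mul_mem (H.inv_mem d.2.1) hh₀⟩), by simp [mul_assoc]⟩
      left_inv := ?_
      right_inv := ?_ }
  · have hx := x.2
    have : c₀⁻¹ * (x.1.1 : G) = h₀ * (x.1.2 : G)⁻¹ := by
      rw [inv_mul_eq_iff_eq_mul, ← mul_assoc, eq_mul_inv_iff_mul_eq]
      exact hx
    rw [this]
    exact H.mul_mem hh₀ (H.inv_mem x.1.2.2)
  · exact K.mul_mem (K.inv_mem hc₀) x.1.1.2
  · intro x
    apply Subtype.ext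
    apply Prod.ext
    · apply Subtype.ext
      simp
    · apply Subtype.ext
      have hx : (x.1.1 : G) * (x.1.2 : G) = c₀ * h₀ := x.2
      show (c₀⁻¹ * (x.1.1 : G))⁻¹ * h₀ = (x.1.2 : G)
      have h2 : h₀ = c₀⁻¹ * ((x.1.1 : G) * (x.1.2 : G)) := by rw [hx]; group
      generalize (x.1.1 : G) = a at h2 ⊢
      generalize (x.1.2 : G) = b at h2 ⊢
      rw [h2]
      group
  · intro d
    apply Subtype.ext
    simp

omit [Fintype G] in
/-- The extension by zero of a class function of `H` is invariant under conjugation by `H`. -/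
theorem extendByZero_conj_mem (H : Subgroup G) {ϑ : H → ℂ} (hϑ : IsClassFunction H ϑ)
    {h : G} (hh : h ∈ H) (y : G) :
    extendByZero H ϑ (h⁻¹ * y * h) = extendByZero H ϑ y := by
  by_cases hy : y ∈ H
  · have hy' : h⁻¹ * y * h ∈ H := H.mul_mem (H.mul_mem (H.inv_mem hh) hy) hh
    rw [extendByZero_of_mem H ϑ hy, extendByZero_of_mem H ϑ hy']
    have := hϑ ⟨y, hy⟩ ⟨h, hh⟩⁻¹
    rw [← this]
    congr 1
    apply Subtype.ext
    simp
  · have hy' : h⁻¹ * y * h ∉ H := by
      intro hcon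
      apply hy
      have := H.mul_mem (H.mul_mem hh hcon) (H.inv_mem hh)
      simpa [mul_assoc] using this
    rw [extendByZero_of_not_mem H ϑ hy, extendByZero_of_not_mem H ϑ hy']

/-- **Mackey's formula for a single double coset**: if `G = K H`, then the restriction to `K`
of the function induced from a class function `ϑ` of `H` is induced from the restriction of `ϑ`
to `H ∩ K`. -/
theorem indFun_restrict_of_prod (H K : Subgroup G) [Fintype H] [Fintype K]
    (hKH : ∀ g : G, ∃ c ∈ K, ∃ h ∈ H, g = c * h) {ϑ : H → ℂ} (hϑ : IsClassFunction H ϑ)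
    (k : K) :
    indFun H ϑ (k : G) =
      indFun ((H ⊓ K).subgroupOf K) (fun x => ϑ ⟨((x : K) : G), x.2.1⟩) k := by
  classical
  have hcount := sum_prod_eq_card_inf_mul_sum H K hKH
    (fun g => extendByZero H ϑ (g⁻¹ * (k : G) * g))
  have h1 : ∀ (c : K) (h : H), extendByZero H ϑ (((c : G) * (h : G))⁻¹ * (k : G) * ((c : G) * h))
      = extendByZero H ϑ ((c : G)⁻¹ * k * c) := by
    intro c h
    rw [← extendByZero_conj_mem H hϑ h.2 ((c : G)⁻¹ * k * c)]
    congr 1
    group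
  simp only [h1, Finset.sum_const, Finset.card_univ, nsmul_eq_mul] at hcount
  have hHpos : (Nat.card H : ℂ) ≠ 0 := by exact_mod_cast Nat.card_pos.ne'
  have hIpos : (Nat.card ↥(H ⊓ K) : ℂ) ≠ 0 := by exact_mod_cast Nat.card_pos.ne'
  have hext : ∀ y : K, extendByZero ((H ⊓ K).subgroupOf K)
      (fun x => ϑ ⟨((x : K) : G), x.2.1⟩) y = extendByZero H ϑ (y : G) := by
    intro y
    by_cases hy : (y : G) ∈ H
    · have hy' : y ∈ (H ⊓ K).subgroupOf K := ⟨hy, y.2⟩
      rw [extendByZero_of_mem _ _ hy', extendByZero_of_mem H ϑ hy]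
    · have hy' : y ∉ (H ⊓ K).subgroupOf K := fun hcon => hy hcon.1
      rw [extendByZero_of_not_mem _ _ hy', extendByZero_of_not_mem H ϑ hy]
  have hcard : Nat.card ↥((H ⊓ K).subgroupOf K) = Nat.card ↥(H ⊓ K) :=
    Nat.card_congr (Subgroup.subgroupOfEquivOfLe inf_le_right).toEquiv
  rw [indFun_apply, indFun_apply, hcard]
  simp only [hext]
  have h2 : ∑ x : K, extendByZero H ϑ ((x⁻¹ * k * x : K) : G)
      = ∑ c : K, extendByZero H ϑ ((c : G)⁻¹ * k * c) := by
    apply Finset.sum_congr rfl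
    intro c _
    simp
  rw [h2]
  have hFH : (Fintype.card H : ℂ) = (Nat.card H : ℂ) := by rw [Nat.card_eq_fintype_card]
  rw [← Finset.mul_sum, hFH] at hcount
  -- hcount : (∑ c, ext (c⁻¹ k c)) * |H| = |H ∩ K| * ∑ g, ext (g⁻¹ k g)
  field_simp
  linear_combination (-1 : ℂ) * hcount

end Mackey

end Cfsg.Agent.Helper15
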