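import Mathlib
import Cfsg.Agent.Helper15.Mackey
import Cfsg.Agent.Helper15.CliffordCorr
import Cfsg.Agent.Helper15.IndChar
import Cfsg.Agent.Helper74.CharBasic
import Cfsg.Agent.Helper25.InnerBasics
import Cfsg.Agent.Helper80.CharLevel

set_option autoImplicit false

/-!
# Auxiliary character-theoretic lemmas

* `classInner_restrict_indFun_of_prod` : Mackey + Frobenius for `G = K H`
* `isCharacter_trichotomy` : a character is zero, irreducible, or a sum of two nonzero characters
* `isIrrCharacter_of_comp` : a character whose pull-back along a homomorphism is irreducible is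
  irreducible
* `bessel_irr` : Bessel's inequality for a single unit vector
* `sum_filter_mem_normSq` : mass of a function over a subgroup
-/

namespace Cfsg.Agent.Helper15

open Cfsg
open scoped ComplexConjugate

universe u

variable {G : Type u} [Group G]

/-- **Mackey + Frobenius** for `G = K H`: `⟨(ϑ^G)_K, ψ⟩_K = ⟨ϑ_{H ∩ K}, ψ_{H ∩ K}⟩_{H ∩ K}`. -/
theorem classInner_restrict_indFun_of_prod [Fintype G] (H K : Subgroup G) [Fintype H] [Fintype K]
    [Fintype ↥(H ⊓ K)]
    (hKH : ∀ g : G, ∃ c ∈ K, ∃ h ∈ H, g = c * h) {ϑ : H → ℂ} (hϑ : IsClassFunction H ϑ)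
    {ψ : K → ℂ} (hψ : IsClassFunction K ψ) :
    classInner (fun k : K => indFun H ϑ (k : G)) ψ =
      classInner (fun x : ↥(H ⊓ K) => ϑ ⟨(x : G), x.2.1⟩)
        (fun x : ↥(H ⊓ K) => ψ ⟨(x : G), x.2.2⟩) := by
  classical
  have h1 : (fun k : K => indFun H ϑ (k : G)) =
      indFun ((H ⊓ K).subgroupOf K) (fun x => ϑ ⟨((x : K) : G), x.2.1⟩) := by
    funext k
    exact indFun_restrict_of_prod H K hKH hϑ k
  rw [h1, frobenius_reciprocity ((H ⊓ K).subgroupOf K) _ ψ hψ]
  exact classInner_comp_mulEquiv (Subgroup.subgroupOfEquivOfLe (inf_le_right : H ⊓ K ≤ K))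
    (fun x : ↥(H ⊓ K) => ϑ ⟨(x : G), x.2.1⟩) (fun x : ↥(H ⊓ K) => ψ ⟨(x : G), x.2.2⟩)

/-- A character is zero, irreducible, or the sum of two nonzero characters. -/
theorem isCharacter_trichotomy [Finite G] {χ : G → ℂ} (hχ : IsCharacter G χ) :
    χ = 0 ∨ IsIrrCharacter G χ ∨
      ∃ a b : G → ℂ, IsCharacter G a ∧ IsCharacter G b ∧ a ≠ 0 ∧ b ≠ 0 ∧ χ = a + b := by
  have hmem := Helper74.isCharacter_mem_irrSpanNat hχ
  induction hmem using AddSubmonoid.closure_induction with
  | mem x hx => exact Or.inr (Or.inl hx)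
  | zero => exact Or.inl rfl
  | add x y hx hy ihx ihy =>
    have hxc := Helper74.isCharacter_of_mem_irrSpanNat hx
    have hyc := Helper74.isCharacter_of_mem_irrSpanNat hy
    by_cases hx0 : x = 0
    · rw [hx0, zero_add]; exact ihy hyc
    by_cases hy0 : y = 0
    · rw [hy0, add_zero]; exact ihx hxc
    exact Or.inr (Or.inr ⟨x, y, hxc, hyc, hx0, hy0, rfl⟩)

/-- The norm of a nonzero character is at least one. -/
theorem one_le_inner_self_of_ne_zero [Fintype G] {a : G → ℂ} (ha : IsCharacter G a) (h0 : a ≠ 0) :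
    ∃ n : ℕ, 1 ≤ n ∧ classInner a a = n := by
  obtain ⟨n, hn⟩ := isCharacter_inner_nat ha ha
  refine ⟨n, ?_, hn⟩
  rcases Nat.eq_zero_or_pos n with h | h
  · exfalso
    apply h0
    apply Helper74.classInner_self_eq_zero
    rw [hn, h]; simp
  · exact h

/-- The norm of a sum of two nonzero characters is at least two. -/
theorem two_le_inner_self_add [Fintype G] {a b : G → ℂ} (ha : IsCharacter G a)
    (hb : IsCharacter G b) (ha0 : a ≠ 0) (hb0 : b ≠ 0) :
    ∃ n : ℕ, 2 ≤ n ∧ classInner (a + b) (a + b) = n := by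
  obtain ⟨n1, h1, e1⟩ := one_le_inner_self_of_ne_zero ha ha0
  obtain ⟨n2, h2, e2⟩ := one_le_inner_self_of_ne_zero hb hb0
  obtain ⟨n3, e3⟩ := isCharacter_inner_nat ha hb
  obtain ⟨n4, e4⟩ := isCharacter_inner_nat hb ha
  refine ⟨n1 + n3 + (n4 + n2), by omega, ?_⟩
  rw [classInner_add_left, classInner_add_right, classInner_add_right, e1, e2, e3, e4]
  push_cast
  ring

/-- If the pull-back of a character `τ` along a homomorphism is irreducible, then `τ` is
irreducible. -/
theorem isIrrCharacter_of_comp {S D : Type u} [Group S] [Group D] [Fintype S] [Finite D]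
    (ι : S →* D) {τ : D → ℂ} (hτ : IsCharacter D τ)
    (hirr : IsIrrCharacter S (fun s => τ (ι s))) : IsIrrCharacter D τ := by
  rcases isCharacter_trichotomy hτ with h | h | ⟨a, b, ha, hb, ha0, hb0, hab⟩
  · exfalso
    apply Helper80.IsIrrCharacter.map_one_ne_zero hirr
    simp [h]
  · exact h
  · exfalso
    have ha' : IsCharacter S (fun s => a (ι s)) := Helper74.isCharacter_comp ι ha
    have hb' : IsCharacter S (fun s => b (ι s)) := Helper74.isCharacter_comp ι hb
    have ha0' : (fun s => a (ι s)) ≠ 0 := by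
      intro hcon
      apply ha0
      apply Helper25.isCharacter_eq_zero_of_apply_one ha
      have := congrFun hcon 1
      simpa using this
    have hb0' : (fun s => b (ι s)) ≠ 0 := by
      intro hcon
      apply hb0
      apply Helper25.isCharacter_eq_zero_of_apply_one hb
      have := congrFun hcon 1
      simpa using this
    obtain ⟨n, hn, hn'⟩ := two_le_inner_self_add ha' hb' ha0' hb0'
    have hsum : (fun s => τ (ι s)) = (fun s => a (ι s)) + (fun s => b (ι s)) := by
      funext s
      simp [hab]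
    have h1 := Helper74.irr_inner_self ⟨_, hirr⟩
    simp only at h1
    rw [hsum, hn'] at h1
    have : n = 1 := by exact_mod_cast h1
    omega

/-- Bessel's inequality for a single unit vector. -/
theorem bessel_irr [Fintype G] (Ψ τ : G → ℂ) (n : ℕ) (h1 : classInner τ τ = 1)
    (h2 : classInner Ψ τ = n) : (n : ℝ) ^ 2 ≤ (classInner Ψ Ψ).re := by
  classical
  have := Helper25.bessel_orthogonal (G := G) (ι := Unit) {()} (fun _ => τ) (fun _ => 1)
    (by intro i _; norm_num) (by intro i _ j _; simp [h1]) Ψ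
  simpa [h2] using this

/-- Sums over the elements of a subgroup, as filtered sums over the group. -/
theorem sum_filter_mem_eq [Fintype G] (S : Subgroup G) [Fintype S] [DecidablePred (· ∈ S)]
    {A : Type*} [AddCommMonoid A] (f : G → A) :
    ∑ g ∈ Finset.univ.filter (· ∈ S), f g = ∑ s : S, f (s : G) := by
  rw [Finset.sum_subtype (Finset.univ.filter (· ∈ S)) (p := (· ∈ S)) (by simp) f]

/-- Mass of a function over a subgroup, in terms of the norm of the restriction. -/
theorem sum_filter_mem_normSq [Fintype G] (S : Subgroup G) [Fintype S] [DecidablePred (· ∈ S)]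
    (χ : G → ℂ) :
    ((∑ g ∈ Finset.univ.filter (· ∈ S), Complex.normSq (χ g) : ℝ) : ℂ) =
      (Nat.card S : ℂ) * classInner (fun s : S => χ s) (fun s : S => χ s) := by
  rw [sum_filter_mem_eq, Helper74.classInner_self]
  have hS : (Nat.card S : ℂ) ≠ 0 := by exact_mod_cast Nat.card_pos.ne'
  push_cast
  field_simp

end Cfsg.Agent.Helper15
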