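import Mathlib
import Cfsg.Prelude.Def_Characters
import Cfsg.Agent.Helper15.CharAux
import Cfsg.Agent.Helper80.Pullback

set_option autoImplicit false

/-!
# General lemmas for Berger's theorem (quasi-primitive characters of solvable groups)

* `sum_comp_surjective`, `indFun_of_surjective`: induction commutes with inflation along a
  surjective homomorphism;
* `isIrr_of_mul_isIrr`, `isIrr_of_indFun_isIrr`;
* `exists_descend_induced`: an inducing pair upstairs whose subgroup contains the kernel descends;
* `isCoatom_comap`;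
* `restrict_indFun_of_normal_le` and consequences.
-/

namespace Cfsg.Agent.Helper15.Berger

open Cfsg
open scoped ComplexConjugate

universe u v

section surj

variable {G' : Type u} {G : Type v} [Group G'] [Group G] [Fintype G'] [Fintype G]

omit [Fintype G] in
theorem card_fiber [DecidableEq G] (P : G' →* G) (hP : Function.Surjective P) (j : G) :
    (Finset.univ.filter (fun x : G' => P x = j)).card = Nat.card P.ker := by
  classical
  obtain ⟨x₀, rfl⟩ := hP j
  rw [← Fintype.card_subtype, ← Nat.card_eq_fintype_card]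
  apply Nat.card_congr
  exact
    { toFun := fun x => ⟨x₀⁻¹ * x.1, by
        rw [MonoidHom.mem_ker, map_mul, map_inv, x.2, inv_mul_cancel]⟩
      invFun := fun k => ⟨x₀ * k.1, by
        rw [map_mul, MonoidHom.mem_ker.mp k.2, mul_one]⟩
      left_inv := fun x => by simp
      right_inv := fun k => by simp }

/-- Sum over the source of a surjective homomorphism. -/
theorem sum_comp_surjective (P : G' →* G) (hP : Function.Surjective P) (F : G → ℂ) :
    ∑ x : G', F (P x) = (Nat.card P.ker : ℂ) * ∑ x : G, F x := by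
  classical
  rw [← Finset.sum_fiberwise (s := Finset.univ) (g := fun x : G' => P x)
    (f := fun x => F (P x)), Finset.mul_sum]
  apply Finset.sum_congr rfl
  intro j _
  have h1 : ∀ i ∈ Finset.univ.filter (fun x : G' => P x = j), F (P i) = F j := by
    intro i hi
    rw [(Finset.mem_filter.mp hi).2]
  rw [Finset.sum_congr rfl h1, Finset.sum_const, card_fiber P hP j, nsmul_eq_mul]

theorem card_eq_card_ker_mul (P : G' →* G) (hP : Function.Surjective P) :
    Nat.card G' = Nat.card P.ker * Nat.card G := by
  have h := sum_comp_surjective P hP (fun _ => (1 : ℂ))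
  simp only [Finset.sum_const, Finset.card_univ, nsmul_eq_mul, mul_one] at h
  rw [Nat.card_eq_fintype_card (α := G'), Nat.card_eq_fintype_card (α := G)]
  exact_mod_cast h

/-- Induction commutes with inflation along a surjective homomorphism. -/
theorem indFun_of_surjective (P : G' →* G) (hP : Function.Surjective P) (T' : Subgroup G')
    (T : Subgroup G) (hT : ∀ y : G', y ∈ T' ↔ P y ∈ T) (ψ' : T' → ℂ) (ψ : T → ℂ)
    (hψ : ∀ t : T', ψ' t = ψ ⟨P t, (hT t).mp t.2⟩) (g : G') :
    indFun T' ψ' g = indFun T ψ (P g) := by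
  classical
  have hT' : T' = T.comap P := by
    ext y
    rw [Subgroup.mem_comap]
    exact hT y
  have hext : ∀ y : G', extendByZero T' ψ' y = extendByZero T ψ (P y) := by
    intro y
    by_cases hy : y ∈ T'
    · rw [extendByZero_of_mem T' ψ' hy, extendByZero_of_mem T ψ ((hT y).mp hy)]
      exact hψ ⟨y, hy⟩
    · rw [extendByZero_of_not_mem T' ψ' hy,
        extendByZero_of_not_mem T ψ (fun h => hy ((hT y).mpr h))]
  have hcard : Nat.card T' = Nat.card P.ker * Nat.card T := by
    have h1 : Nat.card T' * T'.index = Nat.card G' := Subgroup.card_mul_index T'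
    have h2 : Nat.card T * T.index = Nat.card G := Subgroup.card_mul_index T
    have h3 : T'.index = T.index := by
      rw [hT']
      exact Subgroup.index_comap_of_surjective T hP
    have h4 := card_eq_card_ker_mul P hP
    have hidx : 0 < T.index := Nat.pos_of_ne_zero Subgroup.index_ne_zero_of_finite
    apply Nat.eq_of_mul_eq_mul_right hidx
    rw [← h3, h1, h4, h3, mul_assoc, h2]
  rw [indFun_apply, indFun_apply]
  have hsum : ∑ x : G', extendByZero T' ψ' (x⁻¹ * g * x) =
      (Nat.card P.ker : ℂ) * ∑ x : G, extendByZero T ψ (x⁻¹ * P g * x) := by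
    rw [← sum_comp_surjective P hP (fun x => extendByZero T ψ (x⁻¹ * P g * x))]
    apply Finset.sum_congr rfl
    intro x _
    rw [hext, map_mul, map_mul, map_inv]
  rw [hsum, hcard]
  have hk : (Nat.card P.ker : ℂ) ≠ 0 := by exact_mod_cast Nat.card_pos.ne'
  have ht : (Nat.card T : ℂ) ≠ 0 := by exact_mod_cast Nat.card_pos.ne'
  push_cast
  field_simp

/-- Induction from a preimage. -/
theorem indFun_comap (P : G' →* G) (hP : Function.Surjective P) (H : Subgroup G) (ϑ : H → ℂ)
    (g : G') :
    indFun (H.comap P) (fun x : H.comap P => ϑ ⟨P x, x.2⟩) g = indFun H ϑ (P g) :=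
  indFun_of_surjective P hP (H.comap P) H (fun _ => Iff.rfl) _ ϑ (fun _ => rfl) g

end surj

section irr

variable {G : Type u} [Group G]

theorem isIrr_of_mul_isIrr [Fintype G] {A B : G → ℂ} (hA : IsCharacter G A)
    (hB : IsCharacter G B) (h : IsIrrCharacter G (A * B)) : IsIrrCharacter G A := by
  have h1 : (A * B) 1 ≠ 0 := Helper80.IsIrrCharacter.map_one_ne_zero h
  rw [Pi.mul_apply] at h1
  have hB1 : B 1 ≠ 0 := right_ne_zero_of_mul h1
  rcases isCharacter_trichotomy hA with h0 | h0 | ⟨a, b, ha, hb, ha0, hb0, hab⟩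
  · exfalso
    apply h1
    rw [h0]; simp
  · exact h0
  · exfalso
    have haB : IsCharacter G (a * B) := Helper74.isCharacter_mul ha hB
    have hbB : IsCharacter G (b * B) := Helper74.isCharacter_mul hb hB
    have haB0 : a * B ≠ 0 := by
      intro hcon
      apply ha0
      apply Helper25.isCharacter_eq_zero_of_apply_one ha
      have := congrFun hcon 1
      rw [Pi.mul_apply, Pi.zero_apply] at this
      rcases mul_eq_zero.mp this with h' | h'
      · exact h'
      · exact absurd h' hB1
    have hbB0 : b * B ≠ 0 := by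
      intro hcon
      apply hb0
      apply Helper25.isCharacter_eq_zero_of_apply_one hb
      have := congrFun hcon 1
      rw [Pi.mul_apply, Pi.zero_apply] at this
      rcases mul_eq_zero.mp this with h' | h'
      · exact h'
      · exact absurd h' hB1
    obtain ⟨n, hn, hn'⟩ := two_le_inner_self_add haB hbB haB0 hbB0
    have hsum : A * B = a * B + b * B := by rw [hab, add_mul]
    have h2 := Helper74.irr_inner_self ⟨_, h⟩
    simp only at h2
    rw [hsum, hn'] at h2
    have : n = 1 := by exact_mod_cast h2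
    omega

theorem isIrr_of_indFun_isIrr [Fintype G] (T : Subgroup G) {ψ : T → ℂ} (hψ : IsCharacter T ψ)
    (h : IsIrrCharacter G (indFun T ψ)) : IsIrrCharacter T ψ := by
  have h1 : indFun T ψ 1 ≠ 0 := Helper80.IsIrrCharacter.map_one_ne_zero h
  have hidx : (T.index : ℂ) ≠ 0 := by
    exact_mod_cast Subgroup.index_ne_zero_of_finite
  rcases isCharacter_trichotomy hψ with h0 | h0 | ⟨a, b, ha, hb, ha0, hb0, hab⟩
  · exfalso
    apply h1
    rw [h0, indFun_zero]; simp
  · exact h0
  · exfalso
    have haI : IsCharacter G (indFun T a) := isCharacter_indFun T ha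
    have hbI : IsCharacter G (indFun T b) := isCharacter_indFun T hb
    have haI0 : indFun T a ≠ 0 := by
      intro hcon
      apply ha0
      apply Helper25.isCharacter_eq_zero_of_apply_one ha
      have := congrFun hcon 1
      rw [indFun_apply_one, Pi.zero_apply] at this
      rcases mul_eq_zero.mp this with h' | h'
      · exact absurd h' hidx
      · exact h'
    have hbI0 : indFun T b ≠ 0 := by
      intro hcon
      apply hb0
      apply Helper25.isCharacter_eq_zero_of_apply_one hb
      have := congrFun hcon 1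
      rw [indFun_apply_one, Pi.zero_apply] at this
      rcases mul_eq_zero.mp this with h' | h'
      · exact absurd h' hidx
      · exact h'
    obtain ⟨n, hn, hn'⟩ := two_le_inner_self_add haI hbI haI0 hbI0
    have hsum : indFun T ψ = indFun T a + indFun T b := by rw [hab, indFun_add]
    have h2 := Helper74.irr_inner_self ⟨_, h⟩
    simp only at h2
    rw [hsum, hn'] at h2
    have : n = 1 := by exact_mod_cast h2
    omega

end irr

section coatom

variable {G' : Type u} {G : Type v} [Group G'] [Group G]

theorem isCoatom_comap (P : G' →* G) (hP : Function.Surjective P) {H : Subgroup G}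
    (hH : IsCoatom H) : IsCoatom (H.comap P) := by
  constructor
  · intro h
    apply hH.1
    rw [← Subgroup.map_comap_eq_self_of_surjective hP H, h]
    exact Subgroup.map_top_of_surjective P hP
  · intro T hT
    have hker : P.ker ≤ T := le_trans (Subgroup.ker_le_comap P H) hT.le
    have hTeq : (T.map P).comap P = T := Subgroup.comap_map_eq_self hker
    have hle : H ≤ T.map P := by
      rw [← Subgroup.map_comap_eq_self_of_surjective hP H]
      exact Subgroup.map_mono hT.le
    have hne : H ≠ T.map P := by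
      intro h
      apply hT.ne
      rw [h, hTeq]
    have htop : T.map P = ⊤ := hH.2 _ (lt_of_le_of_ne hle hne)
    rw [← hTeq, htop, Subgroup.comap_top]

end coatom


section descend

variable {G' : Type u} {G : Type v} [Group G'] [Group G] [Fintype G'] [Fintype G]

omit [Fintype G] in
/-- If `Ind_T ψ'` is constant on the normal subgroup `ker P ≤ T`, then `ker P ≤ ker ψ'`. -/
theorem ker_le_of_indFun_eq (P : G' →* G) (T : Subgroup G') (hker : P.ker ≤ T)
    {ψ' : T → ℂ} (hψ' : IsCharacter T ψ') (χ : G → ℂ)
    (hind : ∀ g, indFun T ψ' g = χ (P g)) (z : G') (hz : z ∈ P.ker) :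
    ψ' ⟨z, hker hz⟩ = ψ' 1 := by
  classical
  obtain ⟨d, hd⟩ : ∃ d : ℝ, d = (charDegree ψ' : ℝ) := ⟨_, rfl⟩
  have hd1 : ψ' 1 = (d : ℂ) := by
    rw [hd]
    have := Helper80.IsCharacter.charDegree_cast hψ'
    rw [← this]
    push_cast
    rfl
  have hnorm : ∀ t : T, ‖ψ' t‖ ≤ d := fun t => by
    rw [hd]; exact Helper80.IsCharacter.norm_le hψ' t
  have hmem : ∀ x : G', x⁻¹ * z * x ∈ T := by
    intro x
    apply hker
    have := P.normal_ker.conj_mem z hz x⁻¹
    simpa using this
  have hS : ∑ x : G', extendByZero T ψ' (x⁻¹ * z * x) =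
      ∑ x : G', extendByZero T ψ' (x⁻¹ * 1 * x) := by
    have h1 := hind z
    have h2 := hind 1
    rw [MonoidHom.mem_ker.mp hz, ← map_one P, ← h2] at h1
    rw [indFun_apply, indFun_apply] at h1
    have hT0 : (Nat.card T : ℂ)⁻¹ ≠ 0 := by
      apply inv_ne_zero
      exact_mod_cast Nat.card_pos.ne'
    exact mul_left_cancel₀ hT0 h1
  have hone : ∀ x : G', extendByZero T ψ' (x⁻¹ * 1 * x) = (d : ℂ) := by
    intro x
    have : x⁻¹ * 1 * x = ((1 : T) : G') := by simp
    rw [this, extendByZero_coe, hd1]
  have hre : ∑ x : G', (extendByZero T ψ' (x⁻¹ * z * x)).re = ∑ _x : G', d := by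
    have := congrArg Complex.re hS
    rw [Complex.re_sum, Complex.re_sum] at this
    rw [this]
    apply Finset.sum_congr rfl
    intro x _
    rw [hone]; simp
  have hle : ∀ x ∈ (Finset.univ : Finset G'), (extendByZero T ψ' (x⁻¹ * z * x)).re ≤ d := by
    intro x _
    rw [extendByZero_of_mem T ψ' (hmem x)]
    exact le_trans (Complex.re_le_norm _) (hnorm _)
  have heq := (Finset.sum_eq_sum_iff_of_le hle).mp hre 1 (Finset.mem_univ 1)
  have hz1 : (1 : G')⁻¹ * z * 1 = z := by simp
  rw [hz1, extendByZero_of_mem T ψ' (hker hz)] at heq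
  have hn := hnorm ⟨z, hker hz⟩
  rw [hd1]
  have h2 : ‖ψ' ⟨z, hker hz⟩‖ ^ 2 =
      (ψ' ⟨z, hker hz⟩).re ^ 2 + (ψ' ⟨z, hker hz⟩).im ^ 2 := by
    rw [Complex.sq_norm, Complex.normSq_apply]; ring
  have h3 : ‖ψ' ⟨z, hker hz⟩‖ ^ 2 ≤ d ^ 2 := pow_le_pow_left₀ (norm_nonneg _) hn 2
  have h4 : (ψ' ⟨z, hker hz⟩).im ^ 2 ≤ 0 := by
    rw [h2, heq] at h3
    linarith
  have h5 : (ψ' ⟨z, hker hz⟩).im = 0 := by
    have := le_antisymm h4 (sq_nonneg _)
    exact pow_eq_zero_iff (two_ne_zero) |>.mp this
  apply Complex.ext
  · simpa using heq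
  · simpa using h5

/-- An inducing pair `(T, ψ')` upstairs with `ker P ≤ T` descends to an inducing pair downstairs. -/
theorem exists_descend_induced (P : G' →* G) (hP : Function.Surjective P) (T : Subgroup G')
    (hker : P.ker ≤ T) {ψ' : T → ℂ} (hψ' : IsCharacter T ψ') (χ : G → ℂ)
    (hind : ∀ g, indFun T ψ' g = χ (P g)) :
    ∃ ψ : (T.map P) → ℂ, IsCharacter (T.map P) ψ ∧ indFun (T.map P) ψ = χ := by
  have hk := ker_le_of_indFun_eq P T hker hψ' χ hind
  obtain ⟨ψ, hψ, hψeq⟩ := Helper80.IsCharacter.exists_descend hψ' (P.subgroupMap T)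
    (P.subgroupMap_surjective T)
    (by
      intro t ht
      have hmem : (t : G') ∈ P.ker := by
        rw [MonoidHom.mem_ker]
        have := congrArg Subtype.val ht
        simpa using this
      exact hk t hmem)
  refine ⟨ψ, hψ, ?_⟩
  funext g
  obtain ⟨g', rfl⟩ := hP g
  rw [← hind g']
  symm
  apply indFun_of_surjective P hP T (T.map P) ?_ ψ' ψ ?_
  · intro y
    constructor
    · intro hy; exact Subgroup.mem_map_of_mem P hy
    · rintro ⟨t, ht, hty⟩
      have h1 : t⁻¹ * y ∈ P.ker := by
        rw [MonoidHom.mem_ker, map_mul, map_inv, hty, inv_mul_cancel]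
      have := T.mul_mem ht (hker h1)
      simpa using this
  · intro t
    rw [hψeq t]
    rfl

end descend

section normal

variable {G : Type u} [Group G] [Fintype G]

/-- Restriction of an induced function to a normal subgroup contained in the inducing
subgroup. -/
theorem restrict_indFun_of_normal_le (H N : Subgroup G) [hN : N.Normal] (hNH : N ≤ H)
    (ϑ : H → ℂ) :
    (fun n : N => indFun H ϑ n) =
      (Nat.card H : ℂ)⁻¹ • ∑ g : G, conjFun N g (resTo N H hNH ϑ) := by
  funext n
  rw [indFun_apply']
  simp only [Pi.smul_apply, Finset.sum_apply, smul_eq_mul]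
  congr 1
  apply Finset.sum_congr rfl
  intro x _
  rw [conjFun_apply, resTo_apply, extendByZero_of_mem H ϑ (hNH (hN.conj_mem (n : G) n.2 x))]

theorem card_inv_mul_card (H : Subgroup G) :
    (Nat.card H : ℂ)⁻¹ * (Fintype.card G : ℂ) = (H.index : ℂ) := by
  have h1 : (Nat.card H : ℂ) * (H.index : ℂ) = (Fintype.card G : ℂ) := by
    rw [← Nat.card_eq_fintype_card]; exact_mod_cast H.card_mul_index
  have hH : (Nat.card H : ℂ) ≠ 0 := by exact_mod_cast Nat.card_pos.ne'
  rw [← h1]; field_simp

theorem classInner_restrict_indFun_of_invariant (H N : Subgroup G) [hN : N.Normal] [Fintype N]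
    (hNH : N ≤ H) (ϑ : H → ℂ) (φ : N → ℂ) (hinv : ∀ g : G, conjFun N g φ = φ) :
    classInner (fun n : N => indFun H ϑ n) φ =
      (H.index : ℂ) * classInner (resTo N H hNH ϑ) φ := by
  rw [restrict_indFun_of_normal_le H N hNH ϑ, classInner_smul_left, classInner_finset_sum_left]
  have h : ∀ g ∈ (Finset.univ : Finset G),
      classInner (conjFun N g (resTo N H hNH ϑ)) φ = classInner (resTo N H hNH ϑ) φ := by
    intro g _
    rw [classInner_conjFun_left, hinv]
  rw [Finset.sum_congr rfl h, Finset.sum_const, Finset.card_univ, nsmul_eq_mul, ← mul_assoc,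
    card_inv_mul_card]

theorem restrict_indFun_of_invariant (H N : Subgroup G) [hN : N.Normal] (hNH : N ≤ H)
    (lam : H → ℂ) (hinv : ∀ g : G, conjFun N g (resTo N H hNH lam) = resTo N H hNH lam) :
    (fun n : N => indFun H lam n) = (H.index : ℂ) • resTo N H hNH lam := by
  rw [restrict_indFun_of_normal_le H N hNH lam]
  simp only [hinv, Finset.sum_const, Finset.card_univ]
  funext n
  simp only [Pi.smul_apply, smul_eq_mul, nsmul_eq_mul, Pi.mul_apply, Pi.natCast_apply]
  rw [← mul_assoc, card_inv_mul_card]

end normal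

end Cfsg.Agent.Helper15.Berger
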