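import Mathlib
import Cfsg.Prelude.Def_Characters
import Cfsg.Agent.Helper15.ProjLift
import Cfsg.Agent.Helper15.CharAux

set_option autoImplicit false

/-!
# The projective lift of an invariant irreducible character

For `N ⊴ G` and a `G`-invariant `φ ∈ Irr(N)` there are a finite group `Gt`, a surjection
`π : Gt → G` with central kernel, a section `s : N → Gt` over `N` with normal image, and an
irreducible character `φh` of `Gt` with `φh ∘ s = φ`.
-/

namespace Cfsg.Agent.Helper15.Berger

open Cfsg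

universe u

section lift

variable {d : ℕ}

/-- Units whose determinant is an `m`-th root of unity. -/
noncomputable def detRoots (d m : ℕ) : Subgroup (EndU d) := (rootsOfUnity m ℂ).comap (detU d)

theorem finite_center_inf_detRoots {N : Type*} [Group N] (ρ : Representation ℂ N (Fin d → ℂ))
    [ρ.IsIrreducible] (m : ℕ) (hm : m ≠ 0) :
    Finite ↥(Subgroup.center (EndU d) ⊓ detRoots d m) := by
  have hVnt : Nontrivial (Fin d → ℂ) := Helper81.nontrivial_of_irreducible ρ
  have hd : d ≠ 0 := by
    rintro rfl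
    exact not_subsingleton (Fin 0 → ℂ) inferInstance
  have : NeZero (d * m) := ⟨mul_ne_zero hd hm⟩
  have hsub : ((Subgroup.center (EndU d) ⊓ detRoots d m : Subgroup (EndU d)) : Set (EndU d)) ⊆
      (scalarU d) '' (rootsOfUnity (d * m) ℂ : Set ℂˣ) := by
    rintro A ⟨hA1, hA2⟩
    obtain ⟨c, rfl⟩ := exists_scalarU_of_commute ρ A
      (fun n => (Subgroup.mem_center_iff.mp hA1 _).symm)
    refine ⟨c, ?_, rfl⟩
    have h1 : detU d (scalarU d c) ∈ rootsOfUnity m ℂ := hA2
    rw [detU_scalarU, mem_rootsOfUnity] at h1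
    rw [SetLike.mem_coe, mem_rootsOfUnity, pow_mul]
    exact h1
  have hfin : (rootsOfUnity (d * m) ℂ : Set ℂˣ).Finite :=
    Set.finite_coe_iff.mp (inferInstanceAs (Finite (rootsOfUnity (d * m) ℂ)))
  exact ((hfin.image (scalarU d)).subset hsub).to_subtype

/-- A determinant-one unit realising conjugation by `g` on an invariant irreducible
representation. -/
theorem exists_compat_det_one {G : Type*} [Group G] [Finite G] (N : Subgroup G) [hN : N.Normal]
    (ρ : Representation ℂ N (Fin d → ℂ)) [ρ.IsIrreducible]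
    (hinv : ∀ (g : G) (n : N),
      ρ.character ⟨g * n * g⁻¹, hN.conj_mem n n.2 g⟩ = ρ.character n) (g : G) :
    ∃ A : EndU d, detU d A = 1 ∧ ∀ n : N, A * MonoidHom.toHomUnits ρ n * A⁻¹ =
      MonoidHom.toHomUnits ρ ⟨g * n * g⁻¹, hN.conj_mem n n.2 g⟩ := by
  classical
  have hVnt : Nontrivial (Fin d → ℂ) := Helper81.nontrivial_of_irreducible ρ
  have hd : d ≠ 0 := by
    rintro rfl
    exact not_subsingleton (Fin 0 → ℂ) inferInstance
  let cj : N →* N :=
    { toFun := fun m => ⟨g * m * g⁻¹, hN.conj_mem m m.2 g⟩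
      map_one' := by apply Subtype.ext; simp
      map_mul' := fun a b => by apply Subtype.ext; simp [mul_assoc] }
  let ρg : Representation ℂ N (Fin d → ℂ) := ρ.comp cj
  have hρg_char : ρ.character = ρg.character := by
    funext m
    exact (hinv g m).symm
  obtain ⟨E, hE⟩ := exists_intertwiner_of_character_eq ρ ρg hρg_char
  have hE' : ∀ n : N, E * MonoidHom.toHomUnits ρ n * E⁻¹ =
      MonoidHom.toHomUnits ρ ⟨g * n * g⁻¹, hN.conj_mem n n.2 g⟩ := by
    intro n
    rw [mul_inv_eq_iff_eq_mul, hE n]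
    congr 1
    apply Units.ext
    rfl
  obtain ⟨c, hc⟩ := IsAlgClosed.exists_pow_nat_eq (((detU d E)⁻¹ : ℂˣ) : ℂ)
    (Nat.pos_of_ne_zero hd)
  have hc0 : c ≠ 0 := by
    rintro rfl
    rw [zero_pow hd] at hc
    exact (Units.ne_zero _) hc.symm
  let z : EndU d := scalarU d (Units.mk0 c hc0)
  have hz : z ∈ Subgroup.center (EndU d) := scalarU_mem_center d _
  have hzc : ∀ u : EndU d, z * u * z⁻¹ = u := fun u => by
    rw [← (Subgroup.mem_center_iff.mp hz) u, mul_assoc, mul_inv_cancel, mul_one]
  refine ⟨z * E, ?_, fun n => ?_⟩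
  · rw [map_mul, detU_scalarU]
    have : (Units.mk0 c hc0) ^ d = (detU d E)⁻¹ := by
      apply Units.ext
      rw [Units.val_pow_eq_pow_val]
      exact hc
    rw [this, inv_mul_cancel]
  · rw [← hE' n]
    calc z * E * MonoidHom.toHomUnits ρ n * (z * E)⁻¹
        = z * (E * MonoidHom.toHomUnits ρ n * E⁻¹) * z⁻¹ := by group
      _ = _ := hzc _

end lift

/-- **The projective lift.** -/
theorem exists_proj_lift {G : Type u} [Group G] [Finite G] (N : Subgroup G) [hN : N.Normal]
    (φ : N → ℂ) (hφ : IsIrrCharacter N φ)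
    (hinv : ∀ (g : G) (n : N), φ ⟨g * n * g⁻¹, hN.conj_mem n n.2 g⟩ = φ n) :
    ∃ (Gt : Type u) (_ : Group Gt) (_ : Finite Gt) (π : Gt →* G) (s : N →* Gt) (φh : Gt → ℂ),
      Function.Surjective π ∧ π.ker ≤ Subgroup.center Gt ∧ (∀ n : N, π (s n) = n) ∧
      s.range.Normal ∧ IsIrrCharacter Gt φh ∧ ∀ n : N, φh (s n) = φ n := by
  classical
  obtain ⟨d, ρ, hirr, rfl⟩ := hφ
  have : ρ.IsIrreducible := hirr
  obtain ⟨m, hm⟩ : ∃ m : ℕ, m = Nat.card N := ⟨_, rfl⟩
  have hm0 : m ≠ 0 := by rw [hm]; exact Nat.card_pos.ne'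
  obtain ⟨f, hf⟩ : ∃ f : N →* EndU d, f = MonoidHom.toHomUnits ρ := ⟨_, rfl⟩
  have hcent : ∀ A : EndU d, (∀ n : N, A * f n = f n * A) → A ∈ Subgroup.center (EndU d) := by
    rw [hf]; exact mem_center_of_commute ρ
  have hlift : ∀ g : G, ∃ A ∈ detRoots d m, ∀ n : N,
      A * f n * A⁻¹ = f ⟨g * n * g⁻¹, hN.conj_mem n n.2 g⟩ := by
    intro g
    obtain ⟨A, hA1, hA⟩ := exists_compat_det_one N ρ hinv g
    refine ⟨A, ?_, by rw [hf]; exact hA⟩
    show detU d A ∈ rootsOfUnity m ℂ
    rw [hA1]; exact one_mem _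
  have hfin := finite_center_inf_detRoots ρ m hm0
  have hGtfin : Finite (liftGroup N f (detRoots d m)) :=
    finite_liftGroup N f (detRoots d m) hcent hfin
  have hsurj := liftFst_surjective N f (detRoots d m) hlift
  have hfU : ∀ n : N, f n ∈ detRoots d m := by
    intro n
    show detU d (f n) ∈ rootsOfUnity m ℂ
    rw [mem_rootsOfUnity, ← map_pow, ← map_pow, hm, pow_card_eq_one', map_one, map_one]
  let s : N →* liftGroup N f (detRoots d m) :=
    { toFun := fun n => ⟨((n : G), f n), by
        refine ⟨?_, hfU n⟩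
        intro n'
        show f n * f n' * (f n)⁻¹ = f ⟨(n : G) * n' * (n : G)⁻¹, _⟩
        rw [← map_inv, ← map_mul, ← map_mul]
        congr 1⟩
      map_one' := by
        apply Subtype.ext
        simp
      map_mul' := fun a b => by
        apply Subtype.ext
        simp }
  have hs1 : ∀ n : N, liftFst N f (detRoots d m) (s n) = n := fun n => rfl
  have hs2 : ∀ n : N, liftSnd N f (detRoots d m) (s n) = f n := fun n => rfl
  let σ : Representation ℂ (liftGroup N f (detRoots d m)) (Fin d → ℂ) :=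
    (Units.coeHom (Module.End ℂ (Fin d → ℂ))).comp (liftSnd N f (detRoots d m))
  have hσs : ∀ n : N, σ.character (s n) = ρ.character n := by
    intro n
    show LinearMap.trace ℂ _ ((liftSnd N f (detRoots d m) (s n) : EndU d) :
      Module.End ℂ (Fin d → ℂ)) = LinearMap.trace ℂ _ (ρ n)
    rw [hs2, hf]
    rfl
  refine ⟨liftGroup N f (detRoots d m), inferInstance, hGtfin, liftFst N f (detRoots d m), s,
    σ.character, hsurj, ?_, hs1, ?_, ?_, hσs⟩
  · -- central kernel
    intro x hx
    rw [MonoidHom.mem_ker] at hx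
    rw [Subgroup.mem_center_iff]
    intro y
    have hxc : liftSnd N f (detRoots d m) x ∈ Subgroup.center (EndU d) := by
      apply hcent
      intro n
      have h1 := liftSnd_conj N f (detRoots d m) x n
      have e : (⟨liftFst N f (detRoots d m) x * n * (liftFst N f (detRoots d m) x)⁻¹,
          hN.conj_mem n n.2 _⟩ : N) = n := by
        apply Subtype.ext
        simp [hx]
      rw [e] at h1
      exact mul_inv_eq_iff_eq_mul.mp h1
    apply liftGroup_ext
    · rw [map_mul, map_mul, hx, one_mul, mul_one]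
    · rw [map_mul, map_mul]
      exact (Subgroup.mem_center_iff.mp hxc _)
  · -- the image of the section is normal
    constructor
    rintro _ ⟨n, rfl⟩ y
    refine ⟨⟨liftFst N f (detRoots d m) y * n * (liftFst N f (detRoots d m) y)⁻¹,
      hN.conj_mem n n.2 _⟩, ?_⟩
    apply liftGroup_ext
    · rw [hs1, map_mul, map_mul, map_inv, hs1]
    · rw [hs2, map_mul, map_mul, map_inv, hs2]
      exact (liftSnd_conj N f (detRoots d m) y n).symm
  · -- irreducibility
    have : Fintype N := Fintype.ofFinite N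
    apply isIrrCharacter_of_comp s ⟨d, σ, rfl⟩
    have : (fun n : N => σ.character (s n)) = ρ.character := funext hσs
    rw [this]
    exact ⟨d, ρ, hirr, rfl⟩

end Cfsg.Agent.Helper15.Berger
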