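import Mathlib
import Cfsg.Prelude.Def_Characters
import Cfsg.Agent.Helper15.CharAux
import Cfsg.Agent.Helper15.LinChar
import Cfsg.Agent.Helper76.CharCentral
import Cfsg.Agent.Helper80.Pullback

set_option autoImplicit false
set_option linter.unusedSectionVars false

/-!
# The fibre product step in Berger's theorem

`Γ = B A` with `B ⊴ Γ`, `C = A ⊓ B ⊴ Γ`.  Let `β ∈ Irr(A)` be such that `C = L₀ (C ∩ Z(Γ))` with
`L₀ ⊴ Γ`, `L₀ ≤ ker β`.  On the fibre product `fib A B = {(x, y) : y ∈ A, x y⁻¹ ∈ B}` the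
character `β` extends (through the second projection) to `ρ ∈ Irr(fib A B)`, and on the preimage
of `A` under the first projection one has `β(x) = μ(x y⁻¹) β(y)` for a linear character.
-/

namespace Cfsg.Agent.Helper15.Berger

open Cfsg

universe u

section fib

variable {Γ : Type u} [Group Γ]

/-- The fibre product `{(x, y) : y ∈ A, x y⁻¹ ∈ B}`. -/
def fib (A B : Subgroup Γ) [hB : B.Normal] : Subgroup (Γ × Γ) where
  carrier := {w | w.2 ∈ A ∧ w.1 * w.2⁻¹ ∈ B}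
  one_mem' := by
    refine ⟨A.one_mem, ?_⟩
    show (1 : Γ) * (1 : Γ)⁻¹ ∈ B
    simp [B.one_mem]
  mul_mem' := by
    rintro ⟨x, y⟩ ⟨x', y'⟩ ⟨hy, hxy⟩ ⟨hy', hxy'⟩
    refine ⟨A.mul_mem hy hy', ?_⟩
    show x * x' * (y * y')⁻¹ ∈ B
    have : x * x' * (y * y')⁻¹ = (x * (x' * y'⁻¹) * x⁻¹) * (x * y⁻¹) := by group
    rw [this]
    exact B.mul_mem (hB.conj_mem _ hxy' x) hxy
  inv_mem' := by
    rintro ⟨x, y⟩ ⟨hy, hxy⟩
    refine ⟨A.inv_mem hy, ?_⟩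
    show x⁻¹ * (y⁻¹)⁻¹ ∈ B
    have : x⁻¹ * (y⁻¹)⁻¹ = x⁻¹ * (x * y⁻¹)⁻¹ * (x⁻¹)⁻¹ := by group
    rw [this]
    exact hB.conj_mem _ (B.inv_mem hxy) x⁻¹

variable (A B : Subgroup Γ) [hB : B.Normal]

theorem mem_fib (w : Γ × Γ) : w ∈ fib A B ↔ w.2 ∈ A ∧ w.1 * w.2⁻¹ ∈ B := Iff.rfl

/-- First projection. -/
def fibFst : fib A B →* Γ := (MonoidHom.fst Γ Γ).comp (fib A B).subtype

/-- Second projection, into `A`. -/
def fibSnd : fib A B →* A :=
  ((MonoidHom.snd Γ Γ).comp (fib A B).subtype).codRestrict A (fun w => w.2.1)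

@[simp] theorem fibFst_apply (w : fib A B) : fibFst A B w = w.1.1 := rfl

@[simp] theorem fibSnd_apply (w : fib A B) : (fibSnd A B w : Γ) = w.1.2 := rfl

theorem fibSnd_surjective : Function.Surjective (fibSnd A B) := by
  intro y
  refine ⟨⟨((y : Γ), (y : Γ)), ⟨y.2, ?_⟩⟩, ?_⟩
  · show (y : Γ) * (y : Γ)⁻¹ ∈ B
    simp [B.one_mem]
  · apply Subtype.ext
    rfl

theorem fibFst_surjective (hAB : ∀ x : Γ, ∃ b ∈ B, ∃ a ∈ A, x = b * a) :
    Function.Surjective (fibFst A B) := by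
  intro x
  obtain ⟨b, hb, a, ha, rfl⟩ := hAB x
  refine ⟨⟨(b * a, a), ⟨ha, ?_⟩⟩, rfl⟩
  show b * a * a⁻¹ ∈ B
  simpa using hb

theorem mul_inv_mem_of_mem_comap (C : Subgroup Γ) (hABC : ∀ x, x ∈ A → x ∈ B → x ∈ C)
    (w : fib A B) (hw : fibFst A B w ∈ A) : w.1.1 * w.1.2⁻¹ ∈ C :=
  hABC _ (A.mul_mem hw (A.inv_mem w.2.1)) w.2.2

end fib

section main

variable {Γ : Type u} [Group Γ] [Finite Γ]

/-- The hypotheses of the fibre product step. -/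
structure FibData (A B C L₀ : Subgroup Γ) (β : A → ℂ) : Prop where
  hCn : C.Normal
  hLn : L₀.Normal
  hCA : C ≤ A
  hCB : C ≤ B
  hABC : ∀ x, x ∈ A → x ∈ B → x ∈ C
  hLC : L₀ ≤ C
  hdec : ∀ c ∈ C, ∃ l ∈ L₀, ∃ z ∈ Subgroup.center Γ, c = l * z
  hβ : IsIrrCharacter A β
  habs : ∀ (l : Γ) (hl : l ∈ L₀) (y : A), β (⟨l, hCA (hLC hl)⟩ * y) = β y

variable {A B C L₀ : Subgroup Γ} {β : A → ℂ}

/-- The scalar by which `c ∈ C` acts in `β`. -/
noncomputable def mu (A : Subgroup Γ) (β : A → ℂ) (c : Γ) : ℂ := extendByZero A β c / β 1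

theorem mu_of_mem (c : Γ) (hc : c ∈ A) : mu A β c = β ⟨c, hc⟩ / β 1 := by
  rw [mu, extendByZero_of_mem A β hc]

theorem beta_one_ne_zero (D : FibData A B C L₀ β) : β 1 ≠ 0 :=
  Helper80.IsIrrCharacter.map_one_ne_zero D.hβ

theorem exists_scalar (D : FibData A B C L₀ β) (c : Γ) (hc : c ∈ C) :
    ∃ ω : ℂ, ∀ y : A, β (⟨c, D.hCA hc⟩ * y) = ω * β y := by
  obtain ⟨l, hl, z, hz, hclz⟩ := D.hdec c hc
  have hlA : l ∈ A := D.hCA (D.hLC hl)
  have hzA : z ∈ A := by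
    have : z = l⁻¹ * c := by rw [hclz]; group
    rw [this]
    exact A.mul_mem (A.inv_mem hlA) (D.hCA hc)
  have hzc : (⟨z, hzA⟩ : A) ∈ Subgroup.center A := by
    rw [Subgroup.mem_center_iff]
    intro a
    apply Subtype.ext
    exact Subgroup.mem_center_iff.mp hz a
  obtain ⟨ω, hω⟩ := Helper76.irr_exists_central_scalar D.hβ ⟨z, hzA⟩ hzc
  refine ⟨ω, fun y => ?_⟩
  have e : (⟨c, D.hCA hc⟩ : A) * y = ⟨l, hlA⟩ * (⟨z, hzA⟩ * y) := by
    apply Subtype.ext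
    simp [hclz, mul_assoc]
  rw [e, D.habs l hl, hω]

theorem mu_spec (D : FibData A B C L₀ β) (c : Γ) (hc : c ∈ C) (y : A) :
    β (⟨c, D.hCA hc⟩ * y) = mu A β c * β y := by
  obtain ⟨ω, hω⟩ := exists_scalar D c hc
  have h1 := hω 1
  rw [mul_one] at h1
  have : mu A β c = ω := by
    rw [mu_of_mem c (D.hCA hc), h1]
    field_simp [beta_one_ne_zero D]
  rw [this, hω]

theorem mu_mul (D : FibData A B C L₀ β) (c c' : Γ) (hc : c ∈ C) (hc' : c' ∈ C) :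
    mu A β (c * c') = mu A β c * mu A β c' := by
  rw [mu_of_mem (c * c') (A.mul_mem (D.hCA hc) (D.hCA hc')), mu_of_mem c' (D.hCA hc')]
  have e : (⟨c * c', A.mul_mem (D.hCA hc) (D.hCA hc')⟩ : A) = ⟨c, D.hCA hc⟩ * ⟨c', D.hCA hc'⟩ :=
    rfl
  rw [e, mu_spec D c hc]
  ring

theorem mu_one (D : FibData A B C L₀ β) : mu A β 1 = 1 := by
  rw [mu_of_mem 1 A.one_mem]
  exact div_self (beta_one_ne_zero D)

theorem mu_of_mem_L₀ (D : FibData A B C L₀ β) (l : Γ) (hl : l ∈ L₀) : mu A β l = 1 := by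
  rw [mu_of_mem l (D.hCA (D.hLC hl))]
  have h := D.habs l hl 1
  rw [mul_one] at h
  rw [h]
  exact div_self (beta_one_ne_zero D)

theorem mu_conj (D : FibData A B C L₀ β) (g c : Γ) (hc : c ∈ C) :
    mu A β (g * c * g⁻¹) = mu A β c := by
  have hCn := D.hCn
  have hLn := D.hLn
  have hgc : g * c * g⁻¹ ∈ C := hCn.conj_mem c hc g
  obtain ⟨l, hl, z, hz, hclz⟩ := D.hdec c hc
  have hlA : l ∈ A := D.hCA (D.hLC hl)
  have hzA : z ∈ A := by
    have : z = l⁻¹ * c := by rw [hclz]; group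
    rw [this]
    exact A.mul_mem (A.inv_mem hlA) (D.hCA hc)
  have hgl : g * l * g⁻¹ ∈ L₀ := hLn.conj_mem l hl g
  rw [mu_of_mem _ (D.hCA hgc), mu_of_mem _ (D.hCA hc)]
  congr 1
  have e1 : (⟨g * c * g⁻¹, D.hCA hgc⟩ : A) = ⟨g * l * g⁻¹, D.hCA (D.hLC hgl)⟩ * ⟨z, hzA⟩ := by
    apply Subtype.ext
    show g * c * g⁻¹ = g * l * g⁻¹ * z
    rw [hclz]
    have := Subgroup.mem_center_iff.mp hz g⁻¹
    calc g * (l * z) * g⁻¹ = g * l * (z * g⁻¹) := by group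
      _ = g * l * (g⁻¹ * z) := by rw [this]
      _ = g * l * g⁻¹ * z := by group
  have e2 : (⟨c, D.hCA hc⟩ : A) = ⟨l, hlA⟩ * ⟨z, hzA⟩ := by
    apply Subtype.ext
    exact hclz
  rw [e1, e2, D.habs _ hgl, D.habs _ hl]

variable [hB : B.Normal]

/-- The linear character `(x, y) ↦ μ(x y⁻¹)` of the preimage of `A`. -/
noncomputable def lamHom (D : FibData A B C L₀ β) : ↥(A.comap (fibFst A B)) →* ℂ where
  toFun w := mu A β (w.1.1.1 * w.1.1.2⁻¹)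
  map_one' := by
    show mu A β ((1 : Γ) * (1 : Γ)⁻¹) = 1
    rw [inv_one, mul_one]
    exact mu_one D
  map_mul' := by
    intro w w'
    have hCn := D.hCn
    have h1 : w.1.1.1 * w.1.1.2⁻¹ ∈ C := mul_inv_mem_of_mem_comap A B C D.hABC w.1 w.2
    have h2 : w'.1.1.1 * w'.1.1.2⁻¹ ∈ C := mul_inv_mem_of_mem_comap A B C D.hABC w'.1 w'.2
    show mu A β ((w.1.1.1 * w'.1.1.1) * (w.1.1.2 * w'.1.1.2)⁻¹) =
      mu A β (w.1.1.1 * w.1.1.2⁻¹) * mu A β (w'.1.1.1 * w'.1.1.2⁻¹)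
    have e : (w.1.1.1 * w'.1.1.1) * (w.1.1.2 * w'.1.1.2)⁻¹ =
        (w.1.1.1 * (w'.1.1.1 * w'.1.1.2⁻¹) * w.1.1.1⁻¹) * (w.1.1.1 * w.1.1.2⁻¹) := by group
    rw [e, mu_mul D _ _ (hCn.conj_mem _ h2 _) h1, mu_conj D _ _ h2, mul_comm]

theorem lamHom_apply (D : FibData A B C L₀ β) (w : ↥(A.comap (fibFst A B))) :
    lamHom D w = mu A β (w.1.1.1 * w.1.1.2⁻¹) := rfl

/-- The character `λ' = φh(x) μ(x y⁻¹)`. -/
noncomputable def lamP (D : FibData A B C L₀ β) (φh : Γ → ℂ) : ↥(A.comap (fibFst A B)) → ℂ :=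
  fun w => φh w.1.1.1 * lamHom D w

theorem lamP_apply (D : FibData A B C L₀ β) (φh : Γ → ℂ) (w : ↥(A.comap (fibFst A B))) :
    lamP D φh w = φh w.1.1.1 * mu A β (w.1.1.1 * w.1.1.2⁻¹) := rfl

theorem isCharacter_lamP (D : FibData A B C L₀ β) {φh : Γ → ℂ} (hφh : IsCharacter Γ φh) :
    IsCharacter ↥(A.comap (fibFst A B)) (lamP D φh) := by
  have h1 : IsCharacter ↥(A.comap (fibFst A B)) (fun w => φh w.1.1.1) :=
    Helper80.IsCharacter.comp_hom hφh ((fibFst A B).comp (A.comap (fibFst A B)).subtype)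
  have h2 : IsCharacter ↥(A.comap (fibFst A B)) (lamHom D) := (isCharacter_of_hom (lamHom D)).1
  exact Helper74.isCharacter_mul h1 h2

/-- The embedding `l ↦ (l, 1)` of `L₀`. -/
def embL (D : FibData A B C L₀ β) : L₀ →* ↥(A.comap (fibFst A B)) where
  toFun l := ⟨⟨((l : Γ), 1), ⟨A.one_mem, by
    show (l : Γ) * (1 : Γ)⁻¹ ∈ B
    rw [inv_one, mul_one]
    exact D.hCB (D.hLC l.2)⟩⟩, D.hCA (D.hLC l.2)⟩
  map_one' := rfl
  map_mul' := by
    intro a b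
    apply Subtype.ext
    apply Subtype.ext
    simp

theorem lamP_embL (D : FibData A B C L₀ β) (φh : Γ → ℂ) (l : L₀) :
    lamP D φh (embL D l) = φh l := by
  rw [lamP_apply]
  show φh (l : Γ) * mu A β ((l : Γ) * (1 : Γ)⁻¹) = φh l
  rw [inv_one, mul_one, mu_of_mem_L₀ D l l.2, mul_one]

theorem isIrr_lamP (D : FibData A B C L₀ β) {φh : Γ → ℂ} (hφh : IsCharacter Γ φh)
    (hφL : IsIrrCharacter L₀ (fun l : L₀ => φh l)) :
    IsIrrCharacter ↥(A.comap (fibFst A B)) (lamP D φh) := by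
  have : Fintype L₀ := Fintype.ofFinite L₀
  apply isIrrCharacter_of_comp (embL D) (isCharacter_lamP D hφh)
  have : (fun l : L₀ => lamP D φh (embL D l)) = fun l : L₀ => φh l :=
    funext (lamP_embL D φh)
  rw [this]
  exact hφL

theorem comap_C_le (D : FibData A B C L₀ β) : C.comap (fibFst A B) ≤ A.comap (fibFst A B) :=
  Subgroup.comap_mono D.hCA

theorem isIrr_lamP_res (D : FibData A B C L₀ β) {φh : Γ → ℂ} (hφh : IsCharacter Γ φh)
    (hφL : IsIrrCharacter L₀ (fun l : L₀ => φh l)) :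
    IsIrrCharacter ↥(C.comap (fibFst A B))
      (fun c : ↥(C.comap (fibFst A B)) => lamP D φh ⟨c.1, comap_C_le D c.2⟩) := by
  have : Fintype L₀ := Fintype.ofFinite L₀
  have hch : IsCharacter ↥(C.comap (fibFst A B))
      (fun c : ↥(C.comap (fibFst A B)) => lamP D φh ⟨c.1, comap_C_le D c.2⟩) :=
    Helper80.IsCharacter.comp_hom (isCharacter_lamP D hφh) (Subgroup.inclusion (comap_C_le D))
  let e : L₀ →* ↥(C.comap (fibFst A B)) :=
    { toFun := fun l => ⟨(embL D l).1, D.hLC l.2⟩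
      map_one' := rfl
      map_mul' := by
        intro a b
        apply Subtype.ext
        apply Subtype.ext
        simp [embL] }
  apply isIrrCharacter_of_comp e hch
  have : (fun l : L₀ => lamP D φh ⟨(e l).1, comap_C_le D (e l).2⟩) = fun l : L₀ => φh l := by
    funext l
    exact lamP_embL D φh l
  rw [this]
  exact hφL

/-- `λ'` restricted to the preimage of `C` is invariant under the whole fibre product. -/
theorem lamP_conj (D : FibData A B C L₀ β) {φh : Γ → ℂ} (hφh : IsCharacter Γ φh)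
    (g c : fib A B) (hc : fibFst A B c ∈ C) (hgc : fibFst A B (g * c * g⁻¹) ∈ C) :
    lamP D φh ⟨g * c * g⁻¹, D.hCA hgc⟩ = lamP D φh ⟨c, D.hCA hc⟩ := by
  have hCn := D.hCn
  rw [lamP_apply, lamP_apply]
  show φh (g.1.1 * c.1.1 * g.1.1⁻¹) *
      mu A β ((g.1.1 * c.1.1 * g.1.1⁻¹) * (g.1.2 * c.1.2 * g.1.2⁻¹)⁻¹) =
    φh c.1.1 * mu A β (c.1.1 * c.1.2⁻¹)
  have hcf := Helper74.isClassFunction_of_isCharacter hφh
  rw [hcf c.1.1 g.1.1]
  congr 1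
  have hc1 : c.1.1 ∈ C := hc
  have hc12 : c.1.1 * c.1.2⁻¹ ∈ C :=
    mul_inv_mem_of_mem_comap A B C D.hABC c (D.hCA hc)
  have hc2 : c.1.2⁻¹ ∈ C := by
    have : c.1.2⁻¹ = c.1.1⁻¹ * (c.1.1 * c.1.2⁻¹) := by group
    rw [this]
    exact C.mul_mem (C.inv_mem hc1) hc12
  have e : (g.1.1 * c.1.1 * g.1.1⁻¹) * (g.1.2 * c.1.2 * g.1.2⁻¹)⁻¹ =
      (g.1.1 * c.1.1 * g.1.1⁻¹) * (g.1.2 * c.1.2⁻¹ * g.1.2⁻¹) := by group
  rw [e, mu_mul D _ _ (hCn.conj_mem _ hc1 _) (hCn.conj_mem _ hc2 _), mu_conj D _ _ hc1,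
    mu_conj D _ _ hc2, ← mu_mul D _ _ hc1 hc2]

/-- `ρ = β ∘ snd` is an irreducible character of the fibre product. -/
theorem isIrr_rho (D : FibData A B C L₀ β) :
    IsIrrCharacter (fib A B) (fun w => β (fibSnd A B w)) :=
  Helper80.IsIrrCharacter.comp_surjective D.hβ (fibSnd A B) (fibSnd_surjective A B)

/-- The key identity `φh(x) β(x) = λ'(x, y) ρ(x, y)`. -/
theorem key_identity (D : FibData A B C L₀ β) (φh : Γ → ℂ) (w : ↥(A.comap (fibFst A B))) :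
    φh (fibFst A B w.1) * β ⟨fibFst A B w.1, w.2⟩ = lamP D φh w * β (fibSnd A B w.1) := by
  rw [lamP_apply, mul_assoc]
  congr 1
  have h1 : w.1.1.1 * w.1.1.2⁻¹ ∈ C := mul_inv_mem_of_mem_comap A B C D.hABC w.1 w.2
  rw [← mu_spec D _ h1]
  congr 1
  apply Subtype.ext
  simp

end main

end Cfsg.Agent.Helper15.Berger
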