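import Mathlib
import Cfsg.Agent.Lib.Hall
import Cfsg.Agent.Helper61.PermSocle
import Cfsg.Agent.Helper63.PGroup
import Cfsg.Agent.Helper80.RelM

set_option autoImplicit false

/-!
# Chief factors above the core of a maximal subgroup (group theory for Isaacs-type arguments)
-/

namespace Cfsg.Agent.Helper15

open scoped commutatorElement Pointwise

variable {G : Type*} [Group G]

/-- A chief factor above a proper subgroup `L`. -/
theorem exists_chief_above [Finite G] (L : Subgroup G) (hL : L ≠ ⊤) :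
    ∃ K : Subgroup G, K.Normal ∧ L < K ∧
      ∀ N : Subgroup G, N.Normal → L ≤ N → N ≤ K → N = L ∨ N = K := by
  obtain ⟨K, hK⟩ := exists_minimal_of_wellFoundedLT (fun K : Subgroup G => K.Normal ∧ L < K)
    ⟨⊤, inferInstance, lt_top_iff_ne_top.mpr hL⟩
  refine ⟨K, hK.prop.1, hK.prop.2, fun N hN hLN hNK => ?_⟩
  by_cases h : N = L
  · exact Or.inl h
  · exact Or.inr (le_antisymm hNK (hK.le_of_le ⟨hN, lt_of_le_of_ne hLN (Ne.symm h)⟩ hNK))

/-- The order of an abelian chief factor is a prime power. -/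
theorem card_of_abelian_chief [Finite G] (L K : Subgroup G) [hL : L.Normal] [hK : K.Normal]
    (hLK : L < K)
    (hchief : ∀ N : Subgroup G, N.Normal → L ≤ N → N ≤ K → N = L ∨ N = K)
    (hab : ⁅K, K⁆ ≤ L) :
    ∃ p a : ℕ, p.Prime ∧ Nat.card K = p ^ a * Nat.card L := by
  set π := QuotientGroup.mk' L with hπ
  have hπs : Function.Surjective π := QuotientGroup.mk'_surjective L
  have hker : π.ker = L := QuotientGroup.ker_mk' L
  set Nb : Subgroup (G ⧸ L) := K.map π with hNb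
  have hNbn : Nb.Normal := Subgroup.Normal.map hK π hπs
  have hNb1 : Nb ≠ ⊥ := by
    intro h
    rw [hNb, Subgroup.map_eq_bot_iff, hker] at h
    exact not_le_of_gt hLK h
  have hcomap : Nb.comap π = K := by
    rw [hNb]
    apply Subgroup.comap_map_eq_self
    rw [hker]; exact hLK.le
  have hmin : ∀ M : Subgroup (G ⧸ L), M.Normal → M ≤ Nb → M = ⊥ ∨ M = Nb := by
    intro M hM hMN
    have h1 : (M.comap π).Normal := Subgroup.Normal.comap hM π
    have h2 : L ≤ M.comap π := by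
      have := MonoidHom.ker_le_comap π M
      rwa [hker] at this
    have h3 : M.comap π ≤ K := by
      rw [← hcomap]; exact Subgroup.comap_mono hMN
    have h4 : M = (M.comap π).map π := (Subgroup.map_comap_eq_self_of_surjective hπs M).symm
    rcases hchief _ h1 h2 h3 with h | h
    · left
      rw [h4, h, Subgroup.map_eq_bot_iff, hker]
    · right
      rw [h4, h]
  have hcomm : ∀ x ∈ Nb, ∀ y ∈ Nb, x * y = y * x := by
    intro x hx y hy
    obtain ⟨k₁, hk₁, rfl⟩ := Subgroup.mem_map.mp hx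
    obtain ⟨k₂, hk₂, rfl⟩ := Subgroup.mem_map.mp hy
    rw [← map_mul, ← map_mul]
    symm
    show (QuotientGroup.mk (k₂ * k₁) : G ⧸ L) = QuotientGroup.mk (k₁ * k₂)
    rw [QuotientGroup.eq]
    apply hab
    have : (k₂ * k₁)⁻¹ * (k₁ * k₂) = ⁅k₁⁻¹, k₂⁻¹⁆ := by
      rw [commutatorElement_def]; group
    rw [this]
    exact Subgroup.commutator_mem_commutator (K.inv_mem hk₁) (K.inv_mem hk₂)
  obtain ⟨p, hp, hexp⟩ := Cfsg.Agent.Helper61.exists_prime_exponent_of_minimal_abelian Nb hNb1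
    hmin hcomm
  have : Fact p.Prime := ⟨hp⟩
  have hpg : IsPGroup p Nb := by
    intro x
    refine ⟨1, ?_⟩
    apply Subtype.ext
    rw [pow_one, Subgroup.coe_pow]
    exact hexp x x.2
  obtain ⟨a, ha⟩ := IsPGroup.iff_card.mp hpg
  refine ⟨p, a, hp, ?_⟩
  have := Cfsg.Agent.Lib.card_comap_mk' L Nb
  rw [hcomap, ha] at this
  rw [this, mul_comm]

/-- The centralizer in `G` of the section `K / L`. -/
def centMod (L K : Subgroup G) [L.Normal] : Subgroup G :=
  (Subgroup.centralizer ((K.map (QuotientGroup.mk' L) : Subgroup (G ⧸ L)) : Set (G ⧸ L))).comap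
    (QuotientGroup.mk' L)

theorem mem_centMod (L K : Subgroup G) [L.Normal] (g : G) :
    g ∈ centMod L K ↔ ∀ k ∈ K, (k * g)⁻¹ * (g * k) ∈ L := by
  unfold centMod
  rw [Subgroup.mem_comap, Subgroup.mem_centralizer_iff]
  constructor
  · intro h k hk
    have := h _ (Subgroup.mem_map_of_mem (QuotientGroup.mk' L) hk)
    rw [← map_mul, ← map_mul] at this
    exact QuotientGroup.eq.mp this
  · intro h x hx
    obtain ⟨k, hk, rfl⟩ := Subgroup.mem_map.mp hx
    rw [← map_mul, ← map_mul]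
    exact QuotientGroup.eq.mpr (h k hk)

instance centMod_normal (L K : Subgroup G) [L.Normal] [hK : K.Normal] : (centMod L K).Normal := by
  unfold centMod
  have h1 : (K.map (QuotientGroup.mk' L)).Normal :=
    Subgroup.Normal.map hK _ (QuotientGroup.mk'_surjective L)
  exact Subgroup.Normal.comap inferInstance _

theorem le_centMod_self (L K : Subgroup G) [L.Normal] (hab : ⁅K, K⁆ ≤ L) : K ≤ centMod L K := by
  intro g hg
  rw [mem_centMod]
  intro k hk
  apply hab
  have : (k * g)⁻¹ * (g * k) = ⁅g⁻¹, k⁻¹⁆ := by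
    rw [commutatorElement_def]; group
  rw [this]
  exact Subgroup.commutator_mem_commutator (K.inv_mem hg) (K.inv_mem hk)

theorem le_centMod_of_le (L K : Subgroup G) [hL : L.Normal] : L ≤ centMod L K := by
  intro g hg
  rw [mem_centMod]
  intro k _
  have h1 : k⁻¹ * g * k⁻¹⁻¹ ∈ L := hL.conj_mem g hg k⁻¹
  have : (k * g)⁻¹ * (g * k) = g⁻¹ * (k⁻¹ * g * k⁻¹⁻¹) := by group
  rw [this]
  exact L.mul_mem (L.inv_mem hg) h1

/-- Symmetry of centralizing modulo `L`. -/
theorem centMod_symm (L K M : Subgroup G) [L.Normal] (h : K ≤ centMod L M) : M ≤ centMod L K := by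
  intro m hm
  rw [mem_centMod]
  intro k hk
  have := (mem_centMod L M k).mp (h hk) m hm
  have h2 : (k * m)⁻¹ * (m * k) = ((m * k)⁻¹ * (k * m))⁻¹ := by group
  rw [h2]
  exact L.inv_mem this

/-- A `p`-group section `M / L` centralizes every chief factor `K / L` inside it. -/
theorem le_centMod_of_pgroup [Finite G] (L K M : Subgroup G) [hL : L.Normal] [hK : K.Normal]
    [hM : M.Normal] (hLK : L < K) (hKM : K ≤ M)
    (hchief : ∀ N : Subgroup G, N.Normal → L ≤ N → N ≤ K → N = L ∨ N = K)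
    {p n : ℕ} (hp : p.Prime) (hcard : Nat.card M = p ^ n * Nat.card L) : M ≤ centMod L K := by
  have : Fact p.Prime := ⟨hp⟩
  have hLM : L ≤ M := hLK.le.trans hKM
  -- the quotient `M / L`
  have hLMn : (L.subgroupOf M).Normal := Subgroup.Normal.subgroupOf hL M
  set π := QuotientGroup.mk' (L.subgroupOf M) with hπ
  have hπs : Function.Surjective π := QuotientGroup.mk'_surjective _
  have hker : π.ker = L.subgroupOf M := QuotientGroup.ker_mk' _
  have hcL : Nat.card ↥(L.subgroupOf M) = Nat.card L :=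
    Nat.card_congr (Subgroup.subgroupOfEquivOfLe hLM).toEquiv
  have hcQ : Nat.card (↥M ⧸ L.subgroupOf M) = p ^ n := by
    have h1 := Subgroup.card_eq_card_quotient_mul_card_subgroup (L.subgroupOf M)
    rw [hcL, hcard] at h1
    exact (Nat.eq_of_mul_eq_mul_right Nat.card_pos h1).symm
  have hQ : IsPGroup p (↥M ⧸ L.subgroupOf M) := IsPGroup.of_card hcQ
  -- the image of `K`
  have hKMn : (K.subgroupOf M).Normal := Subgroup.Normal.subgroupOf hK M
  set Nb : Subgroup (↥M ⧸ L.subgroupOf M) := (K.subgroupOf M).map π with hNb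
  have hNbn : Nb.Normal := Subgroup.Normal.map hKMn π hπs
  have hNb1 : Nb ≠ ⊥ := by
    intro h
    rw [hNb, Subgroup.map_eq_bot_iff, hker] at h
    apply not_le_of_gt hLK
    intro k hk
    have : (⟨k, hKM hk⟩ : ↥M) ∈ K.subgroupOf M := Subgroup.mem_subgroupOf.mpr hk
    exact Subgroup.mem_subgroupOf.mp (h this)
  have hne := Cfsg.Agent.Helper63.normal_inf_center_ne_bot hQ Nb hNb1
  obtain ⟨x, hx1⟩ := (Subgroup.ne_bot_iff_exists_ne_one).mp hne
  obtain ⟨hxN, hxZ⟩ := Subgroup.mem_inf.mp x.2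
  obtain ⟨k₀, hk₀, hk₀x⟩ := Subgroup.mem_map.mp hxN
  have hk₀K : (k₀ : G) ∈ K := Subgroup.mem_subgroupOf.mp hk₀
  have hk₀L : (k₀ : G) ∉ L := by
    intro h
    apply hx1
    apply Subtype.ext
    rw [← hk₀x]
    show π k₀ = 1
    rw [← MonoidHom.mem_ker, hker]
    exact Subgroup.mem_subgroupOf.mpr h
  -- `k₀` centralizes `M / L`
  have hk₀c : (k₀ : G) ∈ centMod L M := by
    rw [mem_centMod]
    intro m hm
    have h1 := Subgroup.mem_center_iff.mp hxZ (π ⟨m, hm⟩)
    rw [← hk₀x, ← map_mul, ← map_mul] at h1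
    have h2 := QuotientGroup.eq.mp h1
    exact Subgroup.mem_subgroupOf.mp h2
  -- the subgroup of `K` centralizing `M / L`
  have hZn : (K ⊓ centMod L M).Normal := inferInstance
  rcases hchief (K ⊓ centMod L M) hZn (le_inf hLK.le (le_centMod_of_le L M)) inf_le_left with h | h
  · exfalso
    apply hk₀L
    rw [← h]
    exact ⟨hk₀K, hk₀c⟩
  · apply centMod_symm
    rw [← h]
    exact inf_le_right

/-- Structure of the two lowest chief factors above the core of a maximal subgroup `H` with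
solvable quotient. -/
theorem chief_structure [Finite G] (H K : Subgroup G) [hK : K.Normal] (hH : IsCoatom H)
    [hLn : (H ⊓ K).Normal] (hKH : ¬ K ≤ H)
    (hchief : ∀ N : Subgroup G, N.Normal → H ⊓ K ≤ N → N ≤ K → N = H ⊓ K ∨ N = K)
    (hcore : ∀ N : Subgroup G, N.Normal → N ≤ H → N ≤ H ⊓ K)
    (hsolv : Group.IsSolvable (G ⧸ (H ⊓ K))) (hKtop : K ≠ ⊤) :
    (∀ g : G, ∃ k ∈ K, ∃ h ∈ H, g = k * h) ∧
    ∃ (p a : ℕ), p.Prime ∧ Nat.card K = p ^ a * Nat.card ↥(H ⊓ K) ∧
    ∃ M : Subgroup G, M.Normal ∧ K < M ∧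
      (∃ q c : ℕ, q.Prime ∧ q ≠ p ∧ Nat.card M = q ^ c * Nat.card K) ∧
      ∀ d ∈ H ⊓ M, d ∉ K → ∃ k ∈ K, k * d * k⁻¹ ∉ H := by
  have hLK : H ⊓ K < K := by
    refine lt_of_le_of_ne inf_le_right ?_
    intro h
    apply hKH
    rw [← h]; exact inf_le_left
  have hab : ⁅K, K⁆ ≤ H ⊓ K :=
    Cfsg.Agent.Helper80.commutator_le_of_chief_of_solvable (H ⊓ K) K (H ⊓ K) hsolv le_rfl hLK hchief
  obtain ⟨p, a, hp, hcardK⟩ := card_of_abelian_chief (H ⊓ K) K hLK hchief hab
  obtain ⟨M, hMn, hKM, hMchief⟩ := exists_chief_above K hKtop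
  have habM : ⁅M, M⁆ ≤ K :=
    Cfsg.Agent.Helper80.commutator_le_of_chief_of_solvable (H ⊓ K) M K hsolv inf_le_right hKM hMchief
  obtain ⟨q, c, hq, hcardM⟩ := card_of_abelian_chief K M hKM hMchief habM
  -- `G = K H`
  have hsup : K ⊔ H = ⊤ := by
    apply hH.2
    refine lt_of_le_of_ne le_sup_right ?_
    intro h
    apply hKH
    rw [h]; exact le_sup_left
  have hprod : ∀ g : G, ∃ k ∈ K, ∃ h ∈ H, g = k * h := by
    intro g
    have hg : g ∈ K ⊔ H := by rw [hsup]; exact Subgroup.mem_top g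
    have h6 : g ∈ ((K : Subgroup G) : Set G) * ((H : Subgroup G) : Set G) := by
      rw [← Subgroup.normal_mul]; exact hg
    obtain ⟨k, hk, h, hh, rfl⟩ := Set.mem_mul.mp h6
    exact ⟨k, hk, h, hh, rfl⟩
  have hded : ∀ m ∈ M, ∃ k ∈ K, ∃ d ∈ H ⊓ M, m = k * d := by
    intro m hm
    obtain ⟨k, hk, h, hh, rfl⟩ := hprod m
    refine ⟨k, hk, h, ⟨hh, ?_⟩, rfl⟩
    have : h = k⁻¹ * (k * h) := by group
    rw [this]
    exact M.mul_mem (M.inv_mem (hKM.le hk)) hm
  -- the centralizer of `K / L` in `M`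
  have hCn : (centMod (H ⊓ K) K ⊓ M).Normal := inferInstance
  have hKC : K ≤ centMod (H ⊓ K) K ⊓ M := le_inf (le_centMod_self (H ⊓ K) K hab) hKM.le
  have hCM_false : M ≤ centMod (H ⊓ K) K → False := by
    intro hMc
    -- `D = H ⊓ M` is normal in `G`
    have hDn : (H ⊓ M).Normal := by
      constructor
      intro d hd g
      obtain ⟨k, hk, h, hh, rfl⟩ := hprod g
      have hd' : h * d * h⁻¹ ∈ H ⊓ M :=
        ⟨H.mul_mem (H.mul_mem hh hd.1) (H.inv_mem hh), hMn.conj_mem d hd.2 h⟩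
      have hc := (mem_centMod (H ⊓ K) K (h * d * h⁻¹)).mp (hMc hd'.2) k⁻¹ (K.inv_mem hk)
      have hc2 := hLn.conj_mem _ hc (h * d * h⁻¹)
      have e1 : k * h * d * (k * h)⁻¹ =
          ((h * d * h⁻¹) * ((k⁻¹ * (h * d * h⁻¹))⁻¹ * ((h * d * h⁻¹) * k⁻¹)) * (h * d * h⁻¹)⁻¹) *
            (h * d * h⁻¹) := by group
      rw [e1]
      exact (H ⊓ M).mul_mem (le_inf inf_le_left (inf_le_right.trans hKM.le) hc2) hd'
    have hDL : H ⊓ M ≤ H ⊓ K := hcore _ hDn inf_le_left
    apply not_le_of_gt hKM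
    intro m hm
    obtain ⟨k, hk, d, hd, rfl⟩ := hded m hm
    exact K.mul_mem hk (hDL hd).2
  have hC : centMod (H ⊓ K) K ⊓ M = K := by
    rcases hMchief _ hCn hKC inf_le_right with h | h
    · exact h
    · exfalso
      apply hCM_false
      rw [← h]; exact inf_le_left
  refine ⟨hprod, p, a, hp, hcardK, M, hMn, hKM, ⟨q, c, hq, ?_, hcardM⟩, ?_⟩
  · -- `q ≠ p`
    intro hqp
    apply hCM_false
    have hcard : Nat.card M = p ^ (c + a) * Nat.card ↥(H ⊓ K) := by
      rw [hcardM, hcardK, hqp]; ring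
    exact le_centMod_of_pgroup (H ⊓ K) K M hLK hKM.le hchief hp hcard
  · intro d hd hdK
    by_contra hcon
    push Not at hcon
    apply hdK
    rw [← hC]
    refine Subgroup.mem_inf.mpr ⟨?_, hd.2⟩
    rw [mem_centMod]
    intro k hk
    have h1 : k⁻¹ * d * k⁻¹⁻¹ ∈ H := hcon k⁻¹ (K.inv_mem hk)
    have e1 : (k * d)⁻¹ * (d * k) = d⁻¹ * (k⁻¹ * d * k⁻¹⁻¹) := by group
    have e2 : (k * d)⁻¹ * (d * k) = (d⁻¹ * k⁻¹ * d⁻¹⁻¹) * k := by group
    constructor
    · rw [e1]; exact H.mul_mem (H.inv_mem hd.1) h1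
    · rw [e2]; exact K.mul_mem (hK.conj_mem _ (K.inv_mem hk) d⁻¹) hk

end Cfsg.Agent.Helper15
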