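import Mathlib
import Cfsg.Prelude.Def_Characters
import Cfsg.Agent.Helper15.BergerA
import Cfsg.Agent.Helper15.BergerB
import Cfsg.Agent.Helper15.BergerC
import Cfsg.Agent.Helper15.Gallagher
import Cfsg.Agent.Helper81.CliffordInd
import Cfsg.Agent.S0890

set_option autoImplicit false

/-!
# Berger's theorem: the contradiction in the fibre product
-/

namespace Cfsg.Agent.Helper15.Berger

open Cfsg
open scoped commutatorElement

universe u

theorem fib_contradiction {G Gt : Type u} [Group G] [Fintype G] [Group Gt] [Fintype Gt]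
    [Group.IsSolvable Gt]
    (π : Gt →* G) (hπ : Function.Surjective π)
    (H K L : Subgroup G) (hH : IsCoatom H)
    (hprod : ∀ g : G, ∃ k ∈ K, ∃ h ∈ H, g = k * h)
    (A B C L₀ : Subgroup Gt) [hB : B.Normal]
    (hA : ∀ y, y ∈ A ↔ π y ∈ H) (hBm : ∀ y, y ∈ B ↔ π y ∈ K) (hCm : ∀ y, y ∈ C ↔ π y ∈ L)
    (χ : G → ℂ) (hχ : IsIrrCharacter G χ) (ϑ : H → ℂ) (hind : indFun H ϑ = χ)
    (β : A → ℂ) (φh : Gt → ℂ) (D : FibData A B C L₀ β)
    (hφh : IsCharacter Gt φh) (hφL : IsIrrCharacter L₀ (fun l : L₀ => φh l))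
    (heq : ∀ y : A, ϑ ⟨π y, (hA y).mp y.2⟩ = β y * φh y)
    (hmax : ∀ (T N : Subgroup G), T ≠ ⊤ → N.Normal → N ≤ T →
      (∃ ψ : T → ℂ, IsCharacter T ψ ∧ indFun T ψ = χ) → Nat.card N ≤ Nat.card L) : False := by
  classical
  have hCn : C.Normal := D.hCn
  have hAB : ∀ x : Gt, ∃ b ∈ B, ∃ a ∈ A, x = b * a := by
    intro x
    obtain ⟨k, hk, h, hh, hx⟩ := hprod (π x)
    obtain ⟨xk, rfl⟩ := hπ k
    refine ⟨xk, (hBm xk).mpr hk, xk⁻¹ * x, (hA _).mpr ?_, by group⟩
    rw [map_mul, map_inv, hx]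
    simpa using hh
  have : Fintype ↥(fib A B) := Fintype.ofFinite _
  have hp : Function.Surjective (fibFst A B) := fibFst_surjective A B hAB
  have hP : Function.Surjective (π.comp (fibFst A B)) := hπ.comp hp
  have hlamc := isCharacter_lamP D hφh
  have hlamirr := isIrr_lamP D hφh hφL
  have hρirr := isIrr_rho (B := B) D
  have hρc := Helper74.isCharacter_of_isIrr hρirr
  have hρcf := Helper74.isClassFunction_of_isCharacter hρc
  have hfact : (fun w : ↥(fib A B) => χ (π (fibFst A B w))) =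
      indFun (A.comap (fibFst A B)) (lamP D φh) * (fun w => β (fibSnd A B w)) := by
    rw [← indFun_mul_restrict _ (lamP D φh) (fun w => β (fibSnd A B w)) hρcf]
    funext w
    rw [← hind]
    symm
    apply indFun_of_surjective (π.comp (fibFst A B)) hP (A.comap (fibFst A B)) H
      (fun y => by rw [Subgroup.mem_comap]; exact hA _) _ ϑ
    intro t
    show lamP D φh t * β (fibSnd A B t.1) = ϑ ⟨π (fibFst A B t.1), _⟩
    rw [heq ⟨fibFst A B t.1, t.2⟩]
    have h3 := key_identity D φh t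
    rw [← h3]
    ring
  have hχP : IsIrrCharacter ↥(fib A B) (fun w => χ (π (fibFst A B w))) :=
    Helper80.IsIrrCharacter.comp_surjective hχ (π.comp (fibFst A B)) hP
  have hLamc : IsCharacter ↥(fib A B) (indFun (A.comap (fibFst A B)) (lamP D φh)) :=
    isCharacter_indFun _ hlamc
  have hLamirr : IsIrrCharacter ↥(fib A B) (indFun (A.comap (fibFst A B)) (lamP D φh)) := by
    apply isIrr_of_mul_isIrr hLamc hρc
    rw [← hfact]; exact hχP
  -- apply Isaacs 11.32
  have hcoatom : IsCoatom (A.comap (fibFst A B)) := by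
    have hAeq : A = H.comap π := by
      ext y; rw [Subgroup.mem_comap]; exact hA y
    have h1 := isCoatom_comap π hπ hH
    rw [← hAeq] at h1
    exact isCoatom_comap _ hp h1
  have hLn' : (C.comap (fibFst A B)).Normal := hCn.comap _
  have hsolvQ : Group.IsSolvable (↥(fib A B) ⧸ C.comap (fibFst A B)) := inferInstance
  obtain ⟨M, hMn, hLM, hnon⟩ := Cfsg.Agent.S0890.result (C.comap (fibFst A B))
    (A.comap (fibFst A B)) (comap_C_le D) hcoatom hsolvQ (lamP D φh) hlamirr
    (isIrr_lamP_res D hφh hφL) hLamirr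
  have : Fintype ↥M := Fintype.ofFinite _
  have hML : M ≠ C.comap (fibFst A B) := by
    rintro rfl
    apply hnon
    refine ⟨fun c => lamP D φh ⟨c.1, comap_C_le D c.2⟩, (A.comap (fibFst A B)).index,
      isIrr_lamP_res D hφh hφL, ?_⟩
    have hinvl : ∀ g : ↥(fib A B),
        conjFun (C.comap (fibFst A B)) g (resTo _ _ (comap_C_le D) (lamP D φh)) =
          resTo _ _ (comap_C_le D) (lamP D φh) := by
      intro g
      funext c
      rw [conjFun_apply, resTo_apply, resTo_apply]
      exact lamP_conj D hφh g c.1 c.2 (hLn'.conj_mem c.1 c.2 g)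
    exact restrict_indFun_of_invariant _ _ (comap_C_le D) (lamP D φh) hinvl
  -- Clifford
  have hΛM : IsCharacter ↥M (fun m : M => indFun (A.comap (fibFst A B)) (lamP D φh) m) :=
    Helper74.isCharacter_restrict M hLamc
  have hΛM1 : (fun m : M => indFun (A.comap (fibFst A B)) (lamP D φh) m) 1 ≠ 0 :=
    Helper80.IsIrrCharacter.map_one_ne_zero hLamirr
  obtain ⟨ξ, hξ⟩ := Helper81.exists_irr_constituent hΛM hΛM1
  have hTne : inertia M (ξ : M → ℂ) ≠ ⊤ := by
    intro htop
    apply hnon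
    have hinvξ : ∀ g, conjFun M g (ξ : M → ℂ) = ξ := by
      intro g
      have : g ∈ inertia M (ξ : M → ℂ) := by rw [htop]; exact Subgroup.mem_top g
      exact this
    obtain ⟨e, he⟩ := isCharacter_inner_nat hΛM (Helper74.irr_isCharacter ξ)
    refine ⟨ξ, e, ξ.2, ?_⟩
    have := restrict_eq_smul_of_invariant M hLamirr ξ.2 hξ hinvξ
    rw [he] at this
    exact this
  have : Fintype ↥(inertia M (ξ : M → ℂ)) := Fintype.ofFinite _
  have hMT : M ≤ inertia M (ξ : M → ℂ) := le_inertia M (Helper74.irr_isClassFunction ξ)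
  obtain ⟨Λ₁, hΛ₁, hΛ₁ind, -⟩ := clifford_correspondence_exists M ξ.2
    (inertia M (ξ : M → ℂ)) rfl hMT hLamirr hξ
  -- descent
  have hψ'c : IsCharacter ↥(inertia M (ξ : M → ℂ))
      (Λ₁ * fun t : ↥(inertia M (ξ : M → ℂ)) => β (fibSnd A B t)) :=
    Helper74.isCharacter_mul (Helper74.isCharacter_of_isIrr hΛ₁)
      (Helper74.isCharacter_restrict _ hρc)
  have hψ'ind : ∀ g, indFun (inertia M (ξ : M → ℂ))
      (Λ₁ * fun t : ↥(inertia M (ξ : M → ℂ)) => β (fibSnd A B t)) g =
        χ ((π.comp (fibFst A B)) g) := by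
    intro g
    rw [indFun_mul_restrict _ Λ₁ (fun w => β (fibSnd A B w)) hρcf, hΛ₁ind, ← hfact]
    rfl
  have hkerL : (π.comp (fibFst A B)).ker ≤ C.comap (fibFst A B) := by
    intro x hx
    rw [Subgroup.mem_comap, hCm]
    rw [MonoidHom.mem_ker] at hx
    have : π (fibFst A B x) = 1 := hx
    rw [this]; exact L.one_mem
  have hkerT : (π.comp (fibFst A B)).ker ≤ inertia M (ξ : M → ℂ) :=
    hkerL.trans (hLM.trans hMT)
  obtain ⟨ψ, hψc, hψind⟩ := exists_descend_induced (π.comp (fibFst A B)) hP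
    (inertia M (ξ : M → ℂ)) hkerT hψ'c χ hψ'ind
  have hTmap : (inertia M (ξ : M → ℂ)).map (π.comp (fibFst A B)) ≠ ⊤ := by
    intro h
    apply hTne
    rw [← Subgroup.comap_map_eq_self hkerT, h, Subgroup.comap_top]
  have hMmapn : (M.map (π.comp (fibFst A B))).Normal := hMn.map _ hP
  have hcard := hmax _ _ hTmap hMmapn (Subgroup.map_mono hMT) ⟨ψ, hψc, hψind⟩
  have hLcomap : C.comap (fibFst A B) = L.comap (π.comp (fibFst A B)) := by
    ext x
    rw [Subgroup.mem_comap, Subgroup.mem_comap, hCm]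
    rfl
  have hLle : L ≤ M.map (π.comp (fibFst A B)) := by
    rw [← Subgroup.map_comap_eq_self_of_surjective hP L, ← hLcomap]
    exact Subgroup.map_mono hLM
  have hLeq : L = M.map (π.comp (fibFst A B)) := Subgroup.eq_of_le_of_card_ge hLle hcard
  apply hML
  apply le_antisymm _ hLM
  rw [hLcomap, hLeq]
  exact Subgroup.le_comap_map _ M


/-- Gallagher step: divide `ϑ` by the extension `φh` and apply the fibre product argument. -/
theorem gallagher_contradiction {G Gt : Type u} [Group G] [Fintype G] [Group Gt] [Fintype Gt]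
    [Group.IsSolvable Gt]
    (π : Gt →* G) (hπ : Function.Surjective π) (hπc : π.ker ≤ Subgroup.center Gt)
    (H K L : Subgroup G) (hH : IsCoatom H) [hKn : K.Normal] [hLn : L.Normal]
    (hprod : ∀ g : G, ∃ k ∈ K, ∃ h ∈ H, g = k * h) (hinf : H ⊓ K = L) (hLH : L ≤ H)
    (χ : G → ℂ) (hχ : IsIrrCharacter G χ) (ϑ : H → ℂ) (hϑ : IsIrrCharacter H ϑ)
    (hind : indFun H ϑ = χ)
    [Fintype L] (φ : L → ℂ) (hφ : IsIrrCharacter L φ)
    (hcon : classInner (resTo L H hLH ϑ) φ ≠ 0)
    (s : L →* Gt) (hs : ∀ l : L, π (s l) = l) (hsn : s.range.Normal)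
    (φh : Gt → ℂ) (hφh : IsIrrCharacter Gt φh) (hφs : ∀ l : L, φh (s l) = φ l)
    (hmax : ∀ (T N : Subgroup G), T ≠ ⊤ → N.Normal → N ≤ T →
      (∃ ψ : T → ℂ, IsCharacter T ψ ∧ indFun T ψ = χ) → Nat.card N ≤ Nat.card L) : False := by
  classical
  have hφhc : IsCharacter Gt φh := Helper74.isCharacter_of_isIrr hφh
  have hLK : L ≤ K := by rw [← hinf]; exact inf_le_right
  have : Fintype ↥(H.comap π) := Fintype.ofFinite _
  -- the section into `A = H.comap π`
  let sH : L →* ↥(H.comap π) := s.codRestrict (H.comap π) (fun l => by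
    show π (s l) ∈ H
    rw [hs]; exact hLH l.2)
  have hsH : ∀ l : L, ((sH l : ↥(H.comap π)) : Gt) = s l := fun l => rfl
  have hsHinj : Function.Injective sH := by
    intro a b hab
    have h1 : s a = s b := by rw [← hsH, ← hsH, hab]
    have h2 : π (s a) = π (s b) := by rw [h1]
    rw [hs, hs] at h2
    exact Subtype.ext h2
  have hN₀n : sH.range.Normal := by
    constructor
    rintro _ ⟨l, rfl⟩ y
    obtain ⟨l', hl'⟩ := hsn.conj_mem (s l) ⟨l, rfl⟩ (y : Gt)
    refine ⟨l', ?_⟩
    apply Subtype.ext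
    rw [hsH, hl']
    rfl
  have : Fintype ↥sH.range := Fintype.ofFinite _
  -- `φh` restricted to `A`
  have hφhA : IsIrrCharacter ↥(H.comap π) (fun y : ↥(H.comap π) => φh y) := by
    apply isIrrCharacter_of_comp sH (Helper80.IsCharacter.comp_hom hφhc (H.comap π).subtype)
    have : (fun l : L => φh ((sH l : ↥(H.comap π)) : Gt)) = φ := funext (fun l => hφs l)
    exact this ▸ hφ
  have hres : IsIrrCharacter ↥sH.range
      (fun n : ↥sH.range => (fun y : ↥(H.comap π) => φh y) n) := by
    apply isIrrCharacter_of_comp sH.rangeRestrict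
      (Helper80.IsCharacter.comp_hom hφhc ((H.comap π).subtype.comp sH.range.subtype))
    have : (fun l : L => φh (((sH.rangeRestrict l : ↥sH.range) : ↥(H.comap π)) : Gt)) = φ :=
      funext (fun l => hφs l)
    exact this ▸ hφ
  -- `ϑ` inflated to `A`
  have hϑt : IsIrrCharacter ↥(H.comap π) (fun y : ↥(H.comap π) => ϑ ⟨π y, y.2⟩) :=
    Helper80.IsIrrCharacter.comp_surjective hϑ (π.subgroupComap H)
      (π.subgroupComap_surjective_of_surjective H hπ)
  have hϑtcf := Helper74.isClassFunction_of_isCharacter (Helper74.isCharacter_of_isIrr hϑt)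
  have hG1 : classInner (indFun sH.range
      (fun n : ↥sH.range => (fun y : ↥(H.comap π) => φh y) n))
      (fun y : ↥(H.comap π) => ϑ ⟨π y, y.2⟩) ≠ 0 := by
    rw [frobenius_reciprocity sH.range _ _ hϑtcf]
    have h1 := classInner_comp_mulEquiv (MonoidHom.ofInjective hsHinj)
      (fun n : ↥sH.range => φh ((n : ↥(H.comap π)) : Gt))
      (fun n : ↥sH.range => ϑ ⟨π ((n : ↥(H.comap π)) : Gt), (n : ↥(H.comap π)).2⟩)
    have e1 : (fun a : L => φh (((MonoidHom.ofInjective hsHinj a : ↥sH.range) :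
        ↥(H.comap π)) : Gt)) = φ := funext (fun l => hφs l)
    have e2 : (fun a : L => ϑ ⟨π (((MonoidHom.ofInjective hsHinj a : ↥sH.range) :
        ↥(H.comap π)) : Gt), ((MonoidHom.ofInjective hsHinj a : ↥sH.range) :
        ↥(H.comap π)).2⟩) = resTo L H hLH ϑ := by
      funext l
      rw [resTo_apply]
      congr 1
      apply Subtype.ext
      exact hs l
    rw [e1, e2] at h1
    rw [← h1, ← classInner_conj_symm]
    intro h0
    apply hcon
    have := congrArg (starRingEnd ℂ) h0
    simpa using this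
  obtain ⟨β, ⟨hβ, hβ1⟩, hβeq⟩ := (gallagher_bijOn sH.range hφhA hres).surjOn ⟨hϑt, hG1⟩
  have hβcf := Helper74.isClassFunction_of_isCharacter (Helper74.isCharacter_of_isIrr hβ)
  have h0 : classInner (fun n : ↥sH.range => β n) (fun _ => (1 : ℂ)) ≠ 0 := by
    rw [frobenius_reciprocity sH.range _ _ hβcf] at hβ1
    rw [← classInner_conj_symm]
    intro h
    apply hβ1
    have := congrArg (starRingEnd ℂ) h
    simpa using this
  have habs := normal_mul_of_inner_one_ne_zero sH.range hβ h0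
  have D : FibData (H.comap π) (K.comap π) (L.comap π) s.range β :=
    { hCn := hLn.comap π
      hLn := hsn
      hCA := Subgroup.comap_mono hLH
      hCB := Subgroup.comap_mono hLK
      hABC := by
        intro x hx1 hx2
        show π x ∈ L
        rw [← hinf]
        exact ⟨hx1, hx2⟩
      hLC := by
        rintro _ ⟨l, rfl⟩
        show π (s l) ∈ L
        rw [hs]; exact l.2
      hdec := by
        intro c hc
        refine ⟨s ⟨π c, hc⟩, ⟨_, rfl⟩, (s ⟨π c, hc⟩)⁻¹ * c, ?_, by group⟩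
        apply hπc
        rw [MonoidHom.mem_ker, map_mul, map_inv, hs, inv_mul_cancel]
      hβ := hβ
      habs := by
        rintro _ ⟨l, rfl⟩ y
        exact habs ⟨sH l, ⟨l, rfl⟩⟩ y }
  have hφL : IsIrrCharacter ↥s.range (fun l : ↥s.range => φh l) := by
    have : Fintype ↥s.range := Fintype.ofFinite _
    apply isIrrCharacter_of_comp s.rangeRestrict
      (Helper80.IsCharacter.comp_hom hφhc s.range.subtype)
    have : (fun l : L => φh ((s.rangeRestrict l : ↥s.range) : Gt)) = φ :=
      funext (fun l => hφs l)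
    exact this ▸ hφ
  exact fib_contradiction π hπ H K L hH hprod (H.comap π) (K.comap π) (L.comap π) s.range
    (fun _ => Iff.rfl) (fun _ => Iff.rfl) (fun _ => Iff.rfl) χ hχ ϑ hind β φh D hφhc hφL
    (fun y => (congrFun hβeq y).symm) hmax

/-- A normal supplement `K` to a maximal subgroup `H` of a solvable group, with
`H ⊓ K = core(H)`. -/
theorem exists_normal_supplement {G : Type u} [Group G] [Finite G] [Group.IsSolvable G]
    (H : Subgroup G) (hH : IsCoatom H) :
    ∃ K : Subgroup G, K.Normal ∧ (∀ g : G, ∃ k ∈ K, ∃ h ∈ H, g = k * h) ∧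
      H ⊓ K = H.normalCore := by
  have hcoretop : H.normalCore ≠ ⊤ := by
    intro h
    apply hH.1
    rw [eq_top_iff, ← h]
    exact Subgroup.normalCore_le H
  obtain ⟨K, hKn, hcoreK, hchief0⟩ := exists_chief_above H.normalCore hcoretop
  have hKH : ¬ K ≤ H := by
    intro h
    exact absurd (Subgroup.normal_le_normalCore.mpr h) (not_le_of_gt hcoreK)
  have hsolv0 : Group.IsSolvable (G ⧸ H.normalCore) := inferInstance
  have hab : ⁅K, K⁆ ≤ H.normalCore :=
    Helper80.commutator_le_of_chief_of_solvable H.normalCore K H.normalCore hsolv0 le_rfl hcoreK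
      hchief0
  have hprod := Cfsg.Agent.S0890.prod_of_coatom H K hH hKH
  have hcore_le : H.normalCore ≤ H ⊓ K := le_inf (Subgroup.normalCore_le H) hcoreK.le
  have hLn : (H ⊓ K).Normal := by
    constructor
    intro x hx g
    obtain ⟨k, hk, h, hh, rfl⟩ := hprod g
    have hy : h * x * h⁻¹ ∈ H ⊓ K :=
      ⟨H.mul_mem (H.mul_mem hh hx.1) (H.inv_mem hh), hKn.conj_mem x hx.2 h⟩
    have hc : ⁅k, h * x * h⁻¹⁆ ∈ H ⊓ K :=
      hcore_le (hab (Subgroup.commutator_mem_commutator hk hy.2))
    have e1 : k * h * x * (k * h)⁻¹ = ⁅k, h * x * h⁻¹⁆ * (h * x * h⁻¹) := by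
      rw [commutatorElement_def]; group
    rw [e1]
    exact (H ⊓ K).mul_mem hc hy
  exact ⟨K, hKn, hprod, le_antisymm (Subgroup.normal_le_normalCore.mpr inf_le_left) hcore_le⟩

/-- **Berger's theorem, core form.** -/
theorem berger_core {G : Type u} [Group G] [Fintype G] [Group.IsSolvable G]
    (χ : G → ℂ) (hχ : IsIrrCharacter G χ)
    (H : Subgroup G) (hH : IsCoatom H) (ϑ : H → ℂ) (hϑc : IsCharacter H ϑ)
    (hind : indFun H ϑ = χ)
    (hqpL : ∃ (φ : H.normalCore → ℂ) (e : ℕ), IsIrrCharacter H.normalCore φ ∧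
      (fun n : H.normalCore => χ n) = (e : ℂ) • φ)
    (hmax : ∀ (T N : Subgroup G), T ≠ ⊤ → N.Normal → N ≤ T →
      (∃ ψ : T → ℂ, IsCharacter T ψ ∧ indFun T ψ = χ) →
        Nat.card N ≤ Nat.card H.normalCore) : False := by
  classical
  have hϑ : IsIrrCharacter H ϑ := isIrr_of_indFun_isIrr H hϑc (hind ▸ hχ)
  obtain ⟨K, hKn, hprod, hinf⟩ := exists_normal_supplement H hH
  have hLH : H.normalCore ≤ H := Subgroup.normalCore_le H
  obtain ⟨φ, e, hφ, hχL⟩ := hqpL
  have : Fintype ↥H.normalCore := Fintype.ofFinite _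
  have hχcf := Helper74.isClassFunction_of_isCharacter (Helper74.isCharacter_of_isIrr hχ)
  have he0 : (e : ℂ) ≠ 0 := by
    intro h0
    apply Helper80.IsIrrCharacter.map_one_ne_zero hχ
    have := congrFun hχL 1
    simpa [h0] using this
  have hinvφ : ∀ g : G, conjFun H.normalCore g φ = φ := by
    intro g
    have h1 := conjFun_restrict H.normalCore hχcf g
    rw [hχL, conjFun_smul] at h1
    funext n
    have h2 := congrFun h1 n
    simp only [Pi.smul_apply, smul_eq_mul] at h2
    exact mul_left_cancel₀ he0 h2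
  have hcon : classInner (resTo H.normalCore H hLH ϑ) φ ≠ 0 := by
    intro h0
    have h2 := classInner_restrict_indFun_of_invariant H H.normalCore hLH ϑ φ hinvφ
    rw [hind, hχL, classInner_smul_left, Helper74.irr_inner_self ⟨φ, hφ⟩, h0, mul_zero,
      mul_one] at h2
    exact he0 h2
  obtain ⟨Gt, hGrp, hFin, π, s, φh, hπ, hπc, hs, hsn, hφh, hφs⟩ :=
    exists_proj_lift H.normalCore φ hφ (fun g n => congrFun (hinvφ g) n)
  have : Fintype Gt := Fintype.ofFinite Gt
  have hkers : Group.IsSolvable ↥π.ker := by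
    apply Group.isSolvable_of_comm
    intro a b
    apply Subtype.ext
    show (a : Gt) * b = b * a
    exact Subgroup.mem_center_iff.mp (hπc b.2) a
  have hGts : Group.IsSolvable Gt :=
    Group.isSolvable_of_ker_le_range π.ker.subtype π (by simp)
  exact gallagher_contradiction π hπ hπc H K H.normalCore hH hprod hinf hLH χ hχ ϑ hϑ hind φ hφ
    hcon s hs hsn φh hφh hφs hmax

end Cfsg.Agent.Helper15.Berger
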