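import Mathlib
import Cfsg.Agent.Helper15.CSGDefs
import Cfsg.Agent.Helper69.CSGD1
import Cfsg.Agent.Helper12.CSGD2
import Cfsg.Agent.Helper71.CSGD3
import Cfsg.Agent.Helper12.CSGD4
import Cfsg.Agent.Helper63.CSGD5a
import Cfsg.Agent.Helper71.CSGD5b

/-!
# S4257: the class-size prime graph has diameter ≤ 3 when connected — assembly (helper15)
-/

set_option autoImplicit false

namespace Cfsg.Agent.Helper15.CSG

open Subgroup

variable {G : Type*} [Group G] [Finite G]

omit [Finite G] in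
theorem Split.exists_mul {π : Set ℕ} {K H : Subgroup G} (S : Split G π K H) (g : G) :
    ∃ u ∈ K, ∃ h ∈ H, g = u * h := by
  obtain ⟨⟨u, h⟩, huh⟩ := S.compl.2 g
  exact ⟨u.1, u.2, h.1, h.2, huh.symm⟩

omit [Finite G] in
theorem Split.coprime {π : Set ℕ} {K H : Subgroup G} (S : Split G π K H) :
    (Nat.card K).Coprime (Nat.card H) := by
  apply Nat.Coprime.symm
  rw [Nat.coprime_iff_gcd_eq_one]
  by_contra hne
  obtain ⟨r, hr, hrd⟩ := Nat.exists_prime_and_dvd hne
  exact S.hK r (S.hH r hr (hrd.trans (Nat.gcd_dvd_left _ _))) (hrd.trans (Nat.gcd_dvd_right _ _))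

/-- (D5c) In `G = A ⋊ H` with `A`, `H` abelian: if no class size divisible by `p ∉ π` is
divisible by a prime in `π`, then every vertex outside `π` is `p` or adjacent to `p`. -/
theorem Split.vertex_adj {π : Set ℕ} {A H : Subgroup G} (S : Split G π A H)
    (hA : ∀ x ∈ A, ∀ y ∈ A, x * y = y * x) {p : ℕ} (hp : p.Prime) (hpπ : p ∉ π)
    (hpv : ∃ g : G, p ∣ cs g)
    (hcross : ∀ g : G, p ∣ cs g → ∀ b ∈ π, ¬ b ∣ cs g)
    {s : ℕ} (hs : s.Prime) (hsπ : s ∉ π) (hsv : ∃ g : G, s ∣ cs g) :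
    ∃ g : G, p ∣ cs g ∧ s ∣ cs g := by
  have hpH : ¬ p ∣ Nat.card H := fun h => hpπ (S.hH p hp h)
  have hsH : ¬ s ∣ Nat.card H := fun h => hsπ (S.hH s hs h)
  obtain ⟨g0, hg0⟩ := hpv
  obtain ⟨u, hu, h, hh, rfl⟩ := S.exists_mul g0
  have hph : p ∣ (centralizer ({h} : Set G)).relIndex A :=
    (Cfsg.Agent.Helper63.CSG.dvd_cs_iff S hA hp hpH hu hh).mp hg0
  have hcen : ∀ u0 ∈ A, u0 * h = h * u0 → u0 ∈ center G := by
    intro u0 hu0 hcomm
    apply Cfsg.Agent.Helper71.CSG.Split.mem_center_of_coprime S hA hu0 hh hcomm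
    rw [Nat.coprime_iff_gcd_eq_one]
    by_contra hne
    obtain ⟨r, hr, hrd⟩ := Nat.exists_prime_and_dvd hne
    have hrπ : r ∈ π := S.hH r hr (hrd.trans (Nat.gcd_dvd_left _ _))
    have hpu : p ∣ cs (u0 * h) := (Cfsg.Agent.Helper63.CSG.dvd_cs_iff S hA hp hpH hu0 hh).mpr hph
    exact hcross _ hpu r hrπ (hrd.trans (Nat.gcd_dvd_right _ _))
  obtain ⟨g1, hg1⟩ := hsv
  obtain ⟨u', hu', h', hh', rfl⟩ := S.exists_mul g1
  have hsh' : s ∣ (centralizer ({h'} : Set G)).relIndex A :=
    (Cfsg.Agent.Helper63.CSG.dvd_cs_iff S hA hs hsH hu' hh').mp hg1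
  have hdvd : (centralizer ({h'} : Set G)).relIndex A ∣ (centralizer ({h} : Set G)).relIndex A := by
    rw [← inf_relIndex_right (centralizer ({h'} : Set G)),
      ← inf_relIndex_right (centralizer ({h} : Set G))]
    apply relIndex_dvd_of_le_left
    intro x hx
    obtain ⟨hx1, hx2⟩ := hx
    refine ⟨?_, hx2⟩
    have hx1' : x ∈ centralizer ({h} : Set G) := hx1
    have hxh : x * h = h * x := by
      have := (mem_centralizer_iff.mp hx1') h (Set.mem_singleton h)
      exact this.symm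
    have hxc := hcen x hx2 hxh
    change x ∈ centralizer ({h'} : Set G)
    rw [mem_centralizer_iff]
    intro y hy
    rw [Set.mem_singleton_iff] at hy
    subst hy
    exact (mem_center_iff.mp hxc y)
  refine ⟨1 * h, (Cfsg.Agent.Helper63.CSG.dvd_cs_iff S hA hp hpH A.one_mem hh).mpr hph,
    (Cfsg.Agent.Helper63.CSG.dvd_cs_iff S hA hs hsH A.one_mem hh).mpr (hsh'.trans hdvd)⟩

/-- The core lemma: a vertex `q` all of whose neighbours are good, and a vertex `p` with no
neighbour in `π2 ⊇ N[q]`: then every vertex lies in `π1 ∪ π2`, `π1 ⊇ N[p]`. -/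
theorem core {π1 π2 : Set ℕ} {p q : ℕ} (hp : p.Prime) (hq : q.Prime)
    (hpv : ∃ g : G, p ∣ cs g) (hqv : ∃ g : G, q ∣ cs g)
    (hp1 : ∀ g : G, p ∣ cs g → ∀ r : ℕ, r.Prime → r ∣ cs g → r ∈ π1)
    (hq2 : ∀ g : G, q ∣ cs g → ∀ r : ℕ, r.Prime → r ∣ cs g → r ∈ π2)
    (hqπ : q ∈ π2) (hpπ : p ∉ π2)
    (hgood : ∀ b ∈ π2, b.Prime ∧ Good G b)
    (hcross : ∀ g : G, p ∣ cs g → ∀ b ∈ π2, ¬ b ∣ cs g) :
    ∀ s : ℕ, s.Prime → (∃ g : G, s ∣ cs g) → s ∈ π1 ∨ s ∈ π2 := by
  obtain ⟨K, H, S⟩ := Cfsg.Agent.Helper12.CSG.exists_split (G := G) π2 hgood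
  -- class sizes divisible by `q` are coprime to `|K|`
  have hcop : ∀ y : G, q ∣ cs y → (Nat.card K).Coprime (cs y) := by
    intro y hy
    rw [Nat.coprime_iff_gcd_eq_one]
    by_contra hne
    obtain ⟨r, hr, hrd⟩ := Nat.exists_prime_and_dvd hne
    exact S.hK r (hq2 y hy r hr (hrd.trans (Nat.gcd_dvd_right _ _)))
      (hrd.trans (Nat.gcd_dvd_left _ _))
  -- `K` is abelian
  have hA : ∀ x ∈ K, ∀ y ∈ K, x * y = y * x := by
    apply Cfsg.Agent.Helper12.CSG.Split.comm_of_count S hq hqπ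
    · intro k _ hqk k' hk'
      obtain ⟨k0, _, z, hz, hk0c, rfl⟩ := Cfsg.Agent.Helper71.CSG.Split.decomp S (hcop k hqk)
      have hz' := mem_center_iff.mp hz
      calc k0 * z * k' = k0 * (z * k') := by group
        _ = k0 * (k' * z) := by rw [← hz' k']
        _ = (k0 * k') * z := by group
        _ = (k' * k0) * z := by rw [hk0c k' hk']
        _ = k' * (k0 * z) := by group
    · obtain ⟨y, hy⟩ := hqv
      obtain ⟨k0, hk0, z, hz, hk0c, rfl⟩ := Cfsg.Agent.Helper71.CSG.Split.decomp S (hcop y hy)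
      refine ⟨k0, hk0, hk0c, ?_⟩
      have hz' := mem_center_iff.mp hz
      have hceq : centralizer ({k0 * z} : Set G) = centralizer ({k0} : Set G) := by
        ext g
        simp only [mem_centralizer_iff, Set.mem_singleton_iff, forall_eq]
        constructor
        · intro h
          have : k0 * g * z = g * k0 * z := by
            calc k0 * g * z = k0 * (g * z) := by group
              _ = k0 * (z * g) := by rw [hz' g]
              _ = (k0 * z) * g := by group
              _ = g * (k0 * z) := h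
              _ = g * k0 * z := by group
          exact mul_right_cancel this
        · intro h
          calc k0 * z * g = k0 * (z * g) := by group
            _ = k0 * (g * z) := by rw [← hz' g]
            _ = (k0 * g) * z := by group
            _ = (g * k0) * z := by rw [h]
            _ = g * (k0 * z) := by group
      have : cs (k0 * z) = cs k0 := by
        unfold cs; rw [hceq]
      rw [← this]; exact hy
  intro s hs hsv
  by_cases hsπ : s ∈ π2
  · exact Or.inr hsπ
  · left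
    obtain ⟨g, hpg, hsg⟩ := S.vertex_adj hA hp hpπ hpv hcross hs hsπ hsv
    exact hp1 g hpg s hs hsg

end Cfsg.Agent.Helper15.CSG
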