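import Mathlib

/-!
# A lattice ("coherence") lemma for integer vectors (helper15)

Let `a : L → I → ℤ` be a family of integer vectors whose Gram matrix is `m + [r l k]` for an
equivalence relation `r`, and which are all orthogonal to a strictly positive vector `D`.
Then there are a sign `ε`, a vector `b` and a map `Θ : L → I` with
`a l = b + ε • e_{Θ l}` and `Θ l = Θ k ↔ r l k`.

This is the combinatorial heart of the Brauer–Suzuki / Brauer–Leonard theory of exceptional
characters (the vector `D` is the vector of degrees, orthogonality to `D` is weak block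
orthogonality).
-/

set_option autoImplicit false

namespace Cfsg.Agent.Helper15.Coherence

open Finset

variable {I : Type*} [Fintype I] [DecidableEq I]

/-- **Step A.** An integer vector of norm `2` orthogonal to a strictly positive vector is
`e_p - e_q`. -/
theorem diff_of_norm_two (d D : I → ℤ) (hD : ∀ i, 0 < D i) (h2 : ∑ i, d i * d i = 2)
    (h0 : ∑ i, d i * D i = 0) :
    ∃ p q, p ≠ q ∧ ∀ i, d i = (if i = p then 1 else 0) - (if i = q then 1 else 0) := by
  have hne : ∃ i, d i ≠ 0 := by
    by_contra hcon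
    push Not at hcon
    have : ∑ i, d i * d i = 0 := Finset.sum_eq_zero (fun i _ => by rw [hcon i]; ring)
    omega
  have hpos : ∃ p, 0 < d p := by
    by_contra hcon
    push Not at hcon
    have hz := (Finset.sum_eq_zero_iff_of_nonpos (s := univ) (f := fun i => d i * D i)
      (fun i _ => mul_nonpos_of_nonpos_of_nonneg (hcon i) (hD i).le)).1 h0
    obtain ⟨i, hi⟩ := hne
    have := hz i (mem_univ i)
    rcases mul_eq_zero.1 this with h | h
    · exact hi h
    · exact (hD i).ne' h
  have hneg : ∃ q, d q < 0 := by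
    by_contra hcon
    push Not at hcon
    have hz := (Finset.sum_eq_zero_iff_of_nonneg (s := univ) (f := fun i => d i * D i)
      (fun i _ => mul_nonneg (hcon i) (hD i).le)).1 h0
    obtain ⟨i, hi⟩ := hne
    have := hz i (mem_univ i)
    rcases mul_eq_zero.1 this with h | h
    · exact hi h
    · exact (hD i).ne' h
  obtain ⟨p, hp⟩ := hpos
  obtain ⟨q, hq⟩ := hneg
  have hpq : p ≠ q := by
    rintro rfl
    omega
  have hsplit : d p * d p + (d q * d q + ∑ i ∈ (univ.erase p).erase q, d i * d i) = 2 := by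
    have h1 := Finset.add_sum_erase univ (fun i => d i * d i) (mem_univ p)
    have h2' := Finset.add_sum_erase (univ.erase p) (fun i => d i * d i)
      (Finset.mem_erase.2 ⟨hpq.symm, mem_univ q⟩)
    linarith
  have hrest_nonneg : 0 ≤ ∑ i ∈ (univ.erase p).erase q, d i * d i :=
    Finset.sum_nonneg (fun i _ => mul_self_nonneg (d i))
  have hp1 : 1 ≤ d p * d p := by nlinarith
  have hq1 : 1 ≤ d q * d q := by nlinarith
  have hp2 : d p * d p = 1 := by omega
  have hq2 : d q * d q = 1 := by omega
  have hrest : ∑ i ∈ (univ.erase p).erase q, d i * d i = 0 := by omega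
  have hdp : d p = 1 := by nlinarith
  have hdq : d q = -1 := by nlinarith
  have hz := (Finset.sum_eq_zero_iff_of_nonneg (fun i _ => mul_self_nonneg (d i))).1 hrest
  refine ⟨p, q, hpq, fun i => ?_⟩
  by_cases hip : i = p
  · subst hip
    simp [hdp, hpq]
  · by_cases hiq : i = q
    · subst hiq
      simp [hdq, hip]
    · have := hz i (by simp [hip, hiq])
      have hdi : d i = 0 := by simpa using this
      simp [hdi, hip, hiq]


omit [DecidableEq I] in
theorem eq_of_norm_zero (u v : I → ℤ) (h : ∑ i, (u i - v i) * (u i - v i) = 0) : u = v := by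
  have hz := (Finset.sum_eq_zero_iff_of_nonneg
    (fun i _ => mul_self_nonneg (u i - v i))).1 h
  funext i
  have := hz i (mem_univ i)
  have h0 : u i - v i = 0 := by simpa using this
  linarith

omit [DecidableEq I] in
theorem norm_sub_expand (u v : I → ℤ) :
    ∑ i, (u i - v i) * (u i - v i)
      = ∑ i, u i * u i - ∑ i, u i * v i - ∑ i, v i * u i + ∑ i, v i * v i := by
  simp only [← Finset.sum_sub_distrib, ← Finset.sum_add_distrib]
  exact Finset.sum_congr rfl (fun i _ => by ring)

variable {L : Type*}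

/-- **The coherence lemma** (general `m`). -/
theorem exists_coherent [Nonempty I] (a : L → I → ℤ) (r : L → L → Prop) [DecidableRel r]
    (hr : Equivalence r) (m : ℤ)
    (hG : ∀ l k, ∑ i, a l i * a k i = m + if r l k then 1 else 0)
    (D : I → ℤ) (hD : ∀ i, 0 < D i) (hDa : ∀ l, ∑ i, a l i * D i = 0) :
    ∃ (ε : ℤ) (Θ : L → I) (b : I → ℤ), (ε = 1 ∨ ε = -1) ∧
      (∀ l i, a l i = b i + if i = Θ l then ε else 0) ∧ ∀ l k, Θ l = Θ k ↔ r l k := by
  classical
  have heq : ∀ l k, r l k → a l = a k := by
    intro l k hlk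
    apply eq_of_norm_zero
    have h1 := hG l l
    have h2 := hG l k
    have h3 := hG k k
    have h4 := hG k l
    rw [if_pos (hr.refl _)] at h1 h3
    rw [if_pos hlk] at h2
    rw [if_pos (hr.symm hlk)] at h4
    rw [norm_sub_expand, h1, h2, h3, h4]
    ring
  have hadj : ∀ l k, ¬ r l k → ∃ p q, p ≠ q ∧
      ∀ i, a l i - a k i = (if i = p then 1 else 0) - (if i = q then 1 else 0) := by
    intro l k hlk
    apply diff_of_norm_two (fun i => a l i - a k i) D hD
    · have h1 := hG l l
      have h2 := hG l k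
      have h3 := hG k k
      have h4 := hG k l
      rw [if_pos (hr.refl _)] at h1 h3
      rw [if_neg hlk] at h2
      rw [if_neg (fun h => hlk (hr.symm h))] at h4
      rw [norm_sub_expand, h1, h2, h3, h4]
      ring
    · have : ∑ i, (a l i - a k i) * D i = ∑ i, a l i * D i - ∑ i, a k i * D i := by
        rw [← Finset.sum_sub_distrib]
        exact Finset.sum_congr rfl (fun i _ => by ring)
      rw [this, hDa, hDa]
      ring
  suffices hrep : ∃ (ε : ℤ) (Θ : L → I) (b : I → ℤ), (ε = 1 ∨ ε = -1) ∧
      (∀ l i, a l i = b i + if i = Θ l then ε else 0) by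
    obtain ⟨ε, Θ, b, hε, hab⟩ := hrep
    refine ⟨ε, Θ, b, hε, hab, fun l k => ⟨fun h => ?_, fun h => ?_⟩⟩
    · by_contra hn
      have hlk : a l = a k := by
        funext i
        rw [hab l i, hab k i, h]
      have h1 := hG l l
      have h2 := hG l k
      rw [if_pos (hr.refl _)] at h1
      rw [if_neg hn, ← hlk] at h2
      omega
    · have h0 := heq l k h
      have h1 := congrFun h0 (Θ l)
      rw [hab l, hab k, if_pos rfl] at h1
      by_contra hne
      rw [if_neg hne] at h1
      rcases hε with h | h <;> omega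
  rcases isEmpty_or_nonempty L with hL | ⟨⟨l₀⟩⟩
  · exact ⟨1, fun l => isEmptyElim l, fun _ => 0, Or.inl rfl, fun l => isEmptyElim l⟩
  have hadj0 : ∀ l, ∃ p q : I, ¬ r l₀ l → (p ≠ q ∧
      ∀ i, a l₀ i - a l i = (if i = p then 1 else 0) - (if i = q then 1 else 0)) := by
    intro l
    by_cases h : r l₀ l
    · exact ⟨Classical.arbitrary I, Classical.arbitrary I, fun hn => absurd h hn⟩
    · obtain ⟨p, q, h1, h2⟩ := hadj l₀ l h
      exact ⟨p, q, fun _ => ⟨h1, h2⟩⟩
  choose P Q hPQ using hadj0
  have key : ∀ l k, ¬ r l₀ l → ¬ r l₀ k → P l = P k ∨ Q l = Q k := by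
    intro l k hl hk
    obtain ⟨hne_l, hl'⟩ := hPQ l hl
    obtain ⟨hne_k, hk'⟩ := hPQ k hk
    by_cases hlk : r l k
    · left
      have h0 := heq l k hlk
      have e1 := hl' (P k)
      have e2 := hk' (P k)
      rw [h0] at e1
      rw [e1, if_pos (rfl : P k = P k), if_neg hne_k] at e2
      by_contra hne
      rw [if_neg (show ¬ P k = P l from fun h => hne h.symm)] at e2
      split_ifs at e2 <;> omega
    · obtain ⟨s, t, hst, hd⟩ := hadj l k hlk
      by_contra hcon
      push Not at hcon
      obtain ⟨hc1, hc2⟩ := hcon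
      have hi : ∀ i, (if i = s then (1 : ℤ) else 0) - (if i = t then 1 else 0)
          = ((if i = P k then 1 else 0) - (if i = Q k then 1 else 0))
            - ((if i = P l then 1 else 0) - (if i = Q l then 1 else 0)) := by
        intro i
        rw [← hd i, ← hk' i, ← hl' i]
        ring
      have h1 := hi (P k)
      have h2 := hi (Q l)
      rw [if_pos (rfl : P k = P k), if_neg hne_k,
        if_neg (show ¬ P k = P l from fun h => hc1 h.symm)] at h1
      rw [if_pos (rfl : Q l = Q l), if_neg (show ¬ Q l = Q k from hc2),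
        if_neg (show ¬ Q l = P l from fun h => hne_l h.symm)] at h2
      have hs1 : P k = s := by
        by_contra h
        rw [if_neg h] at h1
        split_ifs at h1 <;> omega
      have hs2 : Q l = s := by
        by_contra h
        rw [if_neg h] at h2
        split_ifs at h2 <;> omega
      have hPQ' : P k = Q l := hs1.trans hs2.symm
      rw [if_pos hPQ'] at h1
      split_ifs at h1 <;> omega
  by_cases hall : ∀ l, r l₀ l
  · obtain ⟨i₀⟩ := ‹Nonempty I›
    refine ⟨1, fun _ => i₀, fun i => a l₀ i - if i = i₀ then 1 else 0, Or.inl rfl,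
      fun l i => ?_⟩
    rw [← heq l₀ l (hall l)]
    ring
  push Not at hall
  obtain ⟨l₁, hl₁⟩ := hall
  by_cases hP : ∀ l, ¬ r l₀ l → P l = P l₁
  · refine ⟨1, fun l => if r l₀ l then P l₁ else Q l,
      fun i => a l₀ i - if i = P l₁ then 1 else 0, Or.inl rfl, fun l i => ?_⟩
    by_cases hl : r l₀ l
    · simp only [if_pos hl]
      rw [← heq l₀ l hl]
      ring
    · simp only [if_neg hl]
      have := (hPQ l hl).2 i
      rw [hP l hl] at this
      linarith
  · push Not at hP
    obtain ⟨l₂, hl₂, hne⟩ := hP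
    have hQ : ∀ u, ¬ r l₀ u → Q u = Q l₁ := by
      intro u hu
      by_contra hcon
      have h1 : P u = P l₁ := (key u l₁ hu hl₁).resolve_right hcon
      rcases key u l₂ hu hl₂ with h | h
      · exact hne (h.symm.trans h1)
      · have h2 : Q l₂ = Q l₁ := (key l₂ l₁ hl₂ hl₁).resolve_left hne
        exact hcon (h.trans h2)
    refine ⟨-1, fun l => if r l₀ l then Q l₁ else P l,
      fun i => a l₀ i + if i = Q l₁ then 1 else 0, Or.inr rfl, fun l i => ?_⟩
    by_cases hl : r l₀ l
    · simp only [if_pos hl]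
      rw [← heq l₀ l hl]
      split_ifs <;> ring
    · simp only [if_neg hl]
      have := (hPQ l hl).2 i
      rw [hQ l hl] at this
      split_ifs at this ⊢ <;> linarith


/-- **The coherence lemma for `m = 3`** with at least five classes and a coordinate `o`
(the principal character) on which every vector is `-1`: the "constant part" `b` vanishes on
the exceptional coordinates, `b o = -1` and `b` has norm `3`. -/
theorem coherent_three [Nonempty I] (a : L → I → ℤ) (r : L → L → Prop) [DecidableRel r]
    (hr : Equivalence r)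
    (hG : ∀ l k, ∑ i, a l i * a k i = 3 + if r l k then 1 else 0)
    (D : I → ℤ) (hD : ∀ i, 0 < D i) (hDa : ∀ l, ∑ i, a l i * D i = 0)
    (o : I) (ho : ∀ l, a l o = -1)
    (f : Fin 5 → L) (hf : ∀ x y, x ≠ y → ¬ r (f x) (f y)) :
    ∃ (ε : ℤ) (Θ : L → I) (b : I → ℤ), (ε = 1 ∨ ε = -1) ∧
      (∀ l i, a l i = b i + if i = Θ l then ε else 0) ∧ (∀ l k, Θ l = Θ k ↔ r l k) ∧
      (∀ l, b (Θ l) = 0) ∧ b o = -1 ∧ (∀ l, Θ l ≠ o) ∧ ∑ i, b i * b i = 3 := by
  classical
  obtain ⟨ε, Θ, b, hε, hab, hΘ⟩ := exists_coherent a r hr 3 hG D hD hDa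
  have hε2 : ε * ε = 1 := by rcases hε with h | h <;> rw [h] <;> norm_num
  -- `Θ l ≠ o`
  have hΘo : ∀ l, Θ l ≠ o := by
    intro l hl
    have hex : ∃ l', ¬ r l l' := by
      by_contra hcon
      push Not at hcon
      exact hf 0 1 (by decide) (hr.trans (hr.symm (hcon (f 0))) (hcon (f 1)))
    obtain ⟨l', hl'⟩ := hex
    have h1 := hab l o
    have h2 := hab l' o
    rw [ho, if_pos hl.symm] at h1
    rw [ho, if_neg (show ¬ o = Θ l' from fun h => hl' ((hΘ l l').1 (hl.trans h)))] at h2
    rcases hε with h | h <;> omega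
  have hbo : b o = -1 := by
    have h1 := hab (f 0) o
    rw [ho, if_neg (fun h => hΘo (f 0) h.symm)] at h1
    omega
  -- the norm of `a l`
  have hnorm : ∀ l, ∑ i, b i * b i = 3 - 2 * ε * b (Θ l) := by
    intro l
    have h1 := hG l l
    rw [if_pos (hr.refl _)] at h1
    have h2 : ∑ i, a l i * a l i
        = ∑ i, b i * b i + 2 * ε * ∑ i, (if i = Θ l then b i else 0)
          + ∑ i, (if i = Θ l then ε * ε else 0) := by
      rw [Finset.mul_sum, ← Finset.sum_add_distrib, ← Finset.sum_add_distrib]
      refine Finset.sum_congr rfl (fun i _ => ?_)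
      rw [hab l i]
      split_ifs <;> ring
    rw [Finset.sum_ite_eq' univ (Θ l), Finset.sum_ite_eq' univ (Θ l)] at h2
    simp only [mem_univ, if_true] at h2
    rw [hε2] at h2
    linarith
  -- lower bound for the norm of `b`
  have hinj : Function.Injective (fun x : Fin 5 => Θ (f x)) := by
    intro x y hxy
    by_contra hne
    exact hf x y hne ((hΘ _ _).1 hxy)
  have hβ : ∀ l, b (Θ l) = b (Θ (f 0)) := by
    intro l
    have h1 := hnorm l
    have h2 := hnorm (f 0)
    have : ε * b (Θ l) = ε * b (Θ (f 0)) := by linarith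
    rcases hε with h | h <;> rw [h] at this <;> linarith
  have hlow : b o * b o + ∑ x : Fin 5, b (Θ (f x)) * b (Θ (f x)) ≤ ∑ i, b i * b i := by
    have hsub : insert o (univ.image (fun x : Fin 5 => Θ (f x))) ⊆ (univ : Finset I) :=
      Finset.subset_univ _
    have h1 := Finset.sum_le_sum_of_subset_of_nonneg (f := fun i => b i * b i) hsub
      (fun i _ _ => mul_self_nonneg (b i))
    rw [Finset.sum_insert, Finset.sum_image (fun x _ y _ h => hinj h)] at h1
    · exact h1
    · intro hmem
      obtain ⟨x, _, hx⟩ := Finset.mem_image.1 hmem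
      exact hΘo (f x) hx
  have hsum5 : ∑ x : Fin 5, b (Θ (f x)) * b (Θ (f x)) = 5 * (b (Θ (f 0)) * b (Θ (f 0))) := by
    rw [Finset.sum_congr rfl (fun x _ => by rw [hβ (f x)])]
    simp
  have hβ0 : b (Θ (f 0)) = 0 := by
    have h1 := hnorm (f 0)
    rw [hbo, hsum5, h1] at hlow
    rcases hε with h | h <;> rw [h] at hlow <;> nlinarith
  refine ⟨ε, Θ, b, hε, hab, hΘ, fun l => by rw [hβ l, hβ0], hbo, hΘo, ?_⟩
  have h1 := hnorm (f 0)
  rw [hβ0] at h1
  linarith

/-- A vector of norm `3` with `b o = -1` has exactly two further non-zero entries, both `±1`. -/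
theorem exists_two (b : I → ℤ) (o : I) (hbo : b o = -1) (hb : ∑ i, b i * b i = 3) :
    ∃ i₂ i₃ : I, i₂ ≠ o ∧ i₃ ≠ o ∧ i₂ ≠ i₃ ∧ (b i₂ = 1 ∨ b i₂ = -1) ∧ (b i₃ = 1 ∨ b i₃ = -1) ∧
      ∀ i, i ≠ o → i ≠ i₂ → i ≠ i₃ → b i = 0 := by
  classical
  have h2 : ∑ i ∈ univ.erase o, b i * b i = 2 := by
    have := Finset.add_sum_erase univ (fun i => b i * b i) (mem_univ o)
    simp only [hbo] at this
    linarith
  have hterm : ∀ i ∈ univ.erase o, b i = 0 ∨ b i = 1 ∨ b i = -1 := by
    intro i hi
    have hle : b i * b i ≤ 2 := by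
      rw [← h2]
      exact Finset.single_le_sum (f := fun i => b i * b i) (fun j _ => mul_self_nonneg (b j)) hi
    have h1 : b i < 2 := by nlinarith
    have h2 : -2 < b i := by nlinarith
    omega
  have hcard : ((univ.erase o).filter (fun i => b i ≠ 0)).card = 2 := by
    have h1 : ∑ i ∈ univ.erase o, b i * b i
        = ∑ i ∈ univ.erase o, (if b i ≠ 0 then (1 : ℤ) else 0) := by
      apply Finset.sum_congr rfl
      intro i hi
      rcases hterm i hi with h | h | h <;> simp [h]
    rw [h1, Finset.sum_ite, Finset.sum_const_zero, add_zero, Finset.sum_const] at h2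
    have : (((univ.erase o).filter (fun i => b i ≠ 0)).card : ℤ) = 2 := by simpa using h2
    exact_mod_cast this
  obtain ⟨i₂, i₃, h23, hset⟩ := Finset.card_eq_two.mp hcard
  have hmem : ∀ i, i ∈ ({i₂, i₃} : Finset I) ↔ i ≠ o ∧ b i ≠ 0 := by
    intro i
    rw [← hset, Finset.mem_filter, Finset.mem_erase]
    simp
  have h2' := (hmem i₂).mp (by simp)
  have h3' := (hmem i₃).mp (by simp)
  refine ⟨i₂, i₃, h2'.1, h3'.1, h23, ?_, ?_, ?_⟩
  · rcases hterm i₂ (by simp [h2'.1]) with h | h | h
    · exact absurd h h2'.2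
    · exact Or.inl h
    · exact Or.inr h
  · rcases hterm i₃ (by simp [h3'.1]) with h | h | h
    · exact absurd h h3'.2
    · exact Or.inl h
    · exact Or.inr h
  · intro i hio hi2 hi3
    by_contra hne
    have := (hmem i).mpr ⟨hio, hne⟩
    simp at this
    tauto


/-- Greedy choice of `n` pairwise inequivalent elements when the classes have at most `c`
elements and `c * (n - 1) < |L|`. -/
theorem exists_pairwise_not_rel {L : Type*} [Fintype L] [DecidableEq L] (r : L → L → Prop)
    [DecidableRel r] (hrefl : ∀ l, r l l) (hsymm : ∀ l k, r l k → r k l) (c n : ℕ)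
    (hcls : ∀ l, (univ.filter (fun k => r k l)).card ≤ c)
    (hcard : c * (n - 1) < Fintype.card L) :
    ∃ f : Fin n → L, ∀ x y, x ≠ y → ¬ r (f x) (f y) := by
  have key : ∀ k, k ≤ n → ∃ S : Finset L, S.card = k ∧ ∀ a ∈ S, ∀ b ∈ S, a ≠ b → ¬ r a b := by
    intro k
    induction k with
    | zero => exact fun _ => ⟨∅, rfl, by simp⟩
    | succ k ih =>
      intro hk
      obtain ⟨S, hS, hpair⟩ := ih (by omega)
      have hU : (S.biUnion (fun s => univ.filter (fun l => r l s))).card < (univ : Finset L).card := by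
        calc (S.biUnion (fun s => univ.filter (fun l => r l s))).card
            ≤ ∑ s ∈ S, (univ.filter (fun l => r l s)).card := Finset.card_biUnion_le
          _ ≤ ∑ _s ∈ S, c := Finset.sum_le_sum (fun s _ => hcls s)
          _ = k * c := by rw [Finset.sum_const, hS, smul_eq_mul]
          _ ≤ c * (n - 1) := by
              rw [mul_comm]
              exact Nat.mul_le_mul_left c (by omega)
          _ < (univ : Finset L).card := by rw [Finset.card_univ]; exact hcard
      obtain ⟨l, _, hl⟩ := Finset.exists_mem_notMem_of_card_lt_card hU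
      have hlS : ∀ s ∈ S, ¬ r l s := by
        intro s hs hr
        apply hl
        exact Finset.mem_biUnion.2 ⟨s, hs, by simp [hr]⟩
      have hlnot : l ∉ S := fun h => hlS l h (hrefl l)
      refine ⟨insert l S, by rw [Finset.card_insert_of_notMem hlnot, hS], ?_⟩
      intro a ha b hb hab
      rw [Finset.mem_insert] at ha hb
      rcases ha with rfl | ha <;> rcases hb with rfl | hb
      · exact absurd rfl hab
      · exact hlS b hb
      · exact fun h => hlS a ha (hsymm _ _ h)
      · exact hpair a ha b hb hab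
  obtain ⟨S, hS, hpair⟩ := key n le_rfl
  let e := (Finset.equivFinOfCardEq hS).symm
  refine ⟨fun x => (e x : L), fun x y hxy => ?_⟩
  apply hpair _ (e x).2 _ (e y).2
  intro h
  exact hxy (e.injective (Subtype.ext h))

end Cfsg.Agent.Helper15.Coherence
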