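import Cfsg.Agent.Helper15.AbFourier

/-!
# Values of exceptional characters on an abelian group (helper15)

Abstract evaluation: `X : ι → Q → ℂ` a family of functions on the finite abelian group `Q` whose
relative Fourier coefficients have the coherent shape `acoef (X i) l = b i + ε [i = Θ l]`
(`l` running over the non-trivial elements of the dual).  Then for `z ≠ 1`
`X i z = - b i + ε * T Θ i z` where `T Θ i z = ∑_{l, Θ l = i} l z`; if the fibres of `Θ` are the
orbits of a group `A` of automorphisms acting freely, `T Θ (Θ l) z = ∑_{α ∈ A} l (α z)`, and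
`∑ i, T i j ^ 2 * T i x = - |A|²` for `j² = 1`, `x² ≠ 1`.
-/

set_option autoImplicit false

namespace Cfsg.Agent.Helper15.ExcValues

open Finset AbFourier
open scoped ComplexConjugate

variable {Q : Type*} [CommGroup Q] [Fintype Q] [Fintype (Q →* ℂˣ)] [DecidableEq (Q →* ℂˣ)]

/-- The non-trivial elements of the dual. -/
abbrev NT (Q : Type*) [CommGroup Q] := {ψ : Q →* ℂˣ // ψ ≠ 1}

omit [Fintype Q] in
theorem sum_NT (F : (Q →* ℂˣ) → ℂ) : ∑ l : NT Q, F l.1 = ∑ ψ, F ψ - F 1 := by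
  rw [← Finset.sum_erase_eq_sub (mem_univ (1 : Q →* ℂˣ))]
  exact (Finset.sum_subtype (univ.erase (1 : Q →* ℂˣ)) (by simp) F).symm

theorem sum_NT_apply {z : Q} (hz : z ≠ 1) : ∑ l : NT Q, ((l.1 z : ℂˣ) : ℂ) = -1 := by
  rw [sum_NT (fun ψ => ((ψ z : ℂˣ) : ℂ)), sum_dual_apply_eq_zero hz]
  simp

variable {ι : Type*} [Fintype ι] [DecidableEq ι]

/-- The sum of the `l z` over the fibre of `Θ` above `i`. -/
noncomputable def T (Θ : NT Q → ι) (i : ι) (z : Q) : ℂ :=
  ∑ l : NT Q, if i = Θ l then ((l.1 z : ℂˣ) : ℂ) else 0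

omit [Fintype ι] in
/-- The values of a coherent family away from the identity. -/
theorem value_eq (X : ι → Q → ℂ) (Θ : NT Q → ι) (b : ι → ℤ) (ε : ℤ)
    (hval : ∀ i (l : NT Q), acoef (X i) l.1 = (b i : ℂ) + if i = Θ l then (ε : ℂ) else 0)
    (i : ι) {z : Q} (hz : z ≠ 1) : X i z = -(b i : ℂ) + ε * T Θ i z := by
  have h1 := inversion_ne_one (X i) hz
  have h2 := sum_NT (fun ψ => acoef (X i) ψ * ((ψ z : ℂˣ) : ℂ))
  simp only [acoef_one, zero_mul, sub_zero] at h2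
  rw [h1, ← h2]
  have h3 : ∀ l : NT Q, acoef (X i) l.1 * ((l.1 z : ℂˣ) : ℂ)
      = (b i : ℂ) * ((l.1 z : ℂˣ) : ℂ) + ε * (if i = Θ l then ((l.1 z : ℂˣ) : ℂ) else 0) := by
    intro l
    rw [hval i l]
    split_ifs <;> ring
  rw [Finset.sum_congr rfl (fun l _ => h3 l), Finset.sum_add_distrib, ← Finset.mul_sum,
    ← Finset.mul_sum, sum_NT_apply hz]
  unfold T
  ring

omit [Fintype Q] [Fintype ι] in
theorem b_mul_T (Θ : NT Q → ι) (b : ι → ℤ) (hbΘ : ∀ l, b (Θ l) = 0) (i : ι) (z : Q) :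
    (b i : ℂ) * T Θ i z = 0 := by
  unfold T
  rw [Finset.mul_sum]
  refine Finset.sum_eq_zero (fun l _ => ?_)
  split_ifs with h
  · rw [h, hbΘ l]
    simp
  · simp

omit [Fintype Q] [Fintype ι] in
theorem T_mul_eq (Θ : NT Q → ι) (c : ι → ℂ) (d : ℂ) (hc : ∀ l, c (Θ l) = d) (i : ι) (z : Q) :
    T Θ i z * c i = T Θ i z * d := by
  unfold T
  rw [Finset.sum_mul, Finset.sum_mul]
  refine Finset.sum_congr rfl (fun l _ => ?_)
  split_ifs with h
  · rw [h, hc l]
  · simp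

section Orbits

variable (A : Subgroup (MulAut Q)) [Fintype A]

omit [Fintype Q] [Fintype (Q →* ℂˣ)] [DecidableEq (Q →* ℂˣ)] in
theorem comp_ne_one {l : Q →* ℂˣ} (hl : l ≠ 1) (α : MulAut Q) :
    l.comp (α : Q ≃* Q).toMonoidHom ≠ 1 := by
  intro hcon
  apply hl
  ext z
  have h := DFunLike.congr_fun hcon (α⁻¹ z)
  simp only [MonoidHom.comp_apply, MulEquiv.coe_toMonoidHom] at h
  rw [← MulAut.mul_apply, mul_inv_cancel, MulAut.one_apply] at h
  rw [h]
  rfl

omit [Fintype ι] in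
/-- The fibre of `Θ` through `l` is the `A`-orbit of `l`. -/
theorem T_theta (hfree : ∀ α ∈ A, α ≠ 1 → ∀ z : Q, α z = z → z = 1)
    (Θ : NT Q → ι) (hΘ : ∀ l k : NT Q, Θ l = Θ k ↔ DualRel A l.1 k.1) (l : NT Q) (z : Q) :
    T Θ (Θ l) z = ∑ α : A, ((l.1 ((α : MulAut Q) z) : ℂˣ) : ℂ) := by
  classical
  let φ : A → NT Q := fun α =>
    ⟨l.1.comp ((α : MulAut Q) : Q ≃* Q).toMonoidHom, comp_ne_one l.2 _⟩
  have hinj : Function.Injective φ := by
    intro α β hαβ
    have h1 : l.1.comp ((α : MulAut Q) : Q ≃* Q).toMonoidHom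
        = l.1.comp ((β : MulAut Q) : Q ≃* Q).toMonoidHom := congrArg Subtype.val hαβ
    exact Subtype.ext (dual_free A hfree l.2 α.2 β.2 h1)
  have hmem : ∀ k : NT Q, Θ l = Θ k ↔ k ∈ univ.image φ := by
    intro k
    rw [hΘ l k, Finset.mem_image]
    constructor
    · intro h
      obtain ⟨β, hβ, hβk⟩ := (dualRel_equivalence A).symm h
      exact ⟨⟨β, hβ⟩, mem_univ _, Subtype.ext hβk⟩
    · rintro ⟨β, _, hβk⟩
      apply (dualRel_equivalence A).symm
      exact ⟨β, β.2, congrArg Subtype.val hβk⟩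
  unfold T
  have h2 : ∀ k : NT Q, (if Θ l = Θ k then ((k.1 z : ℂˣ) : ℂ) else 0)
      = if k ∈ univ.image φ then ((k.1 z : ℂˣ) : ℂ) else 0 := by
    intro k
    by_cases h : Θ l = Θ k
    · rw [if_pos h, if_pos ((hmem k).1 h)]
    · rw [if_neg h, if_neg (fun h' => h ((hmem k).2 h'))]
  rw [Finset.sum_congr rfl (fun k _ => h2 k), ← Finset.sum_filter, Finset.filter_mem_eq_inter,
    Finset.univ_inter, Finset.sum_image (fun a _ b _ h => hinj h)]
  rfl

/-- The cubic sum of the fibre sums. -/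
theorem sum_T_cube (hfree : ∀ α ∈ A, α ≠ 1 → ∀ z : Q, α z = z → z = 1)
    (Θ : NT Q → ι) (hΘ : ∀ l k : NT Q, Θ l = Θ k ↔ DualRel A l.1 k.1) {j x : Q}
    (hj : j * j = 1) (hx : x * x ≠ 1) :
    ∑ i, T Θ i j * T Θ i j * T Θ i x = -((Fintype.card A : ℂ) * (Fintype.card A : ℂ)) := by
  -- Step 1: collapse the sum over `i`
  have h1 : ∑ i, T Θ i j * T Θ i j * T Θ i x
      = ∑ l : NT Q, ((l.1 j : ℂˣ) : ℂ) * (T Θ (Θ l) j * T Θ (Θ l) x) := by
    have h1a : ∀ i, T Θ i j * T Θ i j * T Θ i x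
        = ∑ l : NT Q, if i = Θ l then ((l.1 j : ℂˣ) : ℂ) * (T Θ i j * T Θ i x) else 0 := by
      intro i
      have hT : T Θ i j = ∑ l : NT Q, if i = Θ l then ((l.1 j : ℂˣ) : ℂ) else 0 := rfl
      rw [mul_assoc]
      nth_rewrite 1 [hT]
      rw [Finset.sum_mul]
      refine Finset.sum_congr rfl (fun l _ => ?_)
      split_ifs <;> simp
    rw [Finset.sum_congr rfl (fun i _ => h1a i), Finset.sum_comm]
    refine Finset.sum_congr rfl (fun l _ => ?_)
    rw [Finset.sum_ite_eq' univ (Θ l)]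
    simp
  -- Step 2: orbit sums
  have h2 : ∀ l : NT Q, ((l.1 j : ℂˣ) : ℂ) * (T Θ (Θ l) j * T Θ (Θ l) x)
      = ∑ α : A, ∑ β : A,
          ((l.1 (j * (α : MulAut Q) j * (β : MulAut Q) x) : ℂˣ) : ℂ) := by
    intro l
    rw [T_theta A hfree Θ hΘ l j, T_theta A hfree Θ hΘ l x, Finset.sum_mul_sum, Finset.mul_sum]
    refine Finset.sum_congr rfl (fun α _ => ?_)
    rw [Finset.mul_sum]
    refine Finset.sum_congr rfl (fun β _ => ?_)
    rw [map_mul, map_mul, Units.val_mul, Units.val_mul]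
    ring
  rw [h1, Finset.sum_congr rfl (fun l _ => h2 l), Finset.sum_comm]
  have h3 : ∀ α : A, ∑ l : NT Q, ∑ β : A,
      ((l.1 (j * (α : MulAut Q) j * (β : MulAut Q) x) : ℂˣ) : ℂ) = -(Fintype.card A : ℂ) := by
    intro α
    rw [Finset.sum_comm]
    have h4 : ∀ β : A, ∑ l : NT Q,
        ((l.1 (j * (α : MulAut Q) j * (β : MulAut Q) x) : ℂˣ) : ℂ) = -1 := by
      intro β
      apply sum_NT_apply
      intro hw
      apply hx
      -- `β x = (j * α j)⁻¹` has square one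
      have h5 : (β : MulAut Q) x = (j * (α : MulAut Q) j)⁻¹ := eq_inv_of_mul_eq_one_right hw
      have h6 : (β : MulAut Q) (x * x) = 1 := by
        rw [map_mul, h5, ← mul_inv_rev, inv_eq_one]
        calc j * (α : MulAut Q) j * (j * (α : MulAut Q) j)
            = (j * j) * ((α : MulAut Q) j * (α : MulAut Q) j) := mul_mul_mul_comm _ _ _ _
          _ = 1 := by rw [← map_mul, hj, map_one, mul_one]
      exact (MulEquiv.injective (β : MulAut Q)) (h6.trans (map_one _).symm)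
    rw [Finset.sum_congr rfl (fun β _ => h4 β), Finset.sum_const, Finset.card_univ, nsmul_eq_mul]
    ring
  rw [Finset.sum_congr rfl (fun α _ => h3 α), Finset.sum_const, Finset.card_univ, nsmul_eq_mul]
  ring

end Orbits

end Cfsg.Agent.Helper15.ExcValues
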