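import Cfsg.Agent.Helper15.ItoCoreE
import Cfsg.Agent.Helper3.CharEq

/-!
# Feit–Thompson / Blichfeldt normal Sylow: general group-theoretic lemmas
-/

set_option autoImplicit false
set_option linter.unusedSectionVars false

namespace Cfsg.Agent.Helper15.FTBlich

open Cfsg
open scoped Pointwise

universe u

variable {G : Type u} [Group G]

theorem isPGroup_zpowers_of_pow {p k : ℕ} [hp : Fact p.Prime] {y : G} (h : y ^ (p ^ k) = 1) :
    IsPGroup p (Subgroup.zpowers y) := by
  rw [IsPGroup.iff_orderOf]
  rintro ⟨w, hw⟩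
  obtain ⟨j, rfl⟩ := Subgroup.mem_zpowers_iff.mp hw
  have h1 : (y ^ j) ^ (p ^ k) = 1 := by
    rw [← zpow_natCast, ← zpow_mul, mul_comm, zpow_mul, zpow_natCast, h, one_zpow]
  have h2 : (⟨y ^ j, hw⟩ : Subgroup.zpowers y) ^ (p ^ k) = 1 := by
    apply Subtype.ext
    simpa using h1
  obtain ⟨i, _, hi⟩ := (Nat.dvd_prime_pow hp.out).mp (orderOf_dvd_of_pow_eq_one h2)
  exact ⟨i, hi⟩

/-- A subgroup containing the kernel of a homomorphism to a commutative group is normal. -/
theorem normal_of_ker_le {A : Type*} [CommGroup A] (f : G →* A) (M : Subgroup G)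
    (h : f.ker ≤ M) : M.Normal := by
  have h1 : (M.map f).comap f = M := by
    rw [Subgroup.comap_map_eq, sup_eq_left.mpr h]
  rw [← h1]
  exact Subgroup.Normal.comap (Subgroup.normal_of_isMulCommutative _) f

/-- A subgroup containing the commutator subgroup is normal. -/
theorem normal_of_commutator_le (M : Subgroup G) (h : commutator G ≤ M) : M.Normal := by
  apply normal_of_ker_le (Abelianization.of (G := G)) M
  rw [Abelianization.ker_of]
  exact h

theorem map_conj_eq_smul {p : ℕ} (P : Sylow p G) (a : G) :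
    (P : Subgroup G).map (MulAut.conj a).toMonoidHom = ((a • P : Sylow p G) : Subgroup G) := rfl

theorem mem_smul_sylow_iff {p : ℕ} (P : Sylow p G) (a x : G) :
    x ∈ ((a • P : Sylow p G) : Subgroup G) ↔ a⁻¹ * x * a ∈ (P : Subgroup G) := by
  rw [← map_conj_eq_smul]
  constructor
  · rintro ⟨y, hy, rfl⟩
    have e : a⁻¹ * (MulAut.conj a).toMonoidHom y * a = y := by
      simp [MulAut.conj_apply, mul_assoc]
    rw [e]
    exact hy
  · intro h
    exact ⟨a⁻¹ * x * a, h, by simp [MulAut.conj_apply, mul_assoc]⟩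

variable [Finite G]

/-- A normal Hall subgroup of a normal subgroup is normal in the whole group. -/
theorem hall_map_normal (K : Subgroup G) [hK : K.Normal] (T₀ : Subgroup K) [hT : T₀.Normal]
    (hcop : Nat.Coprime (Nat.card T₀) T₀.index) : (T₀.map K.subtype).Normal := by
  have hchar : T₀.Characteristic := by
    rw [Subgroup.characteristic_iff_map_le]
    intro φ
    rintro _ ⟨t, ht, rfl⟩
    show φ t ∈ T₀
    rw [← QuotientGroup.eq_one_iff, ← orderOf_eq_one_iff]
    have h1 : orderOf ((φ t : K) : K ⧸ T₀) ∣ Nat.card T₀ := by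
      have e1 : orderOf ((φ t : K) : K ⧸ T₀) ∣ orderOf (φ t) :=
        orderOf_map_dvd (QuotientGroup.mk' T₀) (φ t)
      have e2 : orderOf (φ t) = orderOf t := MulEquiv.orderOf_eq φ t
      rw [e2] at e1
      exact e1.trans (Subgroup.orderOf_dvd_natCard _ ht)
    have h2 : orderOf ((φ t : K) : K ⧸ T₀) ∣ T₀.index := by
      rw [Subgroup.index_eq_card]
      exact orderOf_dvd_natCard _
    exact Nat.eq_one_of_dvd_coprimes hcop h1 h2
  exact ConjAct.normal_of_characteristic_of_normal

/-- If `P ⊔ T = ⊤` for a normal subgroup `T` and the Sylow subgroup `P` is not normal, then `P`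
does not centralize `T`. -/
theorem exists_not_centralize {p : ℕ} [Fact p.Prime] (P : Sylow p G)
    (hP : ¬ (P : Subgroup G).Normal) (T : Subgroup G) (hPT : (P : Subgroup G) ⊔ T = ⊤) :
    ∃ x ∈ (P : Subgroup G), ∃ t ∈ T, x * t * x⁻¹ ≠ t := by
  by_contra hcon
  push Not at hcon
  apply hP
  rw [← Subgroup.normalizer_eq_top_iff, eq_top_iff, ← hPT]
  apply sup_le Subgroup.le_normalizer
  refine le_trans ?_ (Subgroup.centralizer_le_normalizer _)
  intro t ht
  rw [Subgroup.mem_centralizer_iff]
  intro x hx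
  have := hcon x hx t ht
  calc x * t = x * t * x⁻¹ * x := by group
    _ = t * x := by rw [this]

/-- Transport of the "small subgroups are `p`-closed" hypothesis to a subgroup. -/
theorem hypB_subgroup {p : ℕ} [Fact p.Prime] (H : Subgroup G)
    (hB : ∀ K : Subgroup G, ¬ p ^ 2 ∣ Nat.card K → ∀ Q : Sylow p K, (Q : Subgroup K).Normal) :
    ∀ K : Subgroup H, ¬ p ^ 2 ∣ Nat.card K → ∀ Q : Sylow p K, (Q : Subgroup K).Normal := by
  intro K hK Q
  let e : K ≃* K.map H.subtype := K.equivMapOfInjective H.subtype H.subtype_injective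
  have hcard : Nat.card (K.map H.subtype) = Nat.card K := (Nat.card_congr e.toEquiv).symm
  have hK' : ¬ p ^ 2 ∣ Nat.card (K.map H.subtype) := by rw [hcard]; exact hK
  let Q' : Sylow p (K.map H.subtype) := Q.mapSurjective (f := e.toMonoidHom) e.surjective
  have hQ' : (Q' : Subgroup (K.map H.subtype)).Normal := hB _ hK' Q'
  have hcoe : (Q' : Subgroup (K.map H.subtype)) = (Q : Subgroup K).map e.toMonoidHom := rfl
  have h1 : ((Q : Subgroup K).map e.toMonoidHom).comap e.toMonoidHom = (Q : Subgroup K) :=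
    Subgroup.comap_map_eq_self_of_injective e.injective _
  rw [← h1]
  rw [hcoe] at hQ'
  exact Subgroup.Normal.comap hQ' _

/-- The character of a faithful representation is faithful. -/
theorem faithful_of_injective {n : ℕ} (ρ : Representation ℂ G (Fin n → ℂ))
    (hρ : Function.Injective ρ) (g : G) (h : ρ.character g = ρ.character 1) : g = 1 := by
  rw [Representation.char_one] at h
  have h1 := (Helper3.char_eq_finrank_iff ρ g (isOfFinOrder_of_finite g)).mp h
  apply hρ
  rw [h1, map_one]
  rfl

end Cfsg.Agent.Helper15.FTBlich
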