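import Cfsg.Agent.Helper15.FTBlichA
import Cfsg.Agent.S0898

/-!
# Feit–Thompson / Blichfeldt normal Sylow: the minimal counterexample
-/

set_option autoImplicit false
set_option linter.unusedSectionVars false

namespace Cfsg.Agent.Helper15.FTBlich

open Cfsg
open Cfsg.Agent.Helper15.ItoCore
open scoped Pointwise
open scoped IsMulCommutative

universe u

section
variable {G : Type u} [Group G] [Finite G] {p : ℕ} [hp : Fact p.Prime]

/-- In a `p`-closed proper subgroup every `p`-element lies in the Sylow subgroup. -/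
theorem mem_of_pElement
    (hIH : ∀ H : Subgroup G, H ≠ ⊤ → ∀ S : Sylow p H, (S : Subgroup H).Normal)
    {H : Subgroup G} (hH : H ≠ ⊤) (S : Sylow p H) {y : G} (hyH : y ∈ H) {k : ℕ}
    (hy : y ^ (p ^ k) = 1) : (⟨y, hyH⟩ : H) ∈ S := by
  have hS := hIH H hH S
  have huniq := Sylow.unique_of_normal S hS
  have hy' : (⟨y, hyH⟩ : H) ^ (p ^ k) = 1 := by
    apply Subtype.ext
    simpa using hy
  obtain ⟨S', hS'⟩ := (isPGroup_zpowers_of_pow hy').exists_le_sylow
  have : S' = S := Subsingleton.elim _ _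
  rw [← this]
  exact hS' (Subgroup.mem_zpowers _)

theorem mem_sylow_of_le
    (hIH : ∀ H : Subgroup G, H ≠ ⊤ → ∀ S : Sylow p H, (S : Subgroup H).Normal)
    {H : Subgroup G} (hH : H ≠ ⊤) (P' : Sylow p G) (hle : (P' : Subgroup G) ≤ H) {y : G}
    (hyH : y ∈ H) {k : ℕ} (hy : y ^ (p ^ k) = 1) : y ∈ (P' : Subgroup G) := by
  have h2 : (⟨y, hyH⟩ : H) ∈ ((P'.subtype hle : Sylow p H) : Subgroup H) :=
    mem_of_pElement hIH hH (P'.subtype hle) hyH hy
  rw [Sylow.coe_subtype, Subgroup.mem_subgroupOf] at h2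
  exact h2

theorem commute_pElements {χ : G → ℂ} (hχ : IsCharacter G χ)
    (hfaith : ∀ g : G, χ g = χ 1 → g = 1) (hlt : charDegree χ < p)
    (hIH : ∀ H : Subgroup G, H ≠ ⊤ → ∀ S : Sylow p H, (S : Subgroup H).Normal)
    {H : Subgroup G} (hH : H ≠ ⊤) {u v : G} (huH : u ∈ H) (hvH : v ∈ H) {k l : ℕ}
    (hu : u ^ (p ^ k) = 1) (hv : v ^ (p ^ l) = 1) : u * v = v * u := by
  obtain ⟨S⟩ : Nonempty (Sylow p H) := inferInstance
  have h1 := mem_of_pElement hIH hH S huH hu
  have h2 := mem_of_pElement hIH hH S hvH hv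
  have hab := abelian_of_faithful_small hχ hfaith hlt ((S : Subgroup H).map H.subtype)
    (S.2.map H.subtype)
  exact hab u ⟨⟨u, huH⟩, h1, rfl⟩ v ⟨⟨v, hvH⟩, h2, rfl⟩

/-- No proper normal subgroup contains `P`. -/
theorem eq_top_of_normal_ge
    (hIH : ∀ H : Subgroup G, H ≠ ⊤ → ∀ S : Sylow p H, (S : Subgroup H).Normal)
    (P : Sylow p G) (hP : ¬ (P : Subgroup G).Normal) (M : Subgroup G) (hM : M.Normal)
    (hPM : (P : Subgroup G) ≤ M) : M = ⊤ := by
  by_contra hne
  apply hP
  have hS := hIH M hne (P.subtype hPM)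
  apply sylow_normal_of_normal_le P M hPM
  apply Helper48.mem_normalizer_of_forall_conj_mem
  intro a ha x hx
  have hxS : (⟨x, hPM hx⟩ : M) ∈ (P.subtype hPM : Subgroup M) := by
    rw [Sylow.coe_subtype, Subgroup.mem_subgroupOf]
    exact hx
  have := hS.conj_mem _ hxS ⟨a, ha⟩
  rw [Sylow.coe_subtype, Subgroup.mem_subgroupOf] at this
  simpa using this

theorem endgame_contra {χ : G → ℂ} (hχ : IsCharacter G χ)
    (hfaith : ∀ g : G, χ g = χ 1 → g = 1) (hlt : charDegree χ + 1 < p)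
    (P : Sylow p G) (hP : ¬ (P : Subgroup G).Normal) (T : Subgroup G) [T.Normal]
    (hpT : ¬ p ∣ Nat.card T) (hPT : (P : Subgroup G) ⊔ T = ⊤) : False := by
  obtain ⟨x, hx, t, ht, hne⟩ := exists_not_centralize P hP T hPT
  obtain ⟨a, ha⟩ := P.2 ⟨x, hx⟩
  have hxa : x ^ (p ^ a) = 1 := by
    have := congrArg Subtype.val ha
    simpa using this
  have := (ito_endgame hχ hfaith (by omega) T hpT x hxa ⟨t, ht, hne⟩).1
  omega

/-- Case I: a non-trivial central `p`-element. -/
theorem caseI {χ : G → ℂ} (hχ : IsCharacter G χ)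
    (hfaith : ∀ g : G, χ g = χ 1 → g = 1) (hlt : charDegree χ + 1 < p)
    (hIH : ∀ H : Subgroup G, H ≠ ⊤ → ∀ S : Sylow p H, (S : Subgroup H).Normal)
    (P : Sylow p G) (hP : ¬ (P : Subgroup G).Normal) {z : G} (hzP : z ∈ (P : Subgroup G))
    (hzZ : z ∈ Subgroup.center G) (hz1 : z ≠ 1) : False := by
  have hPab := abelian_of_faithful_small hχ hfaith (by omega) P P.2
  have hcommP : IsMulCommutative ↥(P : Subgroup G) :=
    ⟨⟨fun a b => Subtype.ext (hPab a a.2 b b.2)⟩⟩
  let V : G →* ↥(P : Subgroup G) := MonoidHom.transfer (MonoidHom.id ↥(P : Subgroup G))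
  have key : ∀ (k : ℕ) (g₀ : G), g₀⁻¹ * z ^ k * g₀ ∈ (P : Subgroup G) →
      g₀⁻¹ * z ^ k * g₀ = z ^ k := by
    intro k g₀ _
    have hc : z ^ k ∈ Subgroup.center G := Subgroup.pow_mem _ hzZ k
    rw [mul_assoc, ← Subgroup.mem_center_iff.mp hc g₀, inv_mul_cancel_left]
  have hVz : V z = ⟨z ^ (P : Subgroup G).index, MonoidHom.transfer_eq_pow_aux z key⟩ :=
    MonoidHom.transfer_eq_pow (MonoidHom.id _) z key
  have hVz1 : V z ≠ 1 := by
    intro h
    rw [hVz] at h
    have h2 : z ^ (P : Subgroup G).index = 1 := congrArg Subtype.val h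
    obtain ⟨j, hj⟩ := P.2 ⟨z, hzP⟩
    have hj' : z ^ (p ^ j) = 1 := by
      have := congrArg Subtype.val hj
      simpa using this
    have h3 : orderOf z ∣ (P : Subgroup G).index := orderOf_dvd_of_pow_eq_one h2
    have h4 : orderOf z ∣ p ^ j := orderOf_dvd_of_pow_eq_one hj'
    have hcop : Nat.Coprime (P : Subgroup G).index (p ^ j) :=
      Nat.Coprime.pow_right _ ((Nat.Prime.coprime_iff_not_dvd hp.out).mpr P.not_dvd_index).symm
    have h5 := Nat.eq_one_of_dvd_coprimes hcop h3 h4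
    exact hz1 (orderOf_eq_one_iff.mp h5)
  have hKn : V.ker.Normal := MonoidHom.normal_ker V
  have hKtop : V.ker ≠ ⊤ := by
    intro h
    apply hVz1
    have : z ∈ V.ker := by rw [h]; trivial
    exact this
  have hPK : (P : Subgroup G) ⊔ V.ker = ⊤ :=
    eq_top_of_normal_ge hIH P hP _ (normal_of_ker_le V _ le_sup_right) le_sup_left
  obtain ⟨S₀⟩ : Nonempty (Sylow p V.ker) := inferInstance
  have hS₀n : (S₀ : Subgroup V.ker).Normal := hIH V.ker hKtop S₀
  have hS₀c : (S₀ : Subgroup V.ker).Characteristic := Sylow.characteristic_of_normal S₀ hS₀n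
  have hSn : ((S₀ : Subgroup V.ker).map V.ker.subtype).Normal :=
    ConjAct.normal_of_characteristic_of_normal
  have hSp : IsPGroup p ((S₀ : Subgroup V.ker).map V.ker.subtype) := S₀.2.map V.ker.subtype
  have hSP : (S₀ : Subgroup V.ker).map V.ker.subtype ≤ P :=
    hSp.le_sylow_of_normal P
  have hCS : Subgroup.centralizer (((S₀ : Subgroup V.ker).map V.ker.subtype : Subgroup G) : Set G)
      = ⊤ := by
    apply eq_top_of_normal_ge hIH P hP
    · exact Subgroup.normal_centralizer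
    · intro x hx
      rw [Subgroup.mem_centralizer_iff]
      intro y hy
      exact hPab y (hSP hy) x hx
  have hNC : Subgroup.normalizer ((S₀ : Subgroup V.ker) : Set V.ker) ≤
      Subgroup.centralizer ((S₀ : Subgroup V.ker) : Set V.ker) := by
    intro k _
    rw [Subgroup.mem_centralizer_iff]
    intro y hy
    have hyS : (y : G) ∈ (S₀ : Subgroup V.ker).map V.ker.subtype := ⟨y, hy, rfl⟩
    have hk : (k : G) ∈ Subgroup.centralizer
        (((S₀ : Subgroup V.ker).map V.ker.subtype : Subgroup G) : Set G) := by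
      rw [hCS]; trivial
    have h2 := Subgroup.mem_centralizer_iff.mp hk (y : G) hyS
    exact Subtype.ext h2
  have hcompl : Subgroup.IsComplement' (MonoidHom.transferSylow S₀ hNC).ker S₀ :=
    MonoidHom.ker_transferSylow_isComplement' S₀ hNC
  have hT₀n : (MonoidHom.transferSylow S₀ hNC).ker.Normal := MonoidHom.normal_ker _
  have hidx : (MonoidHom.transferSylow S₀ hNC).ker.index = Nat.card S₀ :=
    hcompl.symm.index_eq_card
  have hT₀p : ¬ p ∣ Nat.card (MonoidHom.transferSylow S₀ hNC).ker := by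
    have := S₀.not_dvd_index
    have h2 : (S₀ : Subgroup V.ker).index = Nat.card (MonoidHom.transferSylow S₀ hNC).ker :=
      hcompl.index_eq_card
    rwa [h2] at this
  have hcop : Nat.Coprime (Nat.card (MonoidHom.transferSylow S₀ hNC).ker)
      (MonoidHom.transferSylow S₀ hNC).ker.index := by
    rw [hidx]
    obtain ⟨m, hm⟩ := IsPGroup.iff_card.mp S₀.2
    rw [hm]
    exact Nat.Coprime.pow_right _ ((Nat.Prime.coprime_iff_not_dvd hp.out).mpr hT₀p).symm
  have hTn : ((MonoidHom.transferSylow S₀ hNC).ker.map V.ker.subtype).Normal :=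
    hall_map_normal V.ker _ hcop
  have hTcard : Nat.card ((MonoidHom.transferSylow S₀ hNC).ker.map V.ker.subtype) =
      Nat.card (MonoidHom.transferSylow S₀ hNC).ker :=
    Subgroup.card_map_of_injective V.ker.subtype_injective
  have hKST : V.ker ≤ (S₀ : Subgroup V.ker).map V.ker.subtype ⊔
      (MonoidHom.transferSylow S₀ hNC).ker.map V.ker.subtype := by
    have h1 : (MonoidHom.transferSylow S₀ hNC).ker ⊔ (S₀ : Subgroup V.ker) = ⊤ :=
      hcompl.sup_eq_top
    have h2 : ((MonoidHom.transferSylow S₀ hNC).ker ⊔ (S₀ : Subgroup V.ker)).map V.ker.subtype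
        = V.ker := by
      rw [h1, ← MonoidHom.range_eq_map, Subgroup.range_subtype]
    rw [Subgroup.map_sup] at h2
    rw [sup_comm]
    exact le_of_eq h2.symm
  have hPT : (P : Subgroup G) ⊔ (MonoidHom.transferSylow S₀ hNC).ker.map V.ker.subtype = ⊤ := by
    rw [eq_top_iff, ← hPK]
    apply sup_le le_sup_left
    exact le_trans hKST (sup_le (le_trans hSP le_sup_left) le_sup_right)
  exact endgame_contra hχ hfaith hlt P hP _ (by rw [hTcard]; exact hT₀p) hPT

/-- The "at most one conjugate" hypothesis of the Feit–Thompson degree bound. -/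
theorem hone_aux {χ : G → ℂ} (hχ : IsCharacter G χ)
    (hfaith : ∀ g : G, χ g = χ 1 → g = 1) (hlt : charDegree χ < p)
    (hIH : ∀ H : Subgroup G, H ≠ ⊤ → ∀ S : Sylow p H, (S : Subgroup H).Normal)
    (hZall : ∀ P' : Sylow p G, (P' : Subgroup G) ⊓ Subgroup.center G = ⊥)
    (P₁ P₂ : Sylow p G) {g u v : G} (hg : g ∉ Subgroup.center G)
    (hu : u ∈ Subgroup.centralizer ({g} : Set G)) (huP : u ∈ (P₁ : Subgroup G)) (hu1 : u ≠ 1)
    (hv : v ∈ Subgroup.centralizer ({g} : Set G)) (hvP : v ∈ (P₂ : Subgroup G)) (hv1 : v ≠ 1) :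
    (P₁ : Subgroup G) = P₂ := by
  have hcen_ne : ∀ w : G, w ∉ Subgroup.center G → Subgroup.centralizer ({w} : Set G) ≠ ⊤ := by
    intro w hw htop
    apply hw
    rw [Subgroup.mem_center_iff]
    intro y
    have : y ∈ Subgroup.centralizer ({w} : Set G) := by rw [htop]; trivial
    exact (Subgroup.mem_centralizer_iff.mp this w rfl).symm
  have hnc : ∀ (P' : Sylow p G) (w : G), w ∈ (P' : Subgroup G) → w ≠ 1 →
      w ∉ Subgroup.center G := by
    intro P' w hw hw1 hwZ
    have : w ∈ (P' : Subgroup G) ⊓ Subgroup.center G := ⟨hw, hwZ⟩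
    rw [hZall P', Subgroup.mem_bot] at this
    exact hw1 this
  have hab₁ := abelian_of_faithful_small hχ hfaith hlt P₁ P₁.2
  have hab₂ := abelian_of_faithful_small hχ hfaith hlt P₂ P₂.2
  have hpow : ∀ (P' : Sylow p G) (w : G), w ∈ (P' : Subgroup G) → ∃ k : ℕ, w ^ (p ^ k) = 1 := by
    intro P' w hw
    obtain ⟨k, hk⟩ := P'.2 ⟨w, hw⟩
    refine ⟨k, ?_⟩
    have := congrArg Subtype.val hk
    simpa using this
  obtain ⟨k, hk⟩ := hpow P₁ u huP
  obtain ⟨l, hl⟩ := hpow P₂ v hvP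
  have huv : u * v = v * u := commute_pElements hχ hfaith hlt hIH (hcen_ne g hg) hu hv hk hl
  -- `v ∈ P₁`
  have hCu := hcen_ne u (hnc P₁ u huP hu1)
  have hP₁Cu : (P₁ : Subgroup G) ≤ Subgroup.centralizer ({u} : Set G) := by
    intro y hy
    rw [Subgroup.mem_centralizer_iff]
    intro w hw
    rw [Set.mem_singleton_iff] at hw
    subst hw
    exact hab₁ w huP y hy
  have hvCu : v ∈ Subgroup.centralizer ({u} : Set G) := by
    rw [Subgroup.mem_centralizer_iff]
    intro w hw
    rw [Set.mem_singleton_iff] at hw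
    subst hw
    exact huv
  have hvP₁ : v ∈ (P₁ : Subgroup G) := mem_sylow_of_le hIH hCu P₁ hP₁Cu hvCu hl
  -- both Sylow subgroups lie in `C(v)`
  have hCv := hcen_ne v (hnc P₂ v hvP hv1)
  have hP₁Cv : (P₁ : Subgroup G) ≤ Subgroup.centralizer ({v} : Set G) := by
    intro y hy
    rw [Subgroup.mem_centralizer_iff]
    intro w hw
    rw [Set.mem_singleton_iff] at hw
    subst hw
    exact hab₁ w hvP₁ y hy
  have hP₂Cv : (P₂ : Subgroup G) ≤ Subgroup.centralizer ({v} : Set G) := by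
    intro y hy
    rw [Subgroup.mem_centralizer_iff]
    intro w hw
    rw [Set.mem_singleton_iff] at hw
    subst hw
    exact hab₂ w hvP y hy
  have hle : (P₂ : Subgroup G) ≤ P₁ := by
    intro y hy
    obtain ⟨m, hm⟩ := hpow P₂ y hy
    exact mem_sylow_of_le hIH hCv P₁ hP₁Cv (hP₂Cv hy) hm
  exact P₂.is_maximal' P₁.2 hle

end

end Cfsg.Agent.Helper15.FTBlich
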