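import Cfsg.Agent.Helper15.FTBlichB

/-!
# Feit–Thompson / Blichfeldt normal Sylow: case II and the main induction
-/

set_option autoImplicit false
set_option linter.unusedSectionVars false

namespace Cfsg.Agent.Helper15.FTBlich

open Cfsg
open Cfsg.Agent.Helper15.ItoCore
open scoped Pointwise
open scoped commutatorElement

universe u

section
variable {G : Type u} [Group G] [Finite G] {p : ℕ} [hp : Fact p.Prime]

/-- A linear character is trivial on the commutator subgroup. -/
theorem linChar_eq_one_of_mem_commutator {lam : G → ℂ} (h : IsCharacter G lam) (h1 : lam 1 = 1)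
    {g : G} (hg : g ∈ commutator G) : lam g = 1 := by
  have hle : commutator G ≤ Helper80.kerChar lam h := by
    rw [commutator_def, Subgroup.commutator_le]
    intro a _ b _
    rw [Helper80.mem_kerChar, h1]
    exact linChar_commutator h h1 a b
  have := (Helper80.mem_kerChar h g).mp (hle hg)
  rw [this, h1]

/-- Case II: `P ∩ Z(G) = 1`. -/
theorem caseII {χ : G → ℂ} (hχ : IsCharacter G χ)
    (hfaith : ∀ g : G, χ g = χ 1 → g = 1) (hlt : charDegree χ + 1 < p)
    (hIH : ∀ H : Subgroup G, H ≠ ⊤ → ∀ S : Sylow p H, (S : Subgroup H).Normal)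
    (P : Sylow p G) (hP : ¬ (P : Subgroup G).Normal)
    (hZ : (P : Subgroup G) ⊓ Subgroup.center G = ⊥)
    (hbig : (charDegree χ + 1) ^ 2 ≤ Nat.card (P : Subgroup G)) : False := by
  classical
  have : Fintype G := Fintype.ofFinite G
  let _ := Helper74.irrFintype G
  have hPab := abelian_of_faithful_small hχ hfaith (by omega) P P.2
  -- all Sylow subgroups meet the centre trivially
  have hZall : ∀ P' : Sylow p G, (P' : Subgroup G) ⊓ Subgroup.center G = ⊥ := by
    intro P'
    obtain ⟨a, rfl⟩ := MulAction.exists_smul_eq G P P'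
    rw [eq_bot_iff]
    intro x hx
    obtain ⟨hx1, hx2⟩ := Subgroup.mem_inf.mp hx
    rw [mem_smul_sylow_iff] at hx1
    have hxc : a⁻¹ * x * a = x := by
      rw [mul_assoc, ← Subgroup.mem_center_iff.mp hx2 a, inv_mul_cancel_left]
    rw [hxc] at hx1
    have : x ∈ (P : Subgroup G) ⊓ Subgroup.center G := ⟨hx1, hx2⟩
    rwa [hZ] at this
  have hsum := Helper80.eq_sum_mult χ hχ
  have hdegsum := Helper80.charDegree_eq_sum_mult χ hχ
  by_cases hex : ∃ ψ : IrrCharacter G, Helper80.mult χ hχ ψ ≠ 0 ∧ (ψ : G → ℂ) 1 ≠ 1 ∧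
      ∃ h ∈ (P : Subgroup G), (ψ : G → ℂ) h ≠ (ψ : G → ℂ) 1
  · -- a non-linear constituent non-trivial on `P`
    obtain ⟨ψ, hψm, hψ1, hψP⟩ := hex
    have hone : ∀ g : G, g ∉ Subgroup.center G → ∀ a b : G,
        Subgroup.centralizer ({g} : Set G) ⊓ (P : Subgroup G).map (MulAut.conj a).toMonoidHom ≠ ⊥ →
        Subgroup.centralizer ({g} : Set G) ⊓ (P : Subgroup G).map (MulAut.conj b).toMonoidHom ≠ ⊥ →
        (P : Subgroup G).map (MulAut.conj a).toMonoidHom =
          (P : Subgroup G).map (MulAut.conj b).toMonoidHom := by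
      intro g hg a b h1 h2
      rw [map_conj_eq_smul] at h1 h2 ⊢
      rw [map_conj_eq_smul]
      obtain ⟨⟨u, hu⟩, hu1⟩ := (Subgroup.ne_bot_iff_exists_ne_one).mp h1
      obtain ⟨⟨v, hv⟩, hv1⟩ := (Subgroup.ne_bot_iff_exists_ne_one).mp h2
      have hu1' : u ≠ 1 := fun h => hu1 (Subtype.ext h)
      have hv1' : v ≠ 1 := fun h => hv1 (Subtype.ext h)
      obtain ⟨hua, hub⟩ := Subgroup.mem_inf.mp hu
      obtain ⟨hva, hvb⟩ := Subgroup.mem_inf.mp hv
      exact hone_aux hχ hfaith (by omega) hIH hZall (a • P) (b • P) hg hua hub hu1' hva hvb hv1'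
    have hres := (Cfsg.Agent.S0898.result (P : Subgroup G) hPab hZ hone (ψ : G → ℂ) ψ.2 hψP).2 hψ1
      (fun M hM hle => eq_top_of_normal_ge hIH P hP M hM hle)
    have hd := Helper80.IsCharacter.charDegree_cast (Helper74.isCharacter_of_isIrr ψ.2)
    have hdle : charDegree (ψ : G → ℂ) ≤ charDegree χ := by
      rw [hdegsum]
      calc charDegree (ψ : G → ℂ) ≤ Helper80.mult χ hχ ψ * charDegree (ψ : G → ℂ) :=
            Nat.le_mul_of_pos_left _ (Nat.pos_of_ne_zero hψm)
        _ ≤ ∑ φ : IrrCharacter G, Helper80.mult χ hχ φ * charDegree (φ : G → ℂ) :=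
            Finset.single_le_sum (f := fun φ : IrrCharacter G =>
              Helper80.mult χ hχ φ * charDegree (φ : G → ℂ)) (fun _ _ => Nat.zero_le _)
              (Finset.mem_univ ψ)
    have hre : ((ψ : G → ℂ) 1).re = (charDegree (ψ : G → ℂ) : ℝ) := by
      rw [← hd]; simp
    rw [hre] at hres
    have h1 : ((1 : ℝ) + (charDegree (ψ : G → ℂ) : ℝ)) ^ 2 ≤ ((charDegree χ + 1 : ℕ) : ℝ) ^ 2 := by
      have : ((charDegree (ψ : G → ℂ) : ℝ)) ≤ (charDegree χ : ℝ) := by exact_mod_cast hdle
      push_cast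
      nlinarith [Nat.cast_nonneg (α := ℝ) (charDegree (ψ : G → ℂ))]
    have h2 : (((charDegree χ + 1) ^ 2 : ℕ) : ℝ) ≤ (Nat.card (P : Subgroup G) : ℝ) := by
      exact_mod_cast hbig
    push_cast at h2
    push_cast at h1
    linarith
  · -- all non-linear constituents are trivial on `P`
    push Not at hex
    have hPcomm : (P : Subgroup G) ⊓ commutator G = ⊥ := by
      rw [eq_bot_iff]
      intro g hg
      obtain ⟨hg1, hg2⟩ := Subgroup.mem_inf.mp hg
      rw [Subgroup.mem_bot]
      apply hfaith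
      have e1 := congrFun hsum g
      have e2 := congrFun hsum 1
      rw [e1, e2]
      simp only [Finset.sum_apply, Pi.smul_apply, smul_eq_mul]
      refine Finset.sum_congr rfl fun ψ _ => ?_
      by_cases hψ : Helper80.mult χ hχ ψ = 0
      · rw [hψ]; simp
      · by_cases hψ1 : (ψ : G → ℂ) 1 = 1
        · rw [linChar_eq_one_of_mem_commutator (Helper74.isCharacter_of_isIrr ψ.2) hψ1 hg2, hψ1]
        · rw [hex ψ hψ hψ1 g hg1]
    have hTn : (commutator G).Normal := by
      rw [commutator_def]; infer_instance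
    have hpT : ¬ p ∣ Nat.card (commutator G) := by
      intro hdvd
      obtain ⟨y, hy⟩ := exists_prime_orderOf_dvd_card' (G := commutator G) p hdvd
      have hy1 : (y : G) ^ (p ^ 1) = 1 := by
        have := pow_orderOf_eq_one y
        rw [hy] at this
        have h2 := congrArg Subtype.val this
        simpa using h2
      obtain ⟨P', hP'⟩ := (isPGroup_zpowers_of_pow hy1).exists_le_sylow
      obtain ⟨a, rfl⟩ := MulAction.exists_smul_eq G P P'
      have h1 : (y : G) ∈ ((a • P : Sylow p G) : Subgroup G) := hP' (Subgroup.mem_zpowers _)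
      rw [mem_smul_sylow_iff] at h1
      have h2 : a⁻¹ * (y : G) * a ∈ commutator G := by
        have := hTn.conj_mem _ y.2 a⁻¹
        simpa using this
      have h3 : a⁻¹ * (y : G) * a ∈ (P : Subgroup G) ⊓ commutator G := ⟨h1, h2⟩
      rw [hPcomm, Subgroup.mem_bot] at h3
      have h4 : (y : G) = 1 := by
        have : (y : G) = a * (a⁻¹ * (y : G) * a) * a⁻¹ := by group
        rw [this, h3]; group
      have h5 : y = 1 := Subtype.ext h4
      rw [h5, orderOf_one] at hy
      exact hp.out.one_lt.ne hy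
    have hPT : (P : Subgroup G) ⊔ commutator G = ⊤ :=
      eq_top_of_normal_ge hIH P hP _ (normal_of_commutator_le _ le_sup_right) le_sup_left
    exact endgame_contra hχ hfaith hlt P hP (commutator G) hpT hPT

/-- The main theorem in character form. -/
theorem ft_main (n : ℕ) :
    ∀ (N : ℕ) (G : Type u) [Group G] [Finite G], Nat.card G = N →
      ∀ χ : G → ℂ, IsCharacter G χ → (∀ g, χ g = χ 1 → g = 1) → charDegree χ = n →
      ((n + 1) ^ 2 ≤ p ∨ (n + 1 < p ∧ ∀ K : Subgroup G, ¬ p ^ 2 ∣ Nat.card K →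
        ∀ Q : Sylow p K, (Q : Subgroup K).Normal)) →
      ∀ P : Sylow p G, (P : Subgroup G).Normal := by
  intro N
  induction N using Nat.strong_induction_on with
  | _ N IH =>
  intro G _ _ hcard χ hχ hfaith hdeg hyp P
  by_contra hP
  have hlt : n + 1 < p := by
    rcases hyp with h | h
    · have := hp.out.two_le
      nlinarith
    · exact h.1
  have hIH : ∀ H : Subgroup G, H ≠ ⊤ → ∀ S : Sylow p H, (S : Subgroup H).Normal := by
    intro H hH S
    have hHcard : Nat.card H < N := by
      rw [← hcard]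
      by_contra hcon
      push Not at hcon
      apply hH
      exact Subgroup.eq_top_of_card_eq _ (le_antisymm (Subgroup.card_le_card_group H) hcon)
    refine IH (Nat.card H) hHcard H rfl (fun h : H => χ h) (Helper74.isCharacter_restrict H hχ)
      (fun g hg => Subtype.ext (hfaith g hg)) hdeg ?_ S
    rcases hyp with h | h
    · exact Or.inl h
    · exact Or.inr ⟨h.1, hypB_subgroup H h.2⟩
  have hPne : (P : Subgroup G) ≠ ⊥ := by
    intro h
    apply hP
    rw [h]
    infer_instance
  have hbig : (charDegree χ + 1) ^ 2 ≤ Nat.card (P : Subgroup G) := by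
    rw [hdeg]
    have hcardP := P.card_eq_multiplicity
    rcases hyp with h | h
    · have hk : (Nat.card G).factorization p ≠ 0 := by
        intro h0
        rw [h0, pow_zero] at hcardP
        exact hPne (Subgroup.card_eq_one.mp hcardP)
      calc (n + 1) ^ 2 ≤ p := h
        _ = p ^ 1 := (pow_one p).symm
        _ ≤ p ^ (Nat.card G).factorization p :=
            Nat.pow_le_pow_right hp.out.pos (Nat.one_le_iff_ne_zero.mpr hk)
        _ = Nat.card (P : Subgroup G) := hcardP.symm
    · have hp2 : p ^ 2 ∣ Nat.card G := by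
        by_contra hnd
        apply hP
        have h1 : ¬ p ^ 2 ∣ Nat.card (⊤ : Subgroup G) := by rwa [Subgroup.card_top]
        have h2 := h.2 ⊤ h1 (P.subtype le_top)
        refine ⟨fun x hx g => ?_⟩
        have hxS : (⟨x, Subgroup.mem_top x⟩ : (⊤ : Subgroup G)) ∈
            ((P.subtype le_top : Sylow p (⊤ : Subgroup G)) : Subgroup (⊤ : Subgroup G)) := by
          rw [Sylow.coe_subtype, Subgroup.mem_subgroupOf]
          exact hx
        have := h2.conj_mem _ hxS ⟨g, Subgroup.mem_top g⟩
        rw [Sylow.coe_subtype, Subgroup.mem_subgroupOf] at this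
        simpa using this
      have hk2 : 2 ≤ (Nat.card G).factorization p :=
        (hp.out.pow_dvd_iff_le_factorization Nat.card_pos.ne').mp hp2
      calc (n + 1) ^ 2 ≤ p ^ 2 := Nat.pow_le_pow_left (by omega) 2
        _ ≤ p ^ (Nat.card G).factorization p := Nat.pow_le_pow_right hp.out.pos hk2
        _ = Nat.card (P : Subgroup G) := hcardP.symm
  by_cases hZ : (P : Subgroup G) ⊓ Subgroup.center G = ⊥
  · exact caseII hχ hfaith (by omega) hIH P hP hZ hbig
  · obtain ⟨⟨z, hz⟩, hz1⟩ := (Subgroup.ne_bot_iff_exists_ne_one).mp hZ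
    have hz1' : z ≠ 1 := fun h => hz1 (Subtype.ext h)
    obtain ⟨hza, hzb⟩ := Subgroup.mem_inf.mp hz
    exact caseI hχ hfaith (by omega) hIH P hP hza hzb hz1'

end

end Cfsg.Agent.Helper15.FTBlich
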