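import Mathlib

/-!
# The arithmetic in Brauer's theorem on Sylow 2-subgroups `Z_{2^m} × Z_{2^m}` (helper15)
-/

set_option autoImplicit false

namespace Cfsg.Agent.Helper15.Homocyclic

/-- `X ≡ Y ≡ -1 (mod 16)`, `W = 1 - X - Y` and `1 - 1/X - 1/Y - 9/W = 0` (cleared of denominators)
force `X = Y = -1`. -/
theorem arith_core (X Y W : ℤ) (hW : W = 1 - X - Y) (hX : X % 16 = 15) (hY : Y % 16 = 15)
    (h : X * Y * W - Y * W - X * W - 9 * (X * Y) = 0) : X = -1 ∧ Y = -1 := by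
  obtain ⟨s, hs⟩ : ∃ s, s = X + Y := ⟨_, rfl⟩
  obtain ⟨q, hq⟩ : ∃ q, q = X * Y := ⟨_, rfl⟩
  have h1 : q * (s + 8) = s * s - s := by
    rw [hs, hq]
    subst hW
    linarith [h]
  have h2 : (s + 8) ∣ 72 := by
    have : (72 : ℤ) = q * (s + 8) - (s + 8) * (s - 9) := by rw [h1]; ring
    rw [this]
    exact dvd_sub (dvd_mul_left _ _) (dvd_mul_right _ _)
  have hsmod : (s + 8) % 16 = 6 := by rw [hs]; omega
  obtain ⟨k, hk⟩ : ∃ k, s + 8 = 16 * k + 6 := ⟨(s + 8) / 16, by omega⟩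
  have hle : s + 8 ≤ 72 := Int.le_of_dvd (by norm_num) h2
  have hge : -72 ≤ s + 8 := by
    have h3 : -(s + 8) ∣ 72 := (neg_dvd).2 h2
    have := Int.le_of_dvd (by norm_num) h3
    omega
  have hk1 : -5 ≤ k := by omega
  have hk2 : k ≤ 4 := by omega
  have hs2 : s = -2 := by
    rw [hk] at h2
    interval_cases k <;> first | omega | (exfalso; revert h2; decide)
  have hq1 : q = 1 := by
    rw [hs2] at h1
    omega
  have hX1 : (X + 1) * (X + 1) = 0 := by
    have hY' : Y = -2 - X := by rw [hs] at hs2; omega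
    rw [hq, hY'] at hq1
    nlinarith
  have hX' : X = -1 := by
    have := mul_self_eq_zero.1 hX1
    omega
  refine ⟨hX', ?_⟩
  rw [hs] at hs2
  omega

end Cfsg.Agent.Helper15.Homocyclic
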