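import Mathlib
import Cfsg.Agent.Lib.Cores
import Cfsg.Agent.Helper78.PPart
import Cfsg.Prelude.Def_Blocks

/-!
# Group theory for Brauer's theorem on Sylow 2-subgroups `Z_{2^m} × Z_{2^m}` (helper15)
-/

set_option autoImplicit false

namespace Cfsg.Agent.Helper15.Homocyclic

open Cfsg

variable {G : Type*} [Group G] [Finite G]

/-- If the Sylow 2-subgroups are abelian, an element `j` with `j² = 1` cannot invert a
`2`-element `z` with `z² ≠ 1`. -/
theorem not_inverts_of_abelian_sylow (P : Sylow 2 G)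
    (hab : ∀ x ∈ P, ∀ y ∈ P, x * y = y * x) (j z : G) (hj : j * j = 1)
    (hz : ∃ k : ℕ, orderOf z = 2 ^ k) (hz2 : z * z ≠ 1) (hinv : j * z * j⁻¹ = z⁻¹) : False := by
  classical
  have : Fact (Nat.Prime 2) := ⟨Nat.prime_two⟩
  have hpj : IsPGroup 2 (Subgroup.zpowers j) := by
    apply IsPGroup.of_card (n := if j = 1 then 0 else 1)
    rw [Nat.card_zpowers]
    split_ifs with h1
    · rw [h1, orderOf_one, pow_zero]
    · rw [pow_one]
      apply orderOf_eq_prime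
      · rw [pow_two]; exact hj
      · exact h1
  have hpz : IsPGroup 2 (Subgroup.zpowers z) := by
    obtain ⟨k, hk⟩ := hz
    apply IsPGroup.of_card (n := k)
    rw [Nat.card_zpowers, hk]
  have hnorm : Subgroup.zpowers j ≤ Subgroup.normalizer ((Subgroup.zpowers z : Subgroup G) : Set G) := by
    rw [Subgroup.zpowers_le]
    rw [Subgroup.mem_normalizer_iff]
    intro g
    have hjinv : j⁻¹ = j := inv_eq_of_mul_eq_one_left hj
    constructor
    · intro hg
      obtain ⟨n, rfl⟩ := Subgroup.mem_zpowers_iff.1 hg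
      have : j * z ^ n * j⁻¹ = (z⁻¹) ^ n := by
        rw [← hinv]
        simp [conj_zpow]
      rw [this]
      exact Subgroup.zpow_mem _ (Subgroup.inv_mem _ (Subgroup.mem_zpowers z)) n
    · intro hg
      obtain ⟨n, hn⟩ := Subgroup.mem_zpowers_iff.1 hg
      have h1 : g = j⁻¹ * (z ^ n) * j := by rw [hn]; group
      rw [h1]
      have : j⁻¹ * z ^ n * j = (z⁻¹) ^ n := by
        rw [← hinv]
        rw [hjinv]
        have : (j * z * j) ^ n = j * z ^ n * j := by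
          have h2 := conj_zpow (a := j) (b := z) (i := n)
          rw [hjinv] at h2
          exact h2
        rw [this]
      rw [this]
      exact Subgroup.zpow_mem _ (Subgroup.inv_mem _ (Subgroup.mem_zpowers z)) n
  have hD : IsPGroup 2 (Subgroup.zpowers j ⊔ Subgroup.zpowers z : Subgroup G) :=
    IsPGroup.to_sup_of_normal_right' hpj hpz hnorm
  obtain ⟨Q, hQ⟩ := hD.exists_le_sylow
  obtain ⟨g, hg⟩ := MulAction.exists_smul_eq G P Q
  have hjQ : j ∈ Q := hQ (Subgroup.mem_sup_left (Subgroup.mem_zpowers j))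
  have hzQ : z ∈ Q := hQ (Subgroup.mem_sup_right (Subgroup.mem_zpowers z))
  have hjQ' : j ∈ ((g • P : Sylow 2 G) : Subgroup G) := by rw [hg]; exact hjQ
  have hzQ' : z ∈ ((g • P : Sylow 2 G) : Subgroup G) := by rw [hg]; exact hzQ
  rw [Sylow.coe_subgroup_smul, Subgroup.mem_smul_pointwise_iff_exists] at hjQ' hzQ'
  obtain ⟨a, ha, haj⟩ := hjQ'
  obtain ⟨b, hb, hbz⟩ := hzQ'
  rw [MulAut.smul_def, MulAut.conj_apply] at haj hbz
  have hcomm := hab a ha b hb
  have hcomm' : j * z = z * j := by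
    rw [← haj, ← hbz]
    calc g * a * g⁻¹ * (g * b * g⁻¹) = g * (a * b) * g⁻¹ := by group
      _ = g * (b * a) * g⁻¹ := by rw [hcomm]
      _ = g * b * g⁻¹ * (g * a * g⁻¹) := by group
  apply hz2
  have h3 : j * z * j⁻¹ = z := by rw [hcomm']; group
  rw [h3] at hinv
  calc z * z = z * z⁻¹ := by rw [← hinv]
    _ = 1 := mul_inv_cancel z


/-- With abelian Sylow 2-subgroups, a product of two conjugate involutions is never conjugate to
the inverse of an element whose 2-part `z` has `z² ≠ 1`. -/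
theorem not_isConj_mul_conj (P : Sylow 2 G) (hab : ∀ x ∈ P, ∀ y ∈ P, x * y = y * x) (j : G)
    (hj : j * j = 1) {u z : G} (hz : IsPPart 2 u z) (hz2 : z * z ≠ 1) (t : G) :
    ¬ IsConj (j * (t * j * t⁻¹)) u⁻¹ := by
  intro hc
  obtain ⟨s, hs⟩ := isConj_iff.1 hc
  obtain ⟨a, ha⟩ := Cfsg.Agent.Helper78.exists_pow_eq_of_isPPart Nat.prime_two hz
  have hjinv : j⁻¹ = j := inv_eq_of_mul_eq_one_left hj
  obtain ⟨j₁, hj₁⟩ : ∃ j₁, j₁ = s * j * s⁻¹ := ⟨_, rfl⟩
  obtain ⟨j₂, hj₂⟩ : ∃ j₂, j₂ = s * (t * j * t⁻¹) * s⁻¹ := ⟨_, rfl⟩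
  have h11 : j₁ * j₁ = 1 := by
    rw [hj₁]
    calc s * j * s⁻¹ * (s * j * s⁻¹) = s * (j * j) * s⁻¹ := by group
      _ = 1 := by rw [hj]; group
  have h22 : j₂ * j₂ = 1 := by
    rw [hj₂]
    calc s * (t * j * t⁻¹) * s⁻¹ * (s * (t * j * t⁻¹) * s⁻¹)
        = s * t * (j * j) * t⁻¹ * s⁻¹ := by group
      _ = 1 := by rw [hj]; group
  have hu : u⁻¹ = j₁ * j₂ := by
    rw [← hs, hj₁, hj₂]; group
  have h1inv : j₁⁻¹ = j₁ := inv_eq_of_mul_eq_one_left h11
  have h2inv : j₂⁻¹ = j₂ := inv_eq_of_mul_eq_one_left h22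
  have hu' : u = j₂ * j₁ := by
    rw [← inv_inv u, hu, mul_inv_rev, h1inv, h2inv]
  have hinvu : j₁ * u * j₁⁻¹ = u⁻¹ := by
    rw [hu, hu', h1inv]
    calc j₁ * (j₂ * j₁) * j₁ = j₁ * j₂ * (j₁ * j₁) := by group
      _ = j₁ * j₂ := by rw [h11, mul_one]
  have hinvz : j₁ * z * j₁⁻¹ = z⁻¹ := by
    rw [← ha, ← conj_pow, hinvu, inv_pow]
  obtain ⟨_, _, _, hzk, _⟩ := hz
  exact not_inverts_of_abelian_sylow P hab j₁ z h11 hzk hz2 hinvz

end Cfsg.Agent.Helper15.Homocyclic
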