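import Cfsg.Agent.S0925
import Cfsg.Agent.Helper16.BlockPart
import Cfsg.Agent.Helper3.QuatKer
import Cfsg.Agent.Helper3.ColumnOrth
import Cfsg.Agent.Helper79.ClassMult
import Cfsg.Agent.Helper74.CharBasic

/-!
# The square of a class sum and block sections (helper15)

For `j : G` put `ϑ_j = ∑_χ (χ(j)² / χ(1)) χ` (the class function `u ↦ |G|⁻¹ #{(a, b) ∈ K × K : ab = u}·|C(u)|…`
up to normalisation, `K` the class of `j`).  `ϑ_j u = 0` as soon as no product `j * (t j t⁻¹)` is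
conjugate to `u⁻¹`.  Hence (second main theorem, `S0925(i)`) if this holds on the whole `p`-section of a
`p`-element `x`, then `∑_{χ ∈ B} (χ(j)² / χ(1)) χ(x) = 0` for every `p`-block `B`.
-/

set_option autoImplicit false

namespace Cfsg.Agent.Helper15.InvClassSum

open Cfsg
open scoped ComplexConjugate

variable {G : Type*} [Group G] [Fintype G] [Fintype (IrrCharacter G)]

/-- `ϑ_j = ∑_χ (χ(j)² / χ(1)) χ`. -/
noncomputable def thetaJ (j : G) : G → ℂ := fun u =>
  ∑ χ : IrrCharacter G, ((χ : G → ℂ) j * (χ : G → ℂ) j / (χ : G → ℂ) 1) * (χ : G → ℂ) u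

omit [Fintype G] in
theorem thetaJ_isClassFunction (j : G) : IsClassFunction G (thetaJ j) := by
  intro g h
  unfold thetaJ
  refine Finset.sum_congr rfl (fun χ _ => ?_)
  rw [Cfsg.Agent.Helper79.irr_isClassFunction χ g h]

theorem thetaJ_eq_zero (j u : G) (hnc : ∀ t : G, ¬ IsConj (j * (t * j * t⁻¹)) u⁻¹) :
    thetaJ j u = 0 := by
  classical
  have hG : (Nat.card G : ℂ) ≠ 0 := by exact_mod_cast Nat.card_pos.ne'
  have h1 : ∀ χ : IrrCharacter G, (χ : G → ℂ) j * (χ : G → ℂ) j / (χ : G → ℂ) 1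
      = (Nat.card G : ℂ)⁻¹ * ∑ t : G, (χ : G → ℂ) (j * (t * j * t⁻¹)) := by
    intro χ
    rw [Cfsg.Agent.Helper3.Quat.sum_irr_mul_conj χ.2 j j]
    field_simp
  unfold thetaJ
  have h2 : ∑ χ : IrrCharacter G,
      ((χ : G → ℂ) j * (χ : G → ℂ) j / (χ : G → ℂ) 1) * (χ : G → ℂ) u
      = (Nat.card G : ℂ)⁻¹ * ∑ t : G, ∑ χ : IrrCharacter G,
          (χ : G → ℂ) (j * (t * j * t⁻¹)) * conj ((χ : G → ℂ) u⁻¹) := by
    rw [Finset.sum_comm, Finset.mul_sum]
    refine Finset.sum_congr rfl (fun χ _ => ?_)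
    rw [h1 χ, ← Cfsg.Agent.Helper79.irr_inv χ u⁻¹, inv_inv, mul_assoc, Finset.sum_mul]
  rw [h2, Finset.sum_eq_zero, mul_zero]
  intro t _
  rw [Cfsg.Agent.Helper3.column_orthogonality, if_neg (hnc t)]

theorem classInner_thetaJ (j : G) (χ' : IrrCharacter G) :
    classInner (thetaJ j) (χ' : G → ℂ)
      = (χ' : G → ℂ) j * (χ' : G → ℂ) j / (χ' : G → ℂ) 1 := by
  classical
  have h1 : thetaJ j = ∑ χ : IrrCharacter G,
      ((χ : G → ℂ) j * (χ : G → ℂ) j / (χ : G → ℂ) 1) • (χ : G → ℂ) := by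
    funext u
    simp [thetaJ, Finset.sum_apply]
  rw [h1, Cfsg.Agent.Helper74.classInner_sum_left]
  rw [Finset.sum_eq_single χ']
  · rw [Cfsg.Agent.Helper74.classInner_smul_left, Cfsg.Agent.Helper74.irr_orthonormal, if_pos rfl,
      mul_one]
  · intro χ _ hne
    rw [Cfsg.Agent.Helper74.classInner_smul_left, Cfsg.Agent.Helper74.irr_orthonormal, if_neg hne,
      mul_zero]
  · intro h
    exact absurd (Finset.mem_univ _) h

/-- **The class-sum relation on a block section.** -/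
theorem block_class_sum (p : ℕ) [Fact p.Prime] (M : Ideal AlgInt) (hM : IsPModular p M) (j x : G)
    (hx : ∃ k : ℕ, orderOf x = p ^ k)
    (hnc : ∀ u z : G, IsPPart p u z → IsConj x z → ∀ t : G, ¬ IsConj (j * (t * j * t⁻¹)) u⁻¹)
    (B : Set (IrrCharacter G)) (hB : IsPBlock M B) :
    ∑ᶠ χ ∈ B, ((χ : G → ℂ) j * (χ : G → ℂ) j / (χ : G → ℂ) 1) * (χ : G → ℂ) x = 0 := by
  have hxx : IsPPart p x x := ⟨1, mul_one x, Commute.one_right x, hx, by
    rw [orderOf_one]; exact (Fact.out : p.Prime).one_lt.ne' ∘ Nat.dvd_one.1⟩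
  have key := (Cfsg.Agent.S0925.result p M hM).1 (thetaJ j) (thetaJ_isClassFunction j) x hx
    (fun u z hz hxz => thetaJ_eq_zero j u (hnc u z hz hxz)) B hB x x hxx (IsConj.refl x)
  rw [Cfsg.Agent.Helper16.blockPart_apply] at key
  rw [← key]
  exact finsum_mem_congr rfl (fun χ _ => by rw [classInner_thetaJ])

end Cfsg.Agent.Helper15.InvClassSum
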