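import Cfsg.Agent.Helper15.AbelSylowGram
import Cfsg.Agent.Helper15.Coherence
import Cfsg.Agent.Helper15.ExcValues
import Cfsg.Agent.Helper15.InvolutionClassSum
import Cfsg.Agent.Helper15.HomocyclicGroup
import Cfsg.Agent.Helper15.HomocyclicArith
import Cfsg.Agent.Helper15.CliffordCorr
import Cfsg.Agent.Helper78.IrrTransport

/-!
# The character-theoretic core of Brauer's theorem on Sylow 2-subgroups `Z_{2^m} × Z_{2^m}`
(helper15)
-/

set_option autoImplicit false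

namespace Cfsg.Agent.Helper15.Homocyclic

open Cfsg Finset AbelSylow AbFourier ExcValues
open scoped ComplexConjugate IsMulCommutative

variable {G : Type*} [Group G] [Finite G]

/-- A sum supported on three indices. -/
theorem sum_three {ι R : Type*} [Fintype ι] [DecidableEq ι] [AddCommMonoid R] (g : ι → R)
    (o i₂ i₃ : ι) (h2o : i₂ ≠ o) (h3o : i₃ ≠ o) (h23 : i₂ ≠ i₃)
    (hrest : ∀ i, i ≠ o → i ≠ i₂ → i ≠ i₃ → g i = 0) : ∑ i, g i = g o + g i₂ + g i₃ := by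
  rw [← Finset.sum_subset (Finset.subset_univ ({o, i₂, i₃} : Finset ι))]
  · rw [Finset.sum_insert, Finset.sum_insert, Finset.sum_singleton, add_assoc]
    · simpa using h23
    · simp only [Finset.mem_insert, Finset.mem_singleton, not_or]
      exact ⟨fun h => h2o h.symm, fun h => h3o h.symm⟩
  · intro i _ hi
    simp only [Finset.mem_insert, Finset.mem_singleton, not_or] at hi
    exact hrest i hi.1 hi.2.1 hi.2.2

/-- The cubic term of a character value `-b + ε s` with `b s = 0`. -/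
theorem term_identity (b s t ε D : ℂ) (hbs : b * s = 0) (hbt : b * t = 0) (hε : ε * ε = 1) :
    (-b + ε * s) * (-b + ε * s) / D * (-b + ε * t) = -(b ^ 3) / D + ε * (s * s * t) / D := by
  have h : (-b + ε * s) * (-b + ε * s) * (-b + ε * t) = -(b ^ 3) + ε * (s * s * t) := by
    linear_combination (ε * b) * hbt + (2 * ε * b - 2 * ε ^ 2 * t - ε ^ 2 * s) * hbs
      + (ε * s ^ 2 * t) * hε
  rw [div_mul_eq_mul_div, h, add_div]

section

variable (M : Ideal AlgInt) (hM : IsPModular 2 M) (P : Sylow 2 G)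
  [hab : IsMulCommutative (P : Subgroup G)]
  [Fintype ↥(principalBlock M G)] [Fintype ↥(P : Subgroup G)]
  [Fintype (↥(P : Subgroup G) →* ℂˣ)] [DecidableEq (↥(P : Subgroup G) →* ℂˣ)]
  [DecidableEq ↥(principalBlock M G)]

include hM in
/-- **Stage 1**: the coherent shape of the principal block over `P`. -/
theorem exists_coherent_data
    (hfrob : ∀ y ∈ (P : Subgroup G), y ≠ 1 → Subgroup.centralizer ({y} : Set G) ⊓
      Subgroup.normalizer ((P : Subgroup G) : Set G) = Subgroup.centralizer ((P : Subgroup G) : Set G))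
    (hA : Nat.card (autP 2 P) = 3) (h16 : 16 ∣ Nat.card (P : Subgroup G)) :
    ∃ (ε : ℤ) (Θ : NT ↥(P : Subgroup G) → ↥(principalBlock M G)) (b : ↥(principalBlock M G) → ℤ)
      (D : ↥(principalBlock M G) → ℕ) (o i₂ i₃ : ↥(principalBlock M G)),
      (ε = 1 ∨ ε = -1) ∧ (∀ i, 0 < D i ∧ (i.1 : G → ℂ) 1 = D i) ∧
      o.1 = Cfsg.Agent.Helper79.principalIrr G ∧
      (∀ (i : ↥(principalBlock M G)) (l : NT ↥(P : Subgroup G)),
        acoef (fun z : ↥(P : Subgroup G) => (i.1 : G → ℂ) z) l.1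
          = (b i : ℂ) + if i = Θ l then (ε : ℂ) else 0) ∧
      (∀ l k : NT ↥(P : Subgroup G), Θ l = Θ k ↔ DualRel (autP 2 P) l.1 k.1) ∧
      (∀ l, b (Θ l) = 0) ∧ b o = -1 ∧ i₂ ≠ o ∧ i₃ ≠ o ∧ i₂ ≠ i₃ ∧
      (b i₂ = 1 ∨ b i₂ = -1) ∧ (b i₃ = 1 ∨ b i₃ = -1) ∧
      (∀ i, i ≠ o → i ≠ i₂ → i ≠ i₃ → b i = 0) ∧
      (∀ l, ∑ i, (b i + if i = Θ l then ε else 0) * (D i : ℤ) = 0) ∧
      Fintype.card (NT ↥(P : Subgroup G)) + 1 = Nat.card (P : Subgroup G) := by
  classical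
  have hp2 : Fact (Nat.Prime 2) := ⟨Nat.prime_two⟩
  -- integer coefficients
  have hint : ∀ (l : NT ↥(P : Subgroup G)) (i : ↥(principalBlock M G)), ∃ n : ℤ,
      acoef (fun z : ↥(P : Subgroup G) => (i.1 : G → ℂ) z) l.1 = n :=
    fun l i => acoef_restrict_int 2 P i.1 l.1
  choose a ha using hint
  -- degrees
  have hdeg : ∀ i : ↥(principalBlock M G), ∃ d : ℕ, 0 < d ∧ (i.1 : G → ℂ) 1 = d :=
    fun i => irr_degree_pos i.1.2
  choose D hDpos hD using hdeg
  -- the relation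
  obtain ⟨r, hrdef⟩ : ∃ r : NT ↥(P : Subgroup G) → NT ↥(P : Subgroup G) → Prop,
      r = fun l k => DualRel (autP 2 P) l.1 k.1 := ⟨_, rfl⟩
  have hr : Equivalence r := by
    subst hrdef
    exact ⟨fun l => (dualRel_equivalence _).refl _, fun h => (dualRel_equivalence _).symm h,
      fun h h' => (dualRel_equivalence _).trans h h'⟩
  -- the Gram matrix
  have hG : ∀ l k : NT ↥(P : Subgroup G), ∑ i, a l i * a k i = 3 + if r l k then 1 else 0 := by
    intro l k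
    have hcast : ((∑ i, a l i * a k i : ℤ) : ℂ)
        = ∑ i : ↥(principalBlock M G),
            acoef (fun z : ↥(P : Subgroup G) => (i.1 : G → ℂ) z) l.1
              * conj (acoef (fun z : ↥(P : Subgroup G) => (i.1 : G → ℂ) z) k.1) := by
      push_cast
      refine Finset.sum_congr rfl (fun i _ => ?_)
      rw [ha l i, ha k i, map_intCast]
    by_cases hlk : r l k
    · rw [if_pos hlk]
      have h1 := gram_principal_pos 2 M hM P hfrob l.1 k.1 l.2 k.2 (by rw [hrdef] at hlk; exact hlk)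
      rw [hA] at h1
      have h2 : ((∑ i, a l i * a k i : ℤ) : ℂ) = ((3 + 1 : ℤ) : ℂ) := by
        rw [hcast, h1]; norm_num
      exact_mod_cast h2
    · rw [if_neg hlk]
      have h1 := gram_principal_neg 2 M hM P hfrob l.1 k.1 l.2 k.2 (by rw [hrdef] at hlk; exact hlk)
      rw [hA] at h1
      have h2 : ((∑ i, a l i * a k i : ℤ) : ℂ) = ((3 + 0 : ℤ) : ℂ) := by
        rw [hcast, h1]; norm_num
      exact_mod_cast h2
  -- weak orthogonality
  have hDa : ∀ l : NT ↥(P : Subgroup G), ∑ i, a l i * (D i : ℤ) = 0 := by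
    intro l
    have h1 := acoef_degree_orth 2 M hM P l.1
    have h2 : ((∑ i, a l i * (D i : ℤ) : ℤ) : ℂ) = 0 := by
      push_cast
      rw [← h1]
      refine Finset.sum_congr rfl (fun i _ => ?_)
      rw [ha l i, hD i]
    exact_mod_cast h2
  -- the principal character
  have hMprime := Cfsg.Agent.Helper78.isPrime_of_isPModular hM
  obtain ⟨o, ho⟩ : ∃ o : ↥(principalBlock M G), o.1 = Cfsg.Agent.Helper79.principalIrr G :=
    ⟨⟨_, Cfsg.Agent.Helper78.principalIrr_mem_principalBlock M hMprime G⟩, rfl⟩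
  have hao : ∀ l, a l o = -1 := by
    intro l
    have h1 : acoef (fun z : ↥(P : Subgroup G) => (o.1 : G → ℂ) z) l.1 = -1 := by
      rw [ho]
      exact acoef_one_fun l.2
    rw [ha l o] at h1
    exact_mod_cast h1
  -- five classes
  have hcardNT' : Fintype.card (NT ↥(P : Subgroup G)) + 1 = Nat.card (P : Subgroup G) := by
    have h1 : Fintype.card (NT ↥(P : Subgroup G))
        = Fintype.card (↥(P : Subgroup G) →* ℂˣ) - 1 := by
      have h0 := Fintype.card_subtype_compl (fun ψ : ↥(P : Subgroup G) →* ℂˣ => ψ = 1)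
      rw [Fintype.card_subtype_eq] at h0
      exact h0
    have h2 : Fintype.card (↥(P : Subgroup G) →* ℂˣ) = Nat.card (P : Subgroup G) := by
      rw [← Nat.card_eq_fintype_card,
        CommGroup.card_monoidHom_of_hasEnoughRootsOfUnity ↥(P : Subgroup G) ℂ]
    have h3 : 0 < Nat.card (P : Subgroup G) := Nat.card_pos
    omega
  have hcardNT : 15 ≤ Fintype.card (NT ↥(P : Subgroup G)) := by
    have h3 : 0 < Nat.card (P : Subgroup G) := Nat.card_pos
    obtain ⟨c, hc⟩ := h16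
    omega
  have hfive : ∃ f : Fin 5 → NT ↥(P : Subgroup G), ∀ x y, x ≠ y → ¬ r (f x) (f y) := by
    apply Coherence.exists_pairwise_not_rel r hr.refl (fun _ _ h => hr.symm h) 3 5
    · intro l
      have h1 := dualRel_class_card_le (autP 2 P) (l.1)
      have : Fintype (autP 2 P) := Fintype.ofFinite _
      have h2 : Fintype.card (autP 2 P) = 3 := by rw [← Nat.card_eq_fintype_card, hA]
      refine le_trans ?_ (h2 ▸ dualRel_class_card_le (autP 2 P) l.1)
      apply Finset.card_le_card_of_injOn (fun k => k.1)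
      · intro k hk
        rw [Finset.mem_coe, Finset.mem_filter] at hk ⊢
        refine ⟨mem_univ _, ?_⟩
        have := hk.2
        rw [hrdef] at this
        exact this
      · intro k _ k' _ h
        exact Subtype.ext h
    · omega
  obtain ⟨f, hf⟩ := hfive
  have : Nonempty ↥(principalBlock M G) := ⟨o⟩
  obtain ⟨ε, Θ, b, hε, hab, hΘ, hbΘ, hbo, _hΘo, hbnorm⟩ :=
    Coherence.coherent_three a r hr hG (fun i => (D i : ℤ)) (fun i => by exact_mod_cast hDpos i)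
      hDa o hao f hf
  obtain ⟨i₂, i₃, h2o, h3o, h23, hb2, hb3, hbrest⟩ := Coherence.exists_two b o hbo hbnorm
  refine ⟨ε, Θ, b, D, o, i₂, i₃, hε, fun i => ⟨hDpos i, hD i⟩, ho, ?_, ?_, hbΘ, hbo, h2o, h3o,
    h23, hb2, hb3, hbrest, ?_, hcardNT'⟩
  · intro i l
    rw [ha l i, hab l i]
    push_cast
    split_ifs <;> rfl
  · intro l k
    rw [hΘ l k, hrdef]
  · intro l
    refine Eq.trans (Finset.sum_congr rfl (fun i _ => ?_)) (hDa l)
    rw [hab l i]


include hM in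
/-- **Stage 2**: a non-principal linear character with `P` in its kernel. -/
theorem exists_linear_char [Fintype G] [Fintype (IrrCharacter G)]
    (hfrob : ∀ y ∈ (P : Subgroup G), y ≠ 1 → Subgroup.centralizer ({y} : Set G) ⊓
      Subgroup.normalizer ((P : Subgroup G) : Set G) = Subgroup.centralizer ((P : Subgroup G) : Set G))
    (hA : Nat.card (autP 2 P) = 3) (h16 : 16 ∣ Nat.card (P : Subgroup G))
    (j x : G) (hjP : j ∈ (P : Subgroup G)) (hxP : x ∈ (P : Subgroup G))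
    (hj : orderOf j = 2) (hx : orderOf x = 4) :
    ∃ χ : IrrCharacter G, χ ≠ Cfsg.Agent.Helper79.principalIrr G ∧ (χ : G → ℂ) 1 = 1 ∧
      ∀ z ∈ (P : Subgroup G), (χ : G → ℂ) z = 1 := by
  classical
  have hp2 : Fact (Nat.Prime 2) := ⟨Nat.prime_two⟩
  obtain ⟨ε, Θ, b, D, o, i₂, i₃, hε, hDD, ho, hval, hΘ, hbΘ, hbo, h2o, h3o, h23, hb2, hb3, hbrest,
    hDa, hcardNT⟩ := exists_coherent_data M hM P hfrob hA h16
  have hDpos : ∀ i, 0 < D i := fun i => (hDD i).1
  have hD : ∀ i : ↥(principalBlock M G), (i.1 : G → ℂ) 1 = D i := fun i => (hDD i).2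
  let _ : Fintype (autP 2 P) := Fintype.ofFinite _
  have hAcard : Fintype.card (autP 2 P) = 3 := by rw [← Nat.card_eq_fintype_card, hA]
  have hfree := autP_free 2 P hfrob
  have hεC : (ε : ℂ) * ε = 1 := by
    rcases hε with h | h <;> rw [h] <;> norm_num
  have hεZ : ε * ε = 1 := by
    rcases hε with h | h <;> rw [h] <;> norm_num
  -- the family
  obtain ⟨X, hXdef⟩ : ∃ X : ↥(principalBlock M G) → ↥(P : Subgroup G) → ℂ,
      X = fun (i : ↥(principalBlock M G)) (z : ↥(P : Subgroup G)) => (i.1 : G → ℂ) z := ⟨_, rfl⟩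
  have hval' : ∀ (i : ↥(principalBlock M G)) (l : NT ↥(P : Subgroup G)),
      acoef (X i) l.1 = (b i : ℂ) + if i = Θ l then (ε : ℂ) else 0 := by
    intro i l
    rw [hXdef]
    exact hval i l
  have hvalue : ∀ (i : ↥(principalBlock M G)) (z : ↥(P : Subgroup G)), z ≠ 1 →
      (i.1 : G → ℂ) z = -(b i : ℂ) + ε * T Θ i z := by
    intro i z hz
    have := value_eq X Θ b ε hval' i hz
    rw [hXdef] at this
    exact this
  have hbT : ∀ (i : ↥(principalBlock M G)) (z : ↥(P : Subgroup G)), (b i : ℂ) * T Θ i z = 0 :=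
    fun i z => b_mul_T Θ b hbΘ i z
  -- `D o = 1`
  have hDo : D o = 1 := by
    have h1 := hD o
    rw [ho] at h1
    have h2 : ((D o : ℕ) : ℂ) = 1 := h1.symm
    exact_mod_cast h2
  -- (R1)
  obtain ⟨Xv, hXv⟩ : ∃ Xv : ℤ, Xv = b i₂ * D i₂ := ⟨_, rfl⟩
  obtain ⟨Yv, hYv⟩ : ∃ Yv : ℤ, Yv = b i₃ * D i₃ := ⟨_, rfl⟩
  obtain ⟨W, hWdef⟩ : ∃ W : ℤ, W = 1 - Xv - Yv := ⟨_, rfl⟩
  have hsumbD : ∑ i, b i * (D i : ℤ) = -1 + Xv + Yv := by
    rw [sum_three (fun i => b i * (D i : ℤ)) o i₂ i₃ h2o h3o h23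
      (fun i h1 h2 h3 => by
        show b i * (D i : ℤ) = 0
        rw [hbrest i h1 h2 h3, zero_mul])]
    simp only [hbo, hDo, hXv, hYv]
    ring
  have hR1 : ∀ l, ε * (D (Θ l) : ℤ) = W := by
    intro l
    have h1 := hDa l
    have h2 : ∑ i, (b i + if i = Θ l then ε else 0) * (D i : ℤ)
        = ∑ i, b i * (D i : ℤ) + ε * (D (Θ l) : ℤ) := by
      have h3 : ∑ i, (if i = Θ l then ε * (D i : ℤ) else 0) = ε * (D (Θ l) : ℤ) := by
        rw [Finset.sum_ite_eq' univ (Θ l)]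
        simp
      rw [← h3, ← Finset.sum_add_distrib]
      refine Finset.sum_congr rfl (fun i _ => ?_)
      split_ifs <;> ring
    rw [h2, hsumbD] at h1
    rw [hWdef]
    linarith
  have hDΘ : ∀ l, (D (Θ l) : ℤ) = ε * W := by
    intro l
    rw [← hR1 l, ← mul_assoc, hεZ, one_mul]
  -- `NT` is non-empty
  have hNTne : Nonempty (NT ↥(P : Subgroup G)) := by
    have h3 : 0 < Nat.card (P : Subgroup G) := Nat.card_pos
    obtain ⟨c, hc⟩ := h16
    have : 0 < Fintype.card (NT ↥(P : Subgroup G)) := by omega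
    exact Fintype.card_pos_iff.1 this
  obtain ⟨l₀⟩ := hNTne
  have hW0 : W ≠ 0 := by
    intro h0
    have h1 := hDΘ l₀
    rw [h0, mul_zero] at h1
    have := hDpos (Θ l₀)
    omega
  -- the elements `j`, `x` of `P`
  have hjj : j * j = 1 := by rw [← pow_two, ← hj]; exact pow_orderOf_eq_one j
  have hxx : x * x ≠ 1 := by
    intro h
    have h1 := orderOf_dvd_of_pow_eq_one (show x ^ 2 = 1 by rw [pow_two]; exact h)
    rw [hx] at h1
    omega
  have hj'1 : (⟨j, hjP⟩ : ↥(P : Subgroup G)) ≠ 1 := by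
    intro h
    have h1 : j = 1 := congrArg Subtype.val h
    rw [h1, orderOf_one] at hj
    omega
  have hx'1 : (⟨x, hxP⟩ : ↥(P : Subgroup G)) ≠ 1 := by
    intro h
    have h1 : x = 1 := congrArg Subtype.val h
    rw [h1, orderOf_one] at hx
    omega
  have hj'j' : (⟨j, hjP⟩ : ↥(P : Subgroup G)) * ⟨j, hjP⟩ = 1 := Subtype.ext hjj
  have hx'x' : (⟨x, hxP⟩ : ↥(P : Subgroup G)) * ⟨x, hxP⟩ ≠ 1 :=
    fun h => hxx (congrArg Subtype.val h)
  have hvj : ∀ i : ↥(principalBlock M G),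
      (i.1 : G → ℂ) j = -(b i : ℂ) + ε * T Θ i ⟨j, hjP⟩ := fun i => hvalue i ⟨j, hjP⟩ hj'1
  have hvx : ∀ i : ↥(principalBlock M G),
      (i.1 : G → ℂ) x = -(b i : ℂ) + ε * T Θ i ⟨x, hxP⟩ := fun i => hvalue i ⟨x, hxP⟩ hx'1
  -- the class sum relation
  have hnc : ∀ u z : G, IsPPart 2 u z → IsConj x z →
      ∀ t : G, ¬ IsConj (j * (t * j * t⁻¹)) u⁻¹ := by
    intro u z hz hxz t
    refine not_isConj_mul_conj P (mul_comm_of_mem 2 P) j hjj hz ?_ t
    intro hzz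
    obtain ⟨c, hc⟩ := isConj_iff.1 hxz
    apply hxx
    have h1 : c * (x * x) * c⁻¹ = 1 := by
      rw [← hzz, ← hc]; group
    have h2 : x * x = c⁻¹ * (c * (x * x) * c⁻¹) * c := by group
    rw [h2, h1]; group
  have hCS := InvClassSum.block_class_sum 2 M hM j x ⟨2, by rw [hx]; norm_num⟩ hnc
    (principalBlock M G) ⟨Cfsg.Agent.Helper79.principalIrr G, rfl⟩
  rw [finsum_mem_eq_sum] at hCS
  have hterm : ∀ i : ↥(principalBlock M G),
      ((i.1 : G → ℂ) j * (i.1 : G → ℂ) j / (i.1 : G → ℂ) 1) * (i.1 : G → ℂ) x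
        = -((b i : ℂ) ^ 3) / (D i : ℂ)
          + ε * (T Θ i ⟨j, hjP⟩ * T Θ i ⟨j, hjP⟩ * T Θ i ⟨x, hxP⟩) / (D i : ℂ) := by
    intro i
    rw [hvj i, hvx i, hD i]
    exact term_identity _ _ _ _ _ (hbT i _) (hbT i _) hεC
  rw [Finset.sum_congr rfl (fun i _ => hterm i), Finset.sum_add_distrib] at hCS
  -- first part
  have hpart1 : ∑ i : ↥(principalBlock M G), -((b i : ℂ) ^ 3) / (D i : ℂ)
      = 1 - (b i₂ : ℂ) ^ 3 / (D i₂ : ℂ) - (b i₃ : ℂ) ^ 3 / (D i₃ : ℂ) := by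
    rw [sum_three (fun i : ↥(principalBlock M G) => -((b i : ℂ) ^ 3) / (D i : ℂ)) o i₂ i₃ h2o h3o
      h23 (fun i h1 h2 h3 => by
        show -((b i : ℂ) ^ 3) / (D i : ℂ) = 0
        rw [hbrest i h1 h2 h3]; simp)]
    simp only [hbo, hDo]
    push_cast
    ring
  -- second part
  have hWC : (W : ℂ) ≠ 0 := by exact_mod_cast hW0
  have hDC : ∀ i : ↥(principalBlock M G), ((D i : ℕ) : ℂ) ≠ 0 := fun i => by
    have := hDpos i
    exact_mod_cast this.ne'
  have hc : ∀ l, ((D (Θ l) : ℕ) : ℂ) = (ε : ℂ) * (W : ℂ) := by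
    intro l
    have := hDΘ l
    exact_mod_cast this
  have hpart2 : ∑ i : ↥(principalBlock M G),
      ε * (T Θ i ⟨j, hjP⟩ * T Θ i ⟨j, hjP⟩ * T Θ i ⟨x, hxP⟩) / (D i : ℂ) = -9 / (W : ℂ) := by
    have h1 : ∀ i : ↥(principalBlock M G),
        ε * (T Θ i ⟨j, hjP⟩ * T Θ i ⟨j, hjP⟩ * T Θ i ⟨x, hxP⟩) / (D i : ℂ)
          = (T Θ i ⟨j, hjP⟩ * T Θ i ⟨j, hjP⟩ * T Θ i ⟨x, hxP⟩) / (W : ℂ) := by
      intro i
      have hTm := T_mul_eq Θ (fun i => ((D i : ℕ) : ℂ)) ((ε : ℂ) * (W : ℂ)) hc i ⟨x, hxP⟩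
      rw [div_eq_div_iff (hDC i) hWC]
      linear_combination (-(T Θ i ⟨j, hjP⟩ * T Θ i ⟨j, hjP⟩)) * hTm
    rw [Finset.sum_congr rfl (fun i _ => h1 i), ← Finset.sum_div,
      sum_T_cube (autP 2 P) hfree Θ hΘ hj'j' hx'x', hAcard]
    norm_num
  rw [hpart1, hpart2] at hCS
  -- the integer equation
  have hinteq : Xv * Yv * W - Yv * W - Xv * W - 9 * (Xv * Yv) = 0 := by
    have h1 : ((D i₂ : ℕ) : ℂ) * (D i₃ : ℕ) * (W : ℂ) - (b i₂ : ℂ) ^ 3 * (D i₃ : ℕ) * (W : ℂ)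
        - (b i₃ : ℂ) ^ 3 * (D i₂ : ℕ) * (W : ℂ) - 9 * ((D i₂ : ℕ) : ℂ) * (D i₃ : ℕ) = 0 := by
      have h0 := congrArg (fun t => t * (((D i₂ : ℕ) : ℂ) * ((D i₃ : ℕ) : ℂ) * (W : ℂ))) hCS
      simp only [zero_mul] at h0
      rw [← h0]
      field_simp [hDC i₂, hDC i₃, hWC]
      ring
    have h2 : ((D i₂ : ℤ)) * (D i₃ : ℤ) * W - (b i₂) ^ 3 * (D i₃ : ℤ) * W
        - (b i₃) ^ 3 * (D i₂ : ℤ) * W - 9 * (D i₂ : ℤ) * (D i₃ : ℤ) = 0 := by
      exact_mod_cast h1
    rcases hb2 with h | h <;> rcases hb3 with h' | h' <;> rw [hXv, hYv, h, h'] <;>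
      rw [h, h'] at h2 <;> linarith
  -- congruences
  have hcong : ∀ i : ↥(principalBlock M G), (∀ l, i ≠ Θ l) →
      ∃ n : ℤ, (D i : ℤ) = ((Nat.card (P : Subgroup G) : ℤ) - 1) * b i
        + (Nat.card (P : Subgroup G) : ℤ) * n := by
    intro i hi
    obtain ⟨n, hn⟩ := coef_restrict_nat 2 P i.1 1
    refine ⟨n, ?_⟩
    have h1 := apply_one_eq (X i)
    have h2 := sum_NT (fun ψ => acoef (X i) ψ)
    simp only [acoef_one, sub_zero] at h2
    rw [← h2] at h1
    have h3 : ∑ l : NT ↥(P : Subgroup G), acoef (X i) l.1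
        = (Fintype.card (NT ↥(P : Subgroup G)) : ℂ) * (b i : ℂ) := by
      rw [Finset.sum_congr rfl (fun l _ => by rw [hval' i l, if_neg (hi l), add_zero]),
        Finset.sum_const, Finset.card_univ, nsmul_eq_mul]
    rw [h3] at h1
    have h4 : X i 1 = (D i : ℂ) := by
      rw [hXdef]
      exact hD i
    have h5 : coef (X i) 1 = (n : ℂ) := by
      rw [hXdef]
      exact hn
    rw [h4, h5] at h1
    have h6 : (Fintype.card (NT ↥(P : Subgroup G)) : ℤ) = (Nat.card (P : Subgroup G) : ℤ) - 1 := by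
      have := hcardNT
      omega
    have h7 : ((D i : ℤ) : ℂ) = (((Nat.card (P : Subgroup G) : ℤ) - 1) * b i
        + (Nat.card (P : Subgroup G) : ℤ) * n : ℤ) := by
      rw [← h6]
      push_cast
      exact h1
    exact_mod_cast h7
  have hne2 : ∀ l, i₂ ≠ Θ l := by
    intro l h
    have := hbΘ l
    rw [← h] at this
    rcases hb2 with h' | h' <;> omega
  have hne3 : ∀ l, i₃ ≠ Θ l := by
    intro l h
    have := hbΘ l
    rw [← h] at this
    rcases hb3 with h' | h' <;> omega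
  have hmod : ∀ i : ↥(principalBlock M G), (∀ l, i ≠ Θ l) → (b i = 1 ∨ b i = -1) →
      (b i * (D i : ℤ)) % 16 = 15 := by
    intro i hi hbi
    obtain ⟨n, hn⟩ := hcong i hi
    obtain ⟨c, hc⟩ := h16
    have hc' : (Nat.card (P : Subgroup G) : ℤ) = 16 * c := by exact_mod_cast hc
    rw [hn, hc']
    rcases hbi with h | h <;> rw [h]
    · have : (1 : ℤ) * ((16 * (c : ℤ) - 1) * 1 + 16 * c * n) = 16 * (c + c * n) - 1 := by ring
      rw [this]
      omega
    · have : (-1 : ℤ) * ((16 * (c : ℤ) - 1) * -1 + 16 * c * n) = 16 * (c - c * n) - 1 := by ring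
      rw [this]
      omega
  have hXmod : Xv % 16 = 15 := by rw [hXv]; exact hmod i₂ hne2 hb2
  have hYmod : Yv % 16 = 15 := by rw [hYv]; exact hmod i₃ hne3 hb3
  obtain ⟨hX1, -⟩ := arith_core Xv Yv W hWdef hXmod hYmod hinteq
  -- conclusion
  have hD2 : D i₂ = 1 ∧ b i₂ = -1 := by
    rw [hXv] at hX1
    have := hDpos i₂
    rcases hb2 with h | h
    · rw [h] at hX1
      omega
    · rw [h] at hX1
      refine ⟨?_, h⟩
      omega
  refine ⟨i₂.1, ?_, ?_, ?_⟩
  · intro h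
    apply h2o
    apply Subtype.ext
    rw [h, ho]
  · rw [hD i₂, hD2.1]
    simp
  · intro z hz
    by_cases hz1 : z = 1
    · rw [hz1, hD i₂, hD2.1]
      simp
    · have hz' : (⟨z, hz⟩ : ↥(P : Subgroup G)) ≠ 1 := fun h => hz1 (congrArg Subtype.val h)
      have h1 : (i₂.1 : G → ℂ) z = -(b i₂ : ℂ) + ε * T Θ i₂ ⟨z, hz⟩ := hvalue i₂ ⟨z, hz⟩ hz'
      have h2 : T Θ i₂ ⟨z, hz⟩ = 0 := by
        unfold T
        refine Finset.sum_eq_zero (fun l _ => ?_)
        rw [if_neg (hne2 l)]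
      rw [h1, h2, hD2.2]
      simp

end

end Cfsg.Agent.Helper15.Homocyclic
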