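import Cfsg.Agent.Helper15.HomocyclicChar
import Cfsg.Agent.S0945
import Cfsg.Agent.Helper74.DefectZero

/-!
# Brauer's theorem on Sylow 2-subgroups `Z_{2^m} × Z_{2^m}`, `m ≥ 2` (helper15)
-/

set_option autoImplicit false

namespace Cfsg.Agent.Helper15.Homocyclic

open Cfsg AbelSylow

universe u

variable {G : Type u} [Group G] [Finite G]

section Elements

variable (P : Subgroup G) (m : ℕ) (e : P ≃* Multiplicative (ZMod (2 ^ m) × ZMod (2 ^ m)))

include e in
omit [Finite G] in
theorem isMulCommutative_of_equiv : IsMulCommutative P := by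
  refine ⟨⟨fun a b => ?_⟩⟩
  apply e.injective
  rw [map_mul, map_mul, mul_comm]

include e in
omit [Finite G] in
theorem card_of_equiv : Nat.card P = 2 ^ m * 2 ^ m := by
  rw [Nat.card_congr e.toEquiv]
  have : NeZero (2 ^ m) := ⟨by positivity⟩
  rw [Nat.card_eq_fintype_card, Fintype.card_multiplicative, Fintype.card_prod, ZMod.card]

include e in
omit [Finite G] in
theorem exists_orderOf_eq (k : ℕ) (hk : k ≤ m) : ∃ g ∈ P, orderOf g = 2 ^ k := by
  have : NeZero (2 ^ m) := ⟨by positivity⟩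
  obtain ⟨g₀, hg₀⟩ : ∃ g₀ : P, g₀ = e.symm (Multiplicative.ofAdd ((1 : ZMod (2 ^ m)), (0 : ZMod (2 ^ m)))) :=
    ⟨_, rfl⟩
  have h1 : orderOf g₀ = 2 ^ m := by
    rw [hg₀]
    have h0 := orderOf_injective e.symm.toMonoidHom e.symm.injective
      (Multiplicative.ofAdd ((1 : ZMod (2 ^ m)), (0 : ZMod (2 ^ m))))
    rw [MulEquiv.coe_toMonoidHom] at h0
    rw [h0, orderOf_ofAdd_eq_addOrderOf, Prod.addOrderOf_mk, ZMod.addOrderOf_one, addOrderOf_zero,
      Nat.lcm_one_right]
  have h2 : orderOf (g₀ ^ 2 ^ (m - k)) = 2 ^ k := by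
    rw [orderOf_pow_of_dvd (by positivity) (by rw [h1]; exact pow_dvd_pow 2 (Nat.sub_le m k)), h1]
    rw [Nat.pow_div (Nat.sub_le m k) (by norm_num)]
    congr 1
    omega
  refine ⟨((g₀ ^ 2 ^ (m - k) : P) : G), (g₀ ^ 2 ^ (m - k)).2, ?_⟩
  rw [Subgroup.orderOf_coe, h2]

end Elements


/-- The hypothesis `O(G) = 1` passes to normal subgroups. -/
theorem odd_core_trivial_of_normal (H : Subgroup G) [hH : H.Normal]
    (hO : ∀ N : Subgroup G, N.Normal → Odd (Nat.card N) → N = ⊥) :
    ∀ N' : Subgroup H, N'.Normal → Odd (Nat.card N') → N' = ⊥ := by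
  intro N' hN' hodd
  have hle : N' ≤ Cfsg.pPrimeCore 2 H :=
    Cfsg.Agent.Lib.le_pPrimeCore hN' (Nat.coprime_two_right.2 hodd)
  haveI : (Cfsg.pPrimeCore 2 H).Characteristic := Cfsg.Agent.Lib.pPrimeCore_characteristic 2
  have hnorm : ((Cfsg.pPrimeCore 2 H).map H.subtype).Normal := inferInstance
  have hcard : Nat.card ((Cfsg.pPrimeCore 2 H).map H.subtype) = Nat.card (Cfsg.pPrimeCore 2 H) :=
    Nat.card_congr ((Cfsg.pPrimeCore 2 H).equivMapOfInjective H.subtype
      H.subtype_injective).symm.toEquiv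
  have hoddR : Odd (Nat.card ((Cfsg.pPrimeCore 2 H).map H.subtype)) := by
    rw [hcard]
    exact Nat.coprime_two_right.1 (Cfsg.Agent.Lib.card_pPrimeCore_coprime 2)
  have hbot := hO _ hnorm hoddR
  rw [Subgroup.map_eq_bot_iff_of_injective _ H.subtype_injective] at hbot
  rw [hbot] at hle
  exact le_bot_iff.1 hle

/-- **Burnside**: if `N_G(P) ≤ C_G(P)` and `O(G) = 1` then `G = P`. -/
theorem eq_top_of_normalizer_le_centralizer (P : Sylow 2 G)
    (hNC : Subgroup.normalizer ((P : Subgroup G) : Set G)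
      ≤ Subgroup.centralizer ((P : Subgroup G) : Set G))
    (hO : ∀ N : Subgroup G, N.Normal → Odd (Nat.card N) → N = ⊥) : (P : Subgroup G) = ⊤ := by
  haveI : Fact (Nat.Prime 2) := ⟨Nat.prime_two⟩
  have hcompl := MonoidHom.ker_transferSylow_isComplement' P hNC
  obtain ⟨K, hK⟩ : ∃ K : Subgroup G, K = (MonoidHom.transferSylow P hNC).ker := ⟨_, rfl⟩
  rw [← hK] at hcompl
  have hKn : K.Normal := hK ▸ MonoidHom.normal_ker _
  have hKodd : Odd (Nat.card K) := by
    have h1 : Nat.card K = (P : Subgroup G).index := by rw [← hcompl.index_eq_card]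
    rw [h1]
    apply Nat.coprime_two_right.1
    rw [Nat.coprime_comm, Nat.Prime.coprime_iff_not_dvd Nat.prime_two]
    exact P.not_dvd_index
  have hKbot := hO K hKn hKodd
  rw [hKbot] at hcompl
  exact Subgroup.isComplement'_bot_left.1 hcompl

/-- If `P` is a normal abelian Sylow 2-subgroup and `O(G) = 1` then `C_G(P) = P`. -/
theorem centralizer_eq_of_normal (P : Sylow 2 G) [hn : (P : Subgroup G).Normal]
    (hab : ∀ x ∈ P, ∀ y ∈ P, x * y = y * x)
    (hO : ∀ N : Subgroup G, N.Normal → Odd (Nat.card N) → N = ⊥) :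
    Subgroup.centralizer ((P : Subgroup G) : Set G) = (P : Subgroup G) := by
  haveI : Fact (Nat.Prime 2) := ⟨Nat.prime_two⟩
  obtain ⟨C, hC⟩ : ∃ C : Subgroup G, C = Subgroup.centralizer ((P : Subgroup G) : Set G) := ⟨_, rfl⟩
  have hCn : C.Normal := hC ▸ Subgroup.normal_centralizer
  have hPC : (P : Subgroup G) ≤ C := by
    rw [hC]
    intro x hx
    rw [Subgroup.mem_centralizer_iff]
    intro y hy
    exact hab y hy x hx
  rw [← hC]
  apply le_antisymm _ hPC
  let P' : Sylow 2 C := P.subtype hPC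
  have hP'coe : (P' : Subgroup C) = (P : Subgroup G).subgroupOf C := Sylow.coe_subtype _ _
  have hNC : Subgroup.normalizer ((P' : Subgroup C) : Set C)
      ≤ Subgroup.centralizer ((P' : Subgroup C) : Set C) := by
    intro c _
    rw [Subgroup.mem_centralizer_iff]
    intro x hx
    rw [SetLike.mem_coe, hP'coe, Subgroup.mem_subgroupOf] at hx
    apply Subtype.ext
    have hc : (c : G) ∈ Subgroup.centralizer ((P : Subgroup G) : Set G) := hC ▸ c.2
    have := (Subgroup.mem_centralizer_iff.1 hc) (x : G) hx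
    simpa using this
  have htop := eq_top_of_normalizer_le_centralizer P' hNC (odd_core_trivial_of_normal C hO)
  intro c hc
  have h1 : (⟨c, hc⟩ : C) ∈ (P' : Subgroup C) := by rw [htop]; exact Subgroup.mem_top _
  rw [hP'coe, Subgroup.mem_subgroupOf] at h1
  exact h1


/-- The property proved by induction. -/
def NormalProp (n : ℕ) : Prop :=
  ∀ (H : Type u) [Group H] [Finite H], Nat.card H = n → ∀ (Q : Sylow 2 H) (m : ℕ), 2 ≤ m →
    ((Q : Subgroup H) ≃* Multiplicative (ZMod (2 ^ m) × ZMod (2 ^ m))) →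
    (∀ N : Subgroup H, N.Normal → Odd (Nat.card N) → N = ⊥) → (Q : Subgroup H).Normal

/-- The induction step: a non-principal linear character with `P` in its kernel. -/
theorem normal_of_linear_char (P : Sylow 2 G) (m : ℕ) (hm : 2 ≤ m)
    (e : (P : Subgroup G) ≃* Multiplicative (ZMod (2 ^ m) × ZMod (2 ^ m)))
    (hO : ∀ N : Subgroup G, N.Normal → Odd (Nat.card N) → N = ⊥)
    (ih : ∀ k, k < Nat.card G → NormalProp.{u} k)
    (χ : IrrCharacter G) (hχne : χ ≠ Cfsg.Agent.Helper79.principalIrr G)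
    (hχ1 : (χ : G → ℂ) 1 = 1) (hχP : ∀ z ∈ (P : Subgroup G), (χ : G → ℂ) z = 1) :
    (P : Subgroup G).Normal := by
  haveI : Fact (Nat.Prime 2) := ⟨Nat.prime_two⟩
  let lin : G →* ℂ :=
    Cfsg.Agent.Helper79.linearHom (Cfsg.Agent.Helper74.isCharacter_of_isIrr χ.2) hχ1
  obtain ⟨H, hH⟩ : ∃ H : Subgroup G, H = lin.toHomUnits.ker := ⟨_, rfl⟩
  have hHn : H.Normal := hH ▸ MonoidHom.normal_ker _
  have hmem : ∀ g : G, g ∈ H ↔ (χ : G → ℂ) g = 1 := by
    intro g
    rw [hH, MonoidHom.mem_ker]
    constructor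
    · intro h
      have h1 : ((lin.toHomUnits g : ℂˣ) : ℂ) = 1 := by rw [h]; rfl
      rw [MonoidHom.coe_toHomUnits] at h1
      exact h1
    · intro h
      apply Units.ext
      rw [MonoidHom.coe_toHomUnits]
      exact h
  have hPH : (P : Subgroup G) ≤ H := fun z hz => (hmem z).2 (hχP z hz)
  have hHtop : H ≠ ⊤ := by
    intro htop
    apply hχne
    apply Subtype.ext
    funext g
    exact (hmem g).1 (htop ▸ Subgroup.mem_top g)
  have hcardlt : Nat.card H < Nat.card G :=
    lt_of_le_of_ne (Subgroup.card_le_card_group H) (fun h => hHtop (Subgroup.eq_top_of_card_eq H h))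
  let P' : Sylow 2 H := P.subtype hPH
  have hP'coe : (P' : Subgroup H) = (P : Subgroup G).subgroupOf H := Sylow.coe_subtype _ _
  let e' : (P' : Subgroup H) ≃* Multiplicative (ZMod (2 ^ m) × ZMod (2 ^ m)) :=
    (MulEquiv.subgroupCongr hP'coe).trans ((Subgroup.subgroupOfEquivOfLe hPH).trans e)
  have hP'n : (P' : Subgroup H).Normal :=
    ih (Nat.card H) hcardlt H rfl P' m hm e' (odd_core_trivial_of_normal H hO)
  haveI : (P' : Subgroup H).Characteristic := Sylow.characteristic_of_normal P' hP'n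
  have hmapn : ((P' : Subgroup H).map H.subtype).Normal := inferInstance
  have hmap : (P' : Subgroup H).map H.subtype = (P : Subgroup G) := by
    rw [hP'coe]
    exact Subgroup.map_subgroupOf_eq_of_le hPH
  rw [hmap] at hmapn
  exact hmapn


/-- **Normality of the Sylow 2-subgroup**, by strong induction on the group order. -/
theorem normalProp_all : ∀ n : ℕ, NormalProp.{u} n := by
  intro n
  induction n using Nat.strong_induction_on with
  | _ n ih =>
    intro H _ _ hn Q m hm e hO
    classical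
    haveI : Fact (Nat.Prime 2) := ⟨Nat.prime_two⟩
    obtain ⟨h13, hfrob⟩ := Cfsg.Agent.S0945.result Q m (by omega) e
    by_cases h1 : (Subgroup.centralizer ((Q : Subgroup H) : Set H)).relIndex
        (Subgroup.normalizer ((Q : Subgroup H) : Set H)) = 1
    · -- Burnside
      have hNC : Subgroup.normalizer ((Q : Subgroup H) : Set H)
          ≤ Subgroup.centralizer ((Q : Subgroup H) : Set H) := Subgroup.relIndex_eq_one.1 h1
      have htop := eq_top_of_normalizer_le_centralizer Q hNC hO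
      rw [htop]
      infer_instance
    · have h3 : (Subgroup.centralizer ((Q : Subgroup H) : Set H)).relIndex
          (Subgroup.normalizer ((Q : Subgroup H) : Set H)) = 3 := h13.resolve_left h1
      have hfrob' : ∀ z ∈ (Q : Subgroup H), z ≠ 1 → Subgroup.centralizer ({z} : Set H) ⊓
          Subgroup.normalizer ((Q : Subgroup H) : Set H)
            = Subgroup.centralizer ((Q : Subgroup H) : Set H) := hfrob h1
      obtain ⟨M, hM⟩ := Cfsg.Agent.Helper74.exists_isPModular 2 Nat.prime_two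
      haveI : IsMulCommutative ↥(Q : Subgroup H) := isMulCommutative_of_equiv (Q : Subgroup H) m e
      haveI := Cfsg.Agent.Helper74.irr_finite (G := H)
      letI : Fintype (IrrCharacter H) := Fintype.ofFinite _
      letI : Fintype H := Fintype.ofFinite H
      letI : Fintype ↥(principalBlock M H) := Fintype.ofFinite _
      letI : Fintype ↥(Q : Subgroup H) := Fintype.ofFinite _
      letI : Fintype (↥(Q : Subgroup H) →* ℂˣ) := Fintype.ofFinite _
      have hA : Nat.card (autP 2 Q) = 3 := by rw [card_autP, h3]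
      have h16 : 16 ∣ Nat.card (Q : Subgroup H) := by
        rw [card_of_equiv (Q : Subgroup H) m e]
        obtain ⟨k, rfl⟩ : ∃ k, m = k + 2 := ⟨m - 2, by omega⟩
        exact ⟨2 ^ k * 2 ^ k, by ring⟩
      obtain ⟨j, hjQ, hj⟩ := exists_orderOf_eq (Q : Subgroup H) m e 1 (by omega)
      obtain ⟨x, hxQ, hx⟩ := exists_orderOf_eq (Q : Subgroup H) m e 2 (by omega)
      obtain ⟨χ, hχne, hχ1, hχQ⟩ := exists_linear_char M hM Q hfrob' hA h16 j x hjQ hxQ
        (by rw [hj]; norm_num) (by rw [hx]; norm_num)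
      exact normal_of_linear_char Q m hm e hO (fun k hk => ih k (hn ▸ hk)) χ hχne hχ1 hχQ

/-- **Brauer's theorem**: a finite group with Sylow 2-subgroup `Z_{2^m} × Z_{2^m}`, `m ≥ 2`, and
no non-trivial normal subgroup of odd order has `P` normal, `C_G(P) = P` and `|G : P| ∈ {1, 3}`. -/
theorem brauer_homocyclic (P : Sylow 2 G) (m : ℕ) (hm : 2 ≤ m)
    (e : (P : Subgroup G) ≃* Multiplicative (ZMod (2 ^ m) × ZMod (2 ^ m)))
    (hO : ∀ N : Subgroup G, N.Normal → Odd (Nat.card N) → N = ⊥) :
    (P : Subgroup G).Normal ∧ Subgroup.centralizer ((P : Subgroup G) : Set G) = (P : Subgroup G) ∧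
      ((P : Subgroup G).index = 1 ∨ (P : Subgroup G).index = 3) := by
  have hn : (P : Subgroup G).Normal := normalProp_all.{u} (Nat.card G) G rfl P m hm e hO
  haveI := hn
  haveI : IsMulCommutative ↥(P : Subgroup G) := isMulCommutative_of_equiv (P : Subgroup G) m e
  have hC := centralizer_eq_of_normal P (mul_comm_of_mem 2 P) hO
  refine ⟨hn, hC, ?_⟩
  have h13 : (Subgroup.centralizer ((P : Subgroup G) : Set G)).relIndex
      (Subgroup.normalizer ((P : Subgroup G) : Set G)) = 1 ∨
      (Subgroup.centralizer ((P : Subgroup G) : Set G)).relIndex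
      (Subgroup.normalizer ((P : Subgroup G) : Set G)) = 3 :=
    (Cfsg.Agent.S0945.result P m (by omega) e).1
  rw [hC, Subgroup.normalizer_eq_top, Subgroup.relIndex_top_right] at h13
  exact h13

end Cfsg.Agent.Helper15.Homocyclic
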