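import Mathlib

/-!
# Ito core, part A: a `q`-group with an automorphism of `p`-power order in minimal position

`Q` is a finite `q`-group, `σ : MulAut Q` with `σ ^ (p ^ a) = 1`, `p ≠ q`.
`fixedSub σ` is the subgroup of fixed points.  `MinProp σ` says that every proper `σ`-invariant
subgroup is fixed pointwise.  Under `MinProp σ` and `σ ≠ 1`:

* `fixedSub σ` is normal and central, contains the commutator subgroup;
* `g⁻¹ * σ g ∈ fixedSub σ → g ∈ fixedSub σ` (general, coprimality only);
* `Nat.card Q ≡ Nat.card (fixedSub σ) [MOD p]` (general).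
-/

set_option autoImplicit false

namespace Cfsg.Agent.Helper15.ItoCore

variable {Q : Type*} [Group Q]

/-- The subgroup of fixed points of an automorphism. -/
def fixedSub (σ : MulAut Q) : Subgroup Q where
  carrier := {g | σ g = g}
  one_mem' := map_one σ
  mul_mem' := by
    intro a b ha hb
    simp only [Set.mem_ofPred_eq] at *
    rw [map_mul, ha, hb]
  inv_mem' := by
    intro a ha
    simp only [Set.mem_ofPred_eq] at *
    rw [map_inv, ha]

theorem mem_fixedSub {σ : MulAut Q} {g : Q} : g ∈ fixedSub σ ↔ σ g = g := Iff.rfl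

/-- Minimal position: every proper `σ`-invariant subgroup is fixed pointwise. -/
def MinProp (σ : MulAut Q) : Prop :=
  ∀ R : Subgroup Q, R ≠ ⊤ → (∀ g ∈ R, σ g ∈ R) → R ≤ fixedSub σ

theorem fixedSub_ne_top {σ : MulAut Q} (hσ : σ ≠ 1) : fixedSub σ ≠ ⊤ := by
  intro h
  apply hσ
  ext g
  have : g ∈ fixedSub σ := by rw [h]; trivial
  simpa using mem_fixedSub.mp this

theorem pow_apply_of_mul {σ : MulAut Q} {g c : Q} (hc : σ c = c) (hg : σ g = g * c) (m : ℕ) :
    (σ ^ m) g = g * c ^ m := by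
  induction m with
  | zero => simp
  | succ k ih =>
    rw [pow_succ', MulAut.mul_apply, ih, map_mul, map_pow, hg, hc, pow_succ', mul_assoc]

/-- Coprimality: an element moved by `σ` only by a fixed element is fixed. -/
theorem mem_fixedSub_of_inv_mul_mem {p q a : ℕ} (hp : p.Prime) (hq : q.Prime) (hpq : p ≠ q)
    (hQ : IsPGroup q Q) {σ : MulAut Q} (hσ : σ ^ (p ^ a) = 1) {g : Q}
    (h : g⁻¹ * σ g ∈ fixedSub σ) : g ∈ fixedSub σ := by
  set c := g⁻¹ * σ g with hc
  have hg : σ g = g * c := by rw [hc, mul_inv_cancel_left]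
  have h1 := pow_apply_of_mul (mem_fixedSub.mp h) hg (p ^ a)
  rw [hσ, MulAut.one_apply] at h1
  have h2 : c ^ (p ^ a) = 1 := by
    have := h1.symm
    rwa [mul_eq_left] at this
  obtain ⟨k, hk⟩ := hQ c
  have h3 : orderOf c ∣ p ^ a := orderOf_dvd_of_pow_eq_one h2
  have h4 : orderOf c ∣ q ^ k := orderOf_dvd_of_pow_eq_one hk
  have hcop : Nat.Coprime (p ^ a) (q ^ k) :=
    Nat.Coprime.pow _ _ ((Nat.coprime_primes hp hq).mpr hpq)
  have h5 : orderOf c = 1 := Nat.eq_one_of_dvd_coprimes hcop h3 h4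
  have h6 : c = 1 := orderOf_eq_one_iff.mp h5
  rw [mem_fixedSub, hg, h6, mul_one]

/-- `σ`-invariance in iff-form from the one-directional form. -/
theorem apply_mem_iff_of_forall [Finite Q] {σ : MulAut Q} {R : Subgroup Q}
    (h : ∀ g ∈ R, σ g ∈ R) (g : Q) : σ g ∈ R ↔ g ∈ R := by
  refine ⟨fun hg => ?_, h g⟩
  have hle : R.map σ.toMonoidHom ≤ R := by
    rintro _ ⟨y, hy, rfl⟩
    exact h y hy
  have hcard : Nat.card (R.map σ.toMonoidHom) = Nat.card R :=
    Subgroup.card_map_of_injective (f := σ.toMonoidHom) σ.injective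
  have heq : R.map σ.toMonoidHom = R :=
    Subgroup.eq_of_le_of_card_ge hle (le_of_eq hcard.symm)
  have : σ g ∈ R.map σ.toMonoidHom := by rw [heq]; exact hg
  obtain ⟨y, hy, hyg⟩ := this
  have : y = g := σ.injective hyg
  rwa [← this]

theorem map_fixedSub (σ : MulAut Q) : (fixedSub σ).map σ.toMonoidHom = fixedSub σ := by
  ext g
  constructor
  · rintro ⟨y, hy, rfl⟩
    have hy' : σ y = y := hy
    show σ (σ.toMonoidHom y) = σ.toMonoidHom y
    simp only [MulEquiv.coe_toMonoidHom, hy']
  · intro hg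
    exact ⟨g, hg, hg⟩

variable [Finite Q]

/-- Under minimality, the fixed subgroup is normal. -/
theorem fixedSub_normal {q : ℕ} [Fact q.Prime] (hQ : IsPGroup q Q) {σ : MulAut Q}
    (hσ : σ ≠ 1) (hM : MinProp σ) : (fixedSub σ).Normal := by
  have hnil : Group.IsNilpotent Q := hQ.isNilpotent
  have hnc := Group.normalizerCondition_of_isNilpotent (G := Q)
  have hlt : fixedSub σ < ⊤ := lt_top_iff_ne_top.mpr (fixedSub_ne_top hσ)
  have h1 := hnc _ hlt
  rw [← Subgroup.normalizer_eq_top_iff]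
  by_contra hne
  have hinv : ∀ g ∈ Subgroup.normalizer (fixedSub σ : Set Q),
      σ g ∈ Subgroup.normalizer (fixedSub σ : Set Q) := by
    intro g hg
    have h2 := Subgroup.map_equiv_normalizer_eq (fixedSub σ) σ
    rw [map_fixedSub] at h2
    rw [← h2]
    exact ⟨g, hg, rfl⟩
  have h3 := hM _ hne hinv
  exact absurd h1 (not_lt_of_ge h3)

/-- Under minimality, the fixed subgroup is central. -/
theorem fixedSub_le_center {p q a : ℕ} (hp : p.Prime) [hq : Fact q.Prime] (hpq : p ≠ q)
    (hQ : IsPGroup q Q) {σ : MulAut Q} (hσa : σ ^ (p ^ a) = 1)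
    (hσ : σ ≠ 1) (hM : MinProp σ) : fixedSub σ ≤ Subgroup.center Q := by
  have hnorm := fixedSub_normal hQ hσ hM
  intro c hc
  have hc' : σ c = c := hc
  by_contra hcen
  -- the centralizer of `c` is `σ`-invariant and proper
  have hne : Subgroup.centralizer ({c} : Set Q) ≠ ⊤ := by
    intro htop
    apply hcen
    rw [Subgroup.mem_center_iff]
    intro g
    have : g ∈ Subgroup.centralizer ({c} : Set Q) := by rw [htop]; trivial
    exact (Subgroup.mem_centralizer_iff.mp this c rfl).symm
  have hinv : ∀ g ∈ Subgroup.centralizer ({c} : Set Q),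
      σ g ∈ Subgroup.centralizer ({c} : Set Q) := by
    intro g hg
    rw [Subgroup.mem_centralizer_iff] at hg ⊢
    intro y hy
    rw [Set.mem_singleton_iff] at hy
    subst hy
    have := hg y rfl
    have h2 := congrArg σ this
    rwa [map_mul, map_mul, hc'] at h2
  have hle := hM _ hne hinv
  -- every `(σ g)⁻¹ * g` centralizes `c`
  have hall : ∀ g : Q, g⁻¹ * σ g ∈ fixedSub σ := by
    intro g
    apply hle
    rw [Subgroup.mem_centralizer_iff]
    intro y hy
    rw [Set.mem_singleton_iff] at hy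
    subst hy
    -- `g y g⁻¹` is fixed
    have h1 : g * y * g⁻¹ ∈ fixedSub σ := hnorm.conj_mem y hc g
    have h2 : σ (g * y * g⁻¹) = g * y * g⁻¹ := h1
    rw [map_mul, map_mul, hc', map_inv] at h2
    -- σ g * y * (σ g)⁻¹ = g * y * g⁻¹
    calc y * (g⁻¹ * σ g) = g⁻¹ * (g * y * g⁻¹) * σ g := by group
      _ = g⁻¹ * (σ g * y * (σ g)⁻¹) * σ g := by rw [h2]
      _ = g⁻¹ * σ g * y := by group
  apply fixedSub_ne_top hσ
  rw [eq_top_iff]
  intro g _
  exact mem_fixedSub_of_inv_mul_mem hp hq.out hpq hQ hσa (hall g)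

/-- Under minimality, the commutator subgroup is fixed pointwise. -/
theorem commutator_le_fixedSub {q : ℕ} [Fact q.Prime] (hQ : IsPGroup q Q) {σ : MulAut Q}
    (hσ : σ ≠ 1) (hM : MinProp σ) : commutator Q ≤ fixedSub σ := by
  have hnil : Group.IsNilpotent Q := hQ.isNilpotent
  have hnt : Nontrivial Q := by
    by_contra hnt
    rw [not_nontrivial_iff_subsingleton] at hnt
    apply hσ
    ext g
    exact Subsingleton.elim _ _
  have hsol : Group.IsSolvable Q := inferInstance
  have hlt : commutator Q < ⊤ := Group.IsSolvable.commutator_lt_top_of_nontrivial (G := Q)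
  apply hM _ (ne_of_lt hlt)
  intro g hg
  have hchar : (commutator Q).Characteristic := by
    rw [commutator_def]; infer_instance
  have := Subgroup.characteristic_iff_map_eq.mp hchar σ
  rw [← this]
  exact ⟨g, hg, rfl⟩

/-- Orbit counting: `|Q| ≡ |Fix σ|` modulo `p`. -/
theorem card_modEq_card_fixedSub {p a : ℕ} [hp : Fact p.Prime] {σ : MulAut Q}
    (hσa : σ ^ (p ^ a) = 1) : Nat.card Q ≡ Nat.card (fixedSub σ) [MOD p] := by
  have hpg : IsPGroup p (Subgroup.zpowers σ) := by
    rw [IsPGroup.iff_orderOf]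
    rintro ⟨τ, hτ⟩
    obtain ⟨k, rfl⟩ := Subgroup.mem_zpowers_iff.mp hτ
    have h1 : (σ ^ k) ^ (p ^ a) = 1 := by
      rw [← zpow_natCast, ← zpow_mul, mul_comm, zpow_mul, zpow_natCast, hσa, one_zpow]
    have h2 : (⟨σ ^ k, hτ⟩ : Subgroup.zpowers σ) ^ (p ^ a) = 1 := by
      apply Subtype.ext
      simpa using h1
    obtain ⟨j, _, hj⟩ := (Nat.dvd_prime_pow hp.out).mp (orderOf_dvd_of_pow_eq_one h2)
    exact ⟨j, hj⟩
  have h := hpg.card_modEq_card_fixedPoints (α := Q)
  have heq : Nat.card (MulAction.fixedPoints (Subgroup.zpowers σ) Q) = Nat.card (fixedSub σ) := by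
    apply Nat.card_congr
    refine Equiv.subtypeEquivRight ?_
    intro g
    rw [MulAction.mem_fixedPoints, mem_fixedSub]
    constructor
    · intro h
      exact h ⟨σ, Subgroup.mem_zpowers σ⟩
    · rintro h ⟨τ, hτ⟩
      obtain ⟨k, rfl⟩ := Subgroup.mem_zpowers_iff.mp hτ
      show (σ ^ k) g = g
      have hfix : g ∈ fixedSub σ := h
      have : ∀ m : ℕ, (σ ^ m) g = g := by
        intro m
        induction m with
        | zero => simp
        | succ j ih => rw [pow_succ', MulAut.mul_apply, ih, h]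
      rcases Int.eq_nat_or_neg k with ⟨m, rfl | rfl⟩
      · rw [zpow_natCast]; exact this m
      · rw [zpow_neg, zpow_natCast]
        have h2 := this m
        rw [MulAut.inv_apply, MulEquiv.symm_apply_eq, h2]
  rw [heq] at h
  exact h

end Cfsg.Agent.Helper15.ItoCore
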