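import Cfsg.Agent.Helper15.ItoCoreA
import Cfsg.Agent.Helper15.LinChar
import Cfsg.Agent.Helper74.CharBasic
import Cfsg.Agent.Helper76.CharCentral
import Cfsg.Agent.Helper80.CharLevel
import Cfsg.Agent.Helper80.Pullback
import Cfsg.Agent.Helper80.Degree

/-!
# Ito core, part B: the invariant irreducible character in minimal position

With the notation of part A, let `θ` be a `σ`-invariant irreducible character of `Q` which is
non-trivial on some `g⁻¹ * σ g`.  Then `θ` vanishes off `C = fixedSub σ`, has absolute value `θ 1`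
on `C`, hence `θ(1)² |C| = |Q|` and `θ(1)² ≡ 1 (mod p)`.
-/

set_option autoImplicit false
set_option linter.unusedSectionVars false

namespace Cfsg.Agent.Helper15.ItoCore

open Cfsg
open scoped commutatorElement

universe u

variable {Q : Type u} [Group Q] [Finite Q]

/-- An irreducible character with all commutators in its kernel is linear. -/
theorem degree_one_of_commutator_ker {θ : Q → ℂ} (hθ : IsIrrCharacter Q θ)
    (h : ∀ a b : Q, θ ⁅a, b⁆ = θ 1) : θ 1 = 1 := by
  have hchar := Helper74.isCharacter_of_isIrr hθ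
  have hle : commutator Q ≤ Helper80.kerChar θ hchar := by
    rw [commutator_def, Subgroup.commutator_le]
    intro a _ b _
    exact (Helper80.mem_kerChar hchar _).mpr (h a b)
  obtain ⟨ψ, hψ, hψθ⟩ := Helper80.IsIrrCharacter.exists_descend hθ
    (Abelianization.of (G := Q)) (fun x => QuotientGroup.induction_on x (fun g => ⟨g, rfl⟩))
    (fun g hg => by
      have : g ∈ (Abelianization.of (G := Q)).ker := hg
      rw [Abelianization.ker_of] at this
      exact (Helper80.mem_kerChar hchar _).mp (hle this))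
  have h1 := Helper76.irr_one_of_comm (fun a b : Abelianization Q => mul_comm a b) hψ
  rw [hψθ 1, map_one, h1]

/-- The preimage of the centre of `Q / K`, by hand. -/
def centerMod (K : Subgroup Q) [hK : K.Normal] : Subgroup Q where
  carrier := {g | ∀ h : Q, ⁅h, g⁆ ∈ K}
  one_mem' := by
    intro h
    rw [commutatorElement_one_right]
    exact K.one_mem
  mul_mem' := by
    intro a b ha hb h
    have : ⁅h, a * b⁆ = ⁅h, a⁆ * (a * ⁅h, b⁆ * a⁻¹) := by
      simp only [commutatorElement_def]; group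
    rw [this]
    exact K.mul_mem (ha h) (hK.conj_mem _ (hb h) a)
  inv_mem' := by
    intro a ha h
    have : ⁅h, a⁻¹⁆ = a⁻¹ * ⁅h, a⁆⁻¹ * a⁻¹⁻¹ := by
      simp only [commutatorElement_def]; group
    rw [this]
    exact hK.conj_mem _ (K.inv_mem (ha h)) a⁻¹

theorem mem_centerMod {K : Subgroup Q} [K.Normal] {g : Q} :
    g ∈ centerMod K ↔ ∀ h : Q, ⁅h, g⁆ ∈ K := Iff.rfl

/-- The main structural statement: `θ(1)² |C| = |Q|`. -/
theorem degree_sq_mul_card_fixedSub {p q a : ℕ} (hp : p.Prime) [hq : Fact q.Prime] (hpq : p ≠ q)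
    (hQ : IsPGroup q Q) {σ : MulAut Q} (hσa : σ ^ (p ^ a) = 1) (hσ : σ ≠ 1) (hM : MinProp σ)
    {θ : Q → ℂ} (hθ : IsIrrCharacter Q θ) (hinv : ∀ g, θ (σ g) = θ g)
    (hnt : ∃ g, θ (g⁻¹ * σ g) ≠ θ 1) :
    charDegree θ ^ 2 * Nat.card (fixedSub σ) = Nat.card Q := by
  classical
  have hchar := Helper74.isCharacter_of_isIrr hθ
  have hcf := Helper74.isClassFunction_of_isCharacter hchar
  have hCZ := fixedSub_le_center hp hpq hQ hσa hσ hM
  have hcomm := commutator_le_fixedSub hQ hσ hM
  set K := Helper80.kerChar θ hchar with hK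
  have hKinv : ∀ g ∈ K, σ g ∈ K := by
    intro g hg
    rw [Helper80.mem_kerChar] at hg ⊢
    rw [hinv, hg]
  have hKinv' : ∀ g, σ g ∈ K ↔ g ∈ K := apply_mem_iff_of_forall hKinv
  -- `Y`, the centre modulo the kernel, is `σ`-invariant
  have hYinv : ∀ g ∈ centerMod K, σ g ∈ centerMod K := by
    intro g hg h
    have h1 := hg (σ.symm h)
    have h2 : σ ⁅σ.symm h, g⁆ = ⁅h, σ g⁆ := by
      simp only [commutatorElement_def, map_mul, map_inv, MulEquiv.apply_symm_apply]
    rw [← h2]
    exact hKinv _ h1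
  -- `Y` is proper
  have hYne : centerMod K ≠ ⊤ := by
    intro htop
    have h1 : θ 1 = 1 := by
      apply degree_one_of_commutator_ker hθ
      intro a b
      have : b ∈ centerMod K := by rw [htop]; trivial
      exact (Helper80.mem_kerChar hchar _).mp (this a)
    obtain ⟨g, hg⟩ := hnt
    apply hg
    rw [linChar_mul hchar h1, linChar_inv hchar h1, hinv, h1,
      inv_mul_cancel₀ (linChar_ne_zero hchar h1 g)]
  have hYC := hM _ hYne hYinv
  -- vanishing off `C`
  have hvan : ∀ g : Q, g ∉ fixedSub σ → θ g = 0 := by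
    intro g hg
    have hgY : g ∉ centerMod K := fun h => hg (hYC h)
    rw [mem_centerMod] at hgY
    push Not at hgY
    obtain ⟨h, hw⟩ := hgY
    have hwZ : ⁅h, g⁆ ∈ Subgroup.center Q :=
      hCZ (hcomm (Subgroup.commutator_mem_commutator (Subgroup.mem_top h) (Subgroup.mem_top g)))
    obtain ⟨ω, hω⟩ := Helper76.irr_exists_central_scalar hθ _ hwZ
    have hω1 : ω ≠ 1 := by
      intro h1
      apply hw
      rw [Helper80.mem_kerChar]
      have := hω 1
      rwa [mul_one, h1, one_mul] at this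
    have h1 : θ (h * g * h⁻¹) = θ g := hcf g h
    have h2 : h * g * h⁻¹ = ⁅h, g⁆ * g := by
      rw [commutatorElement_def]; group
    rw [h2, hω g] at h1
    have h3 : (ω - 1) * θ g = 0 := by rw [sub_mul, one_mul, h1, sub_self]
    rcases mul_eq_zero.mp h3 with h | h
    · exact absurd (sub_eq_zero.mp h) hω1
    · exact h
  -- absolute value on `C`
  have habs : ∀ g : Q, g ∈ fixedSub σ → ‖θ g‖ = (charDegree θ : ℝ) := fun g hg =>
    Helper80.IsIrrCharacter.norm_eq_of_mem_center hθ (hCZ hg)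
  -- the sum of squares
  have : Fintype Q := Fintype.ofFinite Q
  have hsum := Helper80.IsIrrCharacter.sum_normSq hθ
  have hsplit := Finset.sum_filter_add_sum_filter_not Finset.univ
    (fun g : Q => g ∈ fixedSub σ) (fun g => (‖θ g‖ ^ 2 : ℝ))
  have h2 : (∑ g ∈ Finset.univ.filter (fun g : Q => g ∈ fixedSub σ), ‖θ g‖ ^ 2 : ℝ) =
      (charDegree θ : ℝ) ^ 2 * (Nat.card (fixedSub σ) : ℝ) := by
    rw [Finset.sum_congr rfl (fun g hg => by
      rw [habs g (Finset.mem_filter.mp hg).2]), Finset.sum_const,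
      nsmul_eq_mul, mul_comm]
    congr 2
    rw [Nat.card_eq_fintype_card, Fintype.card_subtype]
  have h3 : (∑ g ∈ Finset.univ.filter (fun g : Q => ¬ g ∈ fixedSub σ), ‖θ g‖ ^ 2 : ℝ) = 0 := by
    apply Finset.sum_eq_zero
    intro g hg
    rw [hvan g (Finset.mem_filter.mp hg).2]
    simp
  rw [h2, h3, add_zero, hsum] at hsplit
  rw [← Nat.card_eq_fintype_card] at hsplit
  exact_mod_cast hsplit

/-- The congruence `θ(1)² ≡ 1 (mod p)`. -/
theorem degree_sq_modEq_one {p q a : ℕ} [hp : Fact p.Prime] [hq : Fact q.Prime] (hpq : p ≠ q)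
    (hQ : IsPGroup q Q) {σ : MulAut Q} (hσa : σ ^ (p ^ a) = 1) (hσ : σ ≠ 1) (hM : MinProp σ)
    {θ : Q → ℂ} (hθ : IsIrrCharacter Q θ) (hinv : ∀ g, θ (σ g) = θ g)
    (hnt : ∃ g, θ (g⁻¹ * σ g) ≠ θ 1) :
    charDegree θ ^ 2 ≡ 1 [MOD p] ∧ charDegree θ ≠ 1 := by
  have h1 := degree_sq_mul_card_fixedSub hp.out hpq hQ hσa hσ hM hθ hinv hnt
  have h2 := card_modEq_card_fixedSub (p := p) hσa
  have hcop : Nat.gcd p (Nat.card (fixedSub σ)) = 1 := by
    obtain ⟨k, hk⟩ := (IsPGroup.iff_card.mp (hQ.to_subgroup (fixedSub σ)))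
    rw [hk]
    exact Nat.Coprime.pow_right _ ((Nat.coprime_primes hp.out hq.out).mpr hpq)
  refine ⟨?_, ?_⟩
  · apply Nat.ModEq.cancel_right_of_coprime hcop
    rw [h1, one_mul]
    exact h2
  · intro hd
    rw [hd, one_pow, one_mul] at h1
    apply fixedSub_ne_top hσ
    exact Subgroup.eq_top_of_card_eq _ h1

end Cfsg.Agent.Helper15.ItoCore
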