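import Cfsg.Agent.Helper15.ItoCoreB
import Cfsg.Agent.Helper15.CharAux
import Cfsg.Agent.Helper80.Induced

/-!
# Ito core, part C: the abstract theorem

`Q` a finite `q`-group, `σ` a non-trivial automorphism of `p`-power order (`p ≠ q`), `Ψ` a faithful
`σ`-invariant character of `Q` of degree `n ≤ p - 1`.  Then `n = p - 1`, `n` is a power of `q`
and `Ψ` is irreducible.
-/

set_option autoImplicit false
set_option linter.unusedSectionVars false

namespace Cfsg.Agent.Helper15.ItoCore

open Cfsg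
open scoped ComplexConjugate

universe u

section comp

variable {Q : Type u} [Group Q] [Finite Q]

/-- Composition with an automorphism, on irreducible characters. -/
noncomputable def irrComp (σ : MulAut Q) (φ : IrrCharacter Q) : IrrCharacter Q :=
  ⟨fun g => (φ : Q → ℂ) (σ g),
    Helper80.IsIrrCharacter.comp_surjective φ.2 σ.toMonoidHom σ.surjective⟩

theorem irrComp_apply (σ : MulAut Q) (φ : IrrCharacter Q) (g : Q) :
    (irrComp σ φ : Q → ℂ) g = (φ : Q → ℂ) (σ g) := rfl

theorem irrComp_iterate (σ : MulAut Q) (m : ℕ) (φ : IrrCharacter Q) (g : Q) :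
    (((irrComp σ)^[m] φ : IrrCharacter Q) : Q → ℂ) g = (φ : Q → ℂ) ((σ ^ m) g) := by
  induction m generalizing φ with
  | zero => simp
  | succ k ih => rw [Function.iterate_succ_apply, ih, irrComp_apply, pow_succ', MulAut.mul_apply]

theorem classInner_irrComp [Fintype Q] (σ : MulAut Q) {Ψ : Q → ℂ} (hΨ : ∀ g, Ψ (σ g) = Ψ g)
    (φ : IrrCharacter Q) :
    classInner Ψ (irrComp σ φ : Q → ℂ) = classInner Ψ (φ : Q → ℂ) := by
  rw [Helper74.classInner_def, Helper74.classInner_def]
  congr 1
  rw [← Equiv.sum_comp σ.toEquiv (fun g => Ψ g * conj ((φ : Q → ℂ) g))]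
  refine Finset.sum_congr rfl fun g _ => ?_
  simp only [MulEquiv.toEquiv_eq_coe, EquivLike.coe_coe, irrComp_apply, hΨ]

theorem classInner_irrComp_iterate [Fintype Q] (σ : MulAut Q) {Ψ : Q → ℂ}
    (hΨ : ∀ g, Ψ (σ g) = Ψ g) (φ : IrrCharacter Q) (i : ℕ) :
    classInner Ψ (((irrComp σ)^[i] φ : IrrCharacter Q) : Q → ℂ) = classInner Ψ (φ : Q → ℂ) := by
  induction i with
  | zero => rfl
  | succ k ih => rw [Function.iterate_succ_apply', classInner_irrComp σ hΨ, ih]

/-- Every irreducible constituent of a `σ`-invariant character of degree `< p` is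
`σ`-invariant, when `σ` has `p`-power order. -/
theorem constituent_invariant [Fintype Q] {p a : ℕ} (hp : p.Prime) {σ : MulAut Q}
    (hσa : σ ^ (p ^ a) = 1) {Ψ : Q → ℂ} (hΨ : IsCharacter Q Ψ) (hinv : ∀ g, Ψ (σ g) = Ψ g)
    (hdeg : charDegree Ψ < p) (θ : IrrCharacter Q) (hθ : classInner Ψ (θ : Q → ℂ) ≠ 0) :
    ∀ g, (θ : Q → ℂ) (σ g) = (θ : Q → ℂ) g := by
  classical
  let _ := Helper74.irrFintype Q
  have hper : Function.IsPeriodicPt (irrComp σ) (p ^ a) θ := by
    apply Subtype.ext
    funext g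
    rw [irrComp_iterate, hσa]
    rfl
  have htdvd : Function.minimalPeriod (irrComp σ) θ ∣ p ^ a := hper.minimalPeriod_dvd
  have htpos : 0 < Function.minimalPeriod (irrComp σ) θ :=
    hper.minimalPeriod_pos (pow_pos hp.pos a)
  by_cases ht1 : Function.minimalPeriod (irrComp σ) θ = 1
  · have hfix : irrComp σ θ = θ := Function.minimalPeriod_eq_one_iff_isFixedPt.mp ht1
    intro g
    exact congrArg (fun φ : IrrCharacter Q => (φ : Q → ℂ) g) hfix
  · exfalso
    obtain ⟨j, hj, htj⟩ := (Nat.dvd_prime_pow hp).mp htdvd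
    have hpt : p ≤ Function.minimalPeriod (irrComp σ) θ := by
      rw [htj]
      have hj0 : j ≠ 0 := by
        rintro rfl
        exact ht1 (by simpa using htj)
      calc p = p ^ 1 := (pow_one p).symm
        _ ≤ p ^ j := Nat.pow_le_pow_right hp.pos (Nat.one_le_iff_ne_zero.mpr hj0)
    have hinj := Function.iterate_injOn_Iio_minimalPeriod (f := irrComp σ) (x := θ)
    let S : Finset (IrrCharacter Q) :=
      (Finset.range (Function.minimalPeriod (irrComp σ) θ)).image (fun i => (irrComp σ)^[i] θ)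
    have hScard : S.card = Function.minimalPeriod (irrComp σ) θ := by
      rw [Finset.card_image_of_injOn, Finset.card_range]
      intro i hi j hj hij
      exact hinj (by simpa using hi) (by simpa using hj) hij
    have hmult : ∀ φ ∈ S, 1 ≤ Helper80.mult Ψ hΨ φ * charDegree (φ : Q → ℂ) := by
      intro φ hφ
      obtain ⟨i, _, rfl⟩ := Finset.mem_image.mp hφ
      have h1 : classInner Ψ (((irrComp σ)^[i] θ : IrrCharacter Q) : Q → ℂ) =
          classInner Ψ (θ : Q → ℂ) := classInner_irrComp_iterate σ hinv θ i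
      have h2 : Helper80.mult Ψ hΨ ((irrComp σ)^[i] θ) ≠ 0 := by
        intro h0
        apply hθ
        rw [← h1, Helper80.mult_spec Ψ hΨ, h0]
        simp
      have h3 : 0 < charDegree (((irrComp σ)^[i] θ : IrrCharacter Q) : Q → ℂ) :=
        Helper80.IsIrrCharacter.charDegree_pos ((irrComp σ)^[i] θ).2
      exact Nat.one_le_iff_ne_zero.mpr (Nat.mul_ne_zero h2 h3.ne')
    have hdegsum := Helper80.charDegree_eq_sum_mult Ψ hΨ
    have : Function.minimalPeriod (irrComp σ) θ ≤ charDegree Ψ := by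
      rw [hdegsum, ← hScard]
      calc S.card = ∑ φ ∈ S, 1 := by simp
        _ ≤ ∑ φ ∈ S, Helper80.mult Ψ hΨ φ * charDegree (φ : Q → ℂ) := Finset.sum_le_sum hmult
        _ ≤ ∑ φ : IrrCharacter Q, Helper80.mult Ψ hΨ φ * charDegree (φ : Q → ℂ) :=
          Finset.sum_le_sum_of_subset (Finset.subset_univ S)
    omega

/-- Restriction of an automorphism to an invariant subgroup. -/
def restrictAut (σ : MulAut Q) (R : Subgroup Q) (h : ∀ g, σ g ∈ R ↔ g ∈ R) : MulAut R where
  toFun g := ⟨σ g, (h g).mpr g.2⟩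
  invFun g := ⟨σ.symm g, (h _).mp (by rw [MulEquiv.apply_symm_apply]; exact g.2)⟩
  left_inv g := by
    apply Subtype.ext
    simp
  right_inv g := by
    apply Subtype.ext
    simp
  map_mul' a b := by
    apply Subtype.ext
    simp

theorem restrictAut_apply (σ : MulAut Q) (R : Subgroup Q) (h : ∀ g, σ g ∈ R ↔ g ∈ R) (g : R) :
    ((restrictAut σ R h g : R) : Q) = σ g := rfl

theorem restrictAut_pow_apply (σ : MulAut Q) (R : Subgroup Q) (h : ∀ g, σ g ∈ R ↔ g ∈ R) (m : ℕ)
    (g : R) : (((restrictAut σ R h) ^ m) g : Q) = (σ ^ m) g := by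
  induction m generalizing g with
  | zero => simp
  | succ k ih =>
    rw [pow_succ, MulAut.mul_apply, ih, restrictAut_apply, pow_succ, MulAut.mul_apply]

end comp

/-- A prime power which is one less than a prime is a power of two. -/
theorem pow_two_of_succ_prime {p q n k : ℕ} (hp : p.Prime) (hq : q.Prime) (h1 : n + 1 = p)
    (h2 : n = q ^ k) : ∃ j : ℕ, n = 2 ^ j := by
  rcases hp.eq_two_or_odd' with hp2 | hodd
  · refine ⟨0, ?_⟩
    omega
  · have heven : 2 ∣ n := by
      obtain ⟨m, hm⟩ := hodd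
      omega
    rw [h2] at heven
    have h3 : 2 ∣ q := Nat.Prime.dvd_of_dvd_pow Nat.prime_two heven
    have h4 : 2 = q := (Nat.prime_dvd_prime_iff_eq Nat.prime_two hq).mp h3
    exact ⟨k, by rw [h2, ← h4]⟩

/-- The abstract form of Ito's theorem for a `q`-group with an automorphism of `p`-power order. -/
theorem ito_abstract {p q : ℕ} [hp : Fact p.Prime] [hq : Fact q.Prime] (hpq : p ≠ q) (a : ℕ) :
    ∀ (N : ℕ) (Q : Type u) [Group Q] [Finite Q], Nat.card Q = N → IsPGroup q Q →
      ∀ σ : MulAut Q, σ ^ (p ^ a) = 1 → σ ≠ 1 →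
      ∀ Ψ : Q → ℂ, IsCharacter Q Ψ → (∀ g, Ψ g = Ψ 1 → g = 1) → (∀ g, Ψ (σ g) = Ψ g) →
      charDegree Ψ + 1 ≤ p →
      charDegree Ψ + 1 = p ∧ (∃ k : ℕ, charDegree Ψ = q ^ k) ∧ IsIrrCharacter Q Ψ := by
  intro N
  induction N using Nat.strong_induction_on with
  | _ N IH =>
  intro Q _ _ hcard hQ σ hσa hσ Ψ hΨ hfaith hinv hdeg
  classical
  have : Fintype Q := Fintype.ofFinite Q
  by_cases hM : MinProp σ
  · -- minimal position
    let _ := Helper74.irrFintype Q
    obtain ⟨g₀, hg₀⟩ : ∃ g₀, σ g₀ ≠ g₀ := by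
      by_contra hcon
      push Not at hcon
      apply hσ
      ext g
      exact hcon g
    have hw : Ψ (g₀⁻¹ * σ g₀) ≠ Ψ 1 := by
      intro h
      have := hfaith _ h
      apply hg₀
      rw [inv_mul_eq_one] at this
      exact this.symm
    -- a constituent non-trivial on `w`
    have hsum := Helper80.eq_sum_mult Ψ hΨ
    obtain ⟨θ, hθm, hθw⟩ : ∃ θ : IrrCharacter Q, Helper80.mult Ψ hΨ θ ≠ 0 ∧
        (θ : Q → ℂ) (g₀⁻¹ * σ g₀) ≠ (θ : Q → ℂ) 1 := by
      by_contra hcon
      push Not at hcon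
      apply hw
      have e1 := congrFun hsum (g₀⁻¹ * σ g₀)
      have e2 := congrFun hsum 1
      rw [e1, e2]
      simp only [Finset.sum_apply, Pi.smul_apply, smul_eq_mul]
      refine Finset.sum_congr rfl fun φ _ => ?_
      by_cases hφ : Helper80.mult Ψ hΨ φ = 0
      · rw [hφ]; simp
      · rw [hcon φ hφ]
    have hθinner : classInner Ψ (θ : Q → ℂ) ≠ 0 := by
      rw [Helper80.mult_spec Ψ hΨ]
      exact_mod_cast hθm
    have hθinv := constituent_invariant hp.out hσa hΨ hinv (by omega) θ hθinner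
    obtain ⟨hmod, hd1⟩ := degree_sq_modEq_one hpq hQ hσa hσ hM θ.2 hθinv ⟨g₀, hθw⟩
    have hdpos : 0 < charDegree (θ : Q → ℂ) := Helper80.IsIrrCharacter.charDegree_pos θ.2
    have hdegsum := Helper80.charDegree_eq_sum_mult Ψ hΨ
    have hdle : charDegree (θ : Q → ℂ) ≤ charDegree Ψ := by
      rw [hdegsum]
      calc charDegree (θ : Q → ℂ) ≤ Helper80.mult Ψ hΨ θ * charDegree (θ : Q → ℂ) :=
            Nat.le_mul_of_pos_left _ (Nat.pos_of_ne_zero hθm)
        _ ≤ ∑ φ : IrrCharacter Q, Helper80.mult Ψ hΨ φ * charDegree (φ : Q → ℂ) :=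
            Finset.single_le_sum (f := fun φ : IrrCharacter Q =>
              Helper80.mult Ψ hΨ φ * charDegree (φ : Q → ℂ)) (fun _ _ => Nat.zero_le _)
              (Finset.mem_univ θ)
    -- arithmetic
    have hdvd : p ∣ charDegree (θ : Q → ℂ) ^ 2 - 1 :=
      (Nat.modEq_iff_dvd' (Nat.one_le_pow _ _ hdpos)).mp hmod.symm
    have hfac : charDegree (θ : Q → ℂ) ^ 2 - 1 =
        (charDegree (θ : Q → ℂ) - 1) * (charDegree (θ : Q → ℂ) + 1) := by
      obtain ⟨d, hd⟩ : ∃ d, charDegree (θ : Q → ℂ) = d + 1 := ⟨_, (Nat.succ_pred_eq_of_pos hdpos).symm⟩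
      rw [hd]
      simp only [Nat.add_sub_cancel]
      ring_nf
      omega
    rw [hfac] at hdvd
    have hdn : charDegree (θ : Q → ℂ) = charDegree Ψ ∧ charDegree Ψ + 1 = p := by
      rcases (Nat.Prime.dvd_mul hp.out).mp hdvd with h | h
      · exfalso
        have := Nat.le_of_dvd (by omega) h
        omega
      · have := Nat.le_of_dvd (by omega) h
        omega
    obtain ⟨hdeq, hnp⟩ := hdn
    refine ⟨hnp, ?_, ?_⟩
    · have h1 := Helper80.IsIrrCharacter.charDegree_dvd_card θ.2
      obtain ⟨m, hm⟩ := IsPGroup.iff_card.mp hQ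
      rw [hm] at h1
      obtain ⟨k, _, hk⟩ := (Nat.dvd_prime_pow hq.out).mp h1
      exact ⟨k, by rw [← hdeq, hk]⟩
    · -- `Ψ = θ`
      have hsplit := Finset.add_sum_erase Finset.univ
        (fun φ : IrrCharacter Q => Helper80.mult Ψ hΨ φ * charDegree (φ : Q → ℂ)) (Finset.mem_univ θ)
      rw [← hdegsum] at hsplit
      have hm1 : Helper80.mult Ψ hΨ θ = 1 := by
        rw [hdeq] at hsplit
        have h1 : Helper80.mult Ψ hΨ θ * charDegree Ψ ≤ charDegree Ψ := by omega
        have h2 : 0 < charDegree Ψ := by omega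
        have h3 : Helper80.mult Ψ hΨ θ ≤ 1 := by
          by_contra hcon
          push Not at hcon
          have : 2 * charDegree Ψ ≤ Helper80.mult Ψ hΨ θ * charDegree Ψ :=
            Nat.mul_le_mul_right _ hcon
          omega
        have h4 := Nat.pos_of_ne_zero hθm
        omega
      have hrest : ∑ φ ∈ Finset.univ.erase θ,
          Helper80.mult Ψ hΨ φ * charDegree (φ : Q → ℂ) = 0 := by
        rw [hm1, hdeq, one_mul] at hsplit
        omega
      have hzero : ∀ φ : IrrCharacter Q, φ ≠ θ → Helper80.mult Ψ hΨ φ = 0 := by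
        intro φ hφ
        have := (Finset.sum_eq_zero_iff.mp hrest) φ (Finset.mem_erase.mpr ⟨hφ, Finset.mem_univ φ⟩)
        rcases Nat.mul_eq_zero.mp this with h | h
        · exact h
        · exact absurd h (Helper80.IsIrrCharacter.charDegree_pos φ.2).ne'
      have hΨθ : Ψ = (θ : Q → ℂ) := by
        rw [hsum, Finset.sum_eq_single θ]
        · rw [hm1]; simp
        · intro φ _ hφ
          rw [hzero φ hφ]; simp
        · intro h
          exact absurd (Finset.mem_univ θ) h
      rw [hΨθ]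
      exact θ.2
  · -- not minimal: pass to a smaller invariant subgroup
    unfold MinProp at hM
    push Not at hM
    obtain ⟨R, hRtop, hRinv, hRfix⟩ := hM
    have hRinv' := apply_mem_iff_of_forall hRinv
    have hRcard : Nat.card R < N := by
      rw [← hcard]
      by_contra hcon
      push Not at hcon
      apply hRtop
      exact Subgroup.eq_top_of_card_eq _ (le_antisymm (Subgroup.card_le_card_group R) hcon)
    have hσR1 : restrictAut σ R hRinv' ≠ 1 := by
      intro h1
      apply hRfix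
      intro g hg
      have := congrArg (fun τ : MulAut R => ((τ ⟨g, hg⟩ : R) : Q)) h1
      have h2 : σ g = g := by simpa [restrictAut_apply] using this
      exact h2
    have hσRa : (restrictAut σ R hRinv') ^ (p ^ a) = 1 := by
      ext g
      rw [restrictAut_pow_apply, hσa]
      rfl
    have hres := IH (Nat.card R) hRcard (↥R) rfl (hQ.to_subgroup R) (restrictAut σ R hRinv')
      hσRa hσR1 (fun r : R => Ψ r) (Helper74.isCharacter_restrict R hΨ)
      (fun g hg => by
        have := hfaith (g : Q) hg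
        exact Subtype.ext this)
      (fun g => hinv g) hdeg
    have hdegeq : charDegree (fun r : R => Ψ r) = charDegree Ψ := rfl
    rw [hdegeq] at hres
    obtain ⟨h1, h2, h3⟩ := hres
    refine ⟨h1, h2, ?_⟩
    exact isIrrCharacter_of_comp R.subtype hΨ h3

end Cfsg.Agent.Helper15.ItoCore
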