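import Cfsg.Agent.Helper15.ItoCoreC
import Cfsg.Agent.Helper48.CoprimeGen

/-!
# Ito core, part D: the ambient forms

* `ito_ambient`: a `p`-element `x` normalizing but not centralizing a `q`-subgroup `Q` of `G`,
  `χ` a faithful character of degree `n ≤ p - 1`: then `n + 1 = p`, `n = 2 ^ k`, `χ` irreducible.
* `ito_endgame`: the same conclusion when a `p`-element does not centralize a normal
  `p'`-subgroup `T`.
-/

set_option autoImplicit false
set_option linter.unusedSectionVars false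

namespace Cfsg.Agent.Helper15.ItoCore

open Cfsg

universe u

variable {G : Type u} [Group G] [Finite G]

theorem ito_ambient {p q a : ℕ} [hp : Fact p.Prime] [hq : Fact q.Prime] (hpq : p ≠ q)
    {χ : G → ℂ} (hχ : IsCharacter G χ) (hfaith : ∀ g : G, χ g = χ 1 → g = 1)
    (hdeg : charDegree χ + 1 ≤ p) (Q : Subgroup G) (hQ : IsPGroup q Q) (x : G)
    (hxQ : x ∈ Subgroup.normalizer (Q : Set G)) (hxa : x ^ (p ^ a) = 1)
    (hnc : ∃ g ∈ Q, x * g * x⁻¹ ≠ g) :
    charDegree χ + 1 = p ∧ (∃ k : ℕ, charDegree χ = 2 ^ k) ∧ IsIrrCharacter G χ := by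
  classical
  have : Fintype G := Fintype.ofFinite G
  have hinv : ∀ g, (MulAut.conj x) g ∈ Q ↔ g ∈ Q := by
    intro g
    rw [MulAut.conj_apply]
    exact (Subgroup.mem_normalizer_iff.mp hxQ g).symm
  have hσa : (restrictAut (MulAut.conj x) Q hinv) ^ (p ^ a) = 1 := by
    ext g
    rw [restrictAut_pow_apply, ← map_pow, hxa, map_one]
    rfl
  have hσ1 : restrictAut (MulAut.conj x) Q hinv ≠ 1 := by
    intro h1
    obtain ⟨g, hg, hne⟩ := hnc
    apply hne
    have := congrArg (fun τ : MulAut Q => ((τ ⟨g, hg⟩ : Q) : G)) h1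
    simpa [restrictAut_apply] using this
  have hcf := Helper74.isClassFunction_of_isCharacter hχ
  have hres := ito_abstract (p := p) (q := q) hpq a (Nat.card Q) (↥Q) rfl hQ
    (restrictAut (MulAut.conj x) Q hinv) hσa hσ1 (fun r : Q => χ r)
    (Helper74.isCharacter_restrict Q hχ)
    (fun g hg => Subtype.ext (hfaith (g : G) hg))
    (fun g => by
      rw [restrictAut_apply, MulAut.conj_apply]
      exact hcf _ _) hdeg
  have hdegeq : charDegree (fun r : Q => χ r) = charDegree χ := rfl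
  rw [hdegeq] at hres
  obtain ⟨h1, ⟨k, h2⟩, h3⟩ := hres
  exact ⟨h1, pow_two_of_succ_prime hp.out hq.out h1 h2, isIrrCharacter_of_comp Q.subtype hχ h3⟩

theorem ito_endgame {p a : ℕ} [hp : Fact p.Prime]
    {χ : G → ℂ} (hχ : IsCharacter G χ) (hfaith : ∀ g : G, χ g = χ 1 → g = 1)
    (hdeg : charDegree χ + 1 ≤ p) (T : Subgroup G) [hT : T.Normal] (hpT : ¬ p ∣ Nat.card T)
    (x : G) (hxa : x ^ (p ^ a) = 1) (hnc : ∃ t ∈ T, x * t * x⁻¹ ≠ t) :
    charDegree χ + 1 = p ∧ (∃ k : ℕ, charDegree χ = 2 ^ k) ∧ IsIrrCharacter G χ := by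
  have hA : IsPGroup p (Subgroup.zpowers x) := by
    rw [IsPGroup.iff_orderOf]
    rintro ⟨y, hy⟩
    obtain ⟨k, rfl⟩ := Subgroup.mem_zpowers_iff.mp hy
    have h1 : (x ^ k) ^ (p ^ a) = 1 := by
      rw [← zpow_natCast, ← zpow_mul, mul_comm, zpow_mul, zpow_natCast, hxa, one_zpow]
    have h2 : (⟨x ^ k, hy⟩ : Subgroup.zpowers x) ^ (p ^ a) = 1 := by
      apply Subtype.ext
      simpa using h1
    obtain ⟨j, _, hj⟩ := (Nat.dvd_prime_pow hp.out).mp (orderOf_dvd_of_pow_eq_one h2)
    exact ⟨j, hj⟩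
  have hAT : Subgroup.zpowers x ≤ Subgroup.normalizer (T : Set G) := by
    rw [Subgroup.normalizer_eq_top]
    exact le_top
  -- some invariant Sylow subgroup of `T` is not centralized by `x`
  obtain ⟨q, hq, S, hSinv, hSnc⟩ : ∃ (q : ℕ) (_ : Fact q.Prime) (S : Sylow q T),
      (∀ a ∈ Subgroup.zpowers x, ∀ y : T, y ∈ S → ∀ hy : a * (y : G) * a⁻¹ ∈ T,
        (⟨a * y * a⁻¹, hy⟩ : T) ∈ S) ∧
      ¬ (S : Subgroup T).map T.subtype ≤ Subgroup.centralizer {x} := by
    by_contra hcon
    push Not at hcon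
    have hle : T ≤ T ⊓ Subgroup.centralizer {x} := by
      apply Helper48.le_of_forall_sylow_le inf_le_left
      intro q hq
      obtain ⟨S, hS⟩ := Helper48.exists_invariant_sylow T (Subgroup.zpowers x) hAT hA hpT q
      refine ⟨S, le_inf ?_ (hcon q hq S hS)⟩
      rintro _ ⟨y, _, rfl⟩
      exact y.2
    obtain ⟨t, ht, hne⟩ := hnc
    apply hne
    have this : t ∈ Subgroup.centralizer {x} := (hle ht).2
    rw [Subgroup.mem_centralizer_iff] at this
    have h2 := this x rfl
    rw [h2, mul_inv_cancel_right]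
  have hpq : p ≠ q := by
    rintro rfl
    apply hpT
    by_contra hnd
    apply hSnc
    have hcard : Nat.card S = 1 := by
      rw [S.card_eq_multiplicity, Nat.factorization_eq_zero_of_not_dvd hnd, pow_zero]
    have hbot : (S : Subgroup T) = ⊥ := Subgroup.card_eq_one.mp hcard
    rw [hbot, Subgroup.map_bot]
    exact bot_le
  set Q : Subgroup G := (S : Subgroup T).map T.subtype with hQdef
  have hQ : IsPGroup q Q := S.2.map T.subtype
  have hxQ : x ∈ Subgroup.normalizer (Q : Set G) := by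
    have : Subgroup.zpowers x ≤ Subgroup.normalizer (Q : Set G) := by
      apply Helper48.mem_normalizer_of_forall_conj_mem
      rintro a ha _ ⟨y, hy, rfl⟩
      have hy' : a * (y : G) * a⁻¹ ∈ T := hT.conj_mem _ y.2 a
      exact ⟨⟨a * y * a⁻¹, hy'⟩, hSinv a ha y hy hy', rfl⟩
    exact this (Subgroup.mem_zpowers x)
  have hnc' : ∃ g ∈ Q, x * g * x⁻¹ ≠ g := by
    by_contra hcon
    push Not at hcon
    apply hSnc
    intro g hg
    rw [Subgroup.mem_centralizer_iff]
    intro y hy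
    rw [Set.mem_singleton_iff] at hy
    subst hy
    have := hcon g hg
    calc y * g = y * g * y⁻¹ * y := by group
      _ = g * y := by rw [this]
  exact ito_ambient hpq hχ hfaith hdeg Q hQ x hxQ hxa hnc'

end Cfsg.Agent.Helper15.ItoCore
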