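import Cfsg.Agent.Helper15.ItoCoreD

/-!
# Ito core, part E: group-level helper lemmas

* `abelian_of_faithful_small`: a faithful character of degree `< p` forces `p`-subgroups to be
  abelian;
* `sylow_normal_of_normal_le`: Frattini argument form.
-/

set_option autoImplicit false
set_option linter.unusedSectionVars false

namespace Cfsg.Agent.Helper15.ItoCore

open Cfsg
open scoped commutatorElement

universe u

variable {G : Type u} [Group G] [Finite G]

/-- A linear character is trivial on commutators. -/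
theorem linChar_commutator {lam : G → ℂ} (h : IsCharacter G lam) (h1 : lam 1 = 1) (a b : G) :
    lam ⁅a, b⁆ = 1 := by
  rw [commutatorElement_def, linChar_mul h h1, linChar_mul h h1, linChar_mul h h1,
    linChar_inv h h1, linChar_inv h h1]
  have ha := linChar_ne_zero h h1 a
  have hb := linChar_ne_zero h h1 b
  field_simp

/-- A faithful character of degree `< p` forces `p`-subgroups to be abelian. -/
theorem abelian_of_faithful_small {p : ℕ} [hp : Fact p.Prime] {χ : G → ℂ} (hχ : IsCharacter G χ)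
    (hfaith : ∀ g : G, χ g = χ 1 → g = 1) (hdeg : charDegree χ < p) (S : Subgroup G)
    (hS : IsPGroup p S) : ∀ a ∈ S, ∀ b ∈ S, a * b = b * a := by
  classical
  have : Fintype G := Fintype.ofFinite G
  let _ := Helper74.irrFintype S
  intro a ha b hb
  set Ψ : S → ℂ := fun r => χ r with hΨdef
  have hΨ : IsCharacter S Ψ := Helper74.isCharacter_restrict S hχ
  have hsum := Helper80.eq_sum_mult Ψ hΨ
  have hdegsum := Helper80.charDegree_eq_sum_mult Ψ hΨ
  have hdegeq : charDegree Ψ = charDegree χ := rfl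
  have hlin : ∀ φ : IrrCharacter S, Helper80.mult Ψ hΨ φ ≠ 0 → (φ : S → ℂ) 1 = 1 := by
    intro φ hφ
    have h1 : charDegree (φ : S → ℂ) ≤ charDegree Ψ := by
      rw [hdegsum]
      calc charDegree (φ : S → ℂ) ≤ Helper80.mult Ψ hΨ φ * charDegree (φ : S → ℂ) :=
            Nat.le_mul_of_pos_left _ (Nat.pos_of_ne_zero hφ)
        _ ≤ ∑ φ : IrrCharacter S, Helper80.mult Ψ hΨ φ * charDegree (φ : S → ℂ) :=
            Finset.single_le_sum (f := fun φ : IrrCharacter S =>
              Helper80.mult Ψ hΨ φ * charDegree (φ : S → ℂ)) (fun _ _ => Nat.zero_le _)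
              (Finset.mem_univ φ)
    have h2 := Helper80.IsIrrCharacter.charDegree_dvd_card φ.2
    obtain ⟨m, hm⟩ := IsPGroup.iff_card.mp hS
    rw [hm] at h2
    obtain ⟨j, _, hj⟩ := (Nat.dvd_prime_pow hp.out).mp h2
    have hj0 : j = 0 := by
      by_contra hne
      have : p ≤ p ^ j := by
        calc p = p ^ 1 := (pow_one p).symm
          _ ≤ p ^ j := Nat.pow_le_pow_right hp.out.pos (Nat.one_le_iff_ne_zero.mpr hne)
      omega
    rw [hj0, pow_zero] at hj
    have h3 := Helper80.IsCharacter.charDegree_cast (Helper74.isCharacter_of_isIrr φ.2)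
    rw [hj] at h3
    rw [← h3]; simp
  have hcomm : Ψ ⁅(⟨a, ha⟩ : S), ⟨b, hb⟩⁆ = Ψ 1 := by
    have e1 := congrFun hsum ⁅(⟨a, ha⟩ : S), ⟨b, hb⟩⁆
    have e2 := congrFun hsum 1
    rw [e1, e2]
    simp only [Finset.sum_apply, Pi.smul_apply, smul_eq_mul]
    refine Finset.sum_congr rfl fun φ _ => ?_
    by_cases hφ : Helper80.mult Ψ hΨ φ = 0
    · rw [hφ]; simp
    · rw [linChar_commutator (Helper74.isCharacter_of_isIrr φ.2) (hlin φ hφ), hlin φ hφ]
  have h1 : ((⁅(⟨a, ha⟩ : S), ⟨b, hb⟩⁆ : S) : G) = 1 := hfaith _ hcomm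
  have h2 : ⁅a, b⁆ = 1 := by
    rw [← h1]
    rfl
  exact commutatorElement_eq_one_iff_mul_comm.mp h2

/-- Frattini argument: a Sylow subgroup of `G` contained in a normal subgroup which normalizes
it is normal in `G`. -/
theorem sylow_normal_of_normal_le {p : ℕ} [Fact p.Prime] (P : Sylow p G) (L : Subgroup G)
    [L.Normal] (hPL : (P : Subgroup G) ≤ L)
    (hLN : L ≤ Subgroup.normalizer ((P : Subgroup G) : Set G)) : (P : Subgroup G).Normal := by
  have h : Subgroup.normalizer ((P : Subgroup G) : Set G) ⊔ L = ⊤ :=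
    Sylow.normalizer_sup_eq_top' P hPL
  rw [sup_eq_left.mpr hLN] at h
  exact Subgroup.normalizer_eq_top_iff.mp h

end Cfsg.Agent.Helper15.ItoCore
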