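import Mathlib
import Cfsg.Prelude.Def_Blocks
import Cfsg.Agent.Helper74.CharBasic
import Cfsg.Agent.Helper74.ThreeDegA
import Cfsg.Agent.Helper80.DegGraph2
import Cfsg.Agent.Helper80.Induced
import Cfsg.Agent.Helper80.Pullback
import Cfsg.Agent.Helper15.IndChar
import Cfsg.Agent.Helper15.ConjChar

/-!
# Groups with irreducible character degrees bounded by `b` (Isaacs, Chapter 12): basics

* `AllDegLe G b`: every irreducible character of `G` has degree at most `b`.
* heredity to subgroups and quotients;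
* the extension lemma: if `ψ ∈ Irr(H)` has degree `b` and `AllDegLe G b`, then every irreducible
  constituent of `ψ^G` restricts to `ψ`, `(ψ^G)_H = [G:H] ψ`, and `ψ` vanishes at every element of
  `H` having a conjugate outside `H`.
-/

set_option autoImplicit false

namespace Cfsg.Agent.Helper15.MaxDeg

open Cfsg
open scoped ComplexConjugate

universe u

/-- Every irreducible character has degree at most `b`. -/
def AllDegLe (G : Type u) [Group G] (b : ℕ) : Prop :=
  ∀ χ : IrrCharacter G, charDegree (χ : G → ℂ) ≤ b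

theorem AllDegLe.mono {G : Type u} [Group G] {b c : ℕ} (h : AllDegLe G b) (hbc : b ≤ c) :
    AllDegLe G c := fun χ => (h χ).trans hbc

section basic

variable {G : Type u} [Group G] [Fintype G]

omit [Fintype G] in
theorem charDegree_restrict (H : Subgroup G) (χ : G → ℂ) :
    charDegree (fun h : H => χ h) = charDegree χ := rfl

/-- A constituent of the restriction of `χ` has degree at most `χ(1)`. -/
theorem degree_le_of_restrict_constituent (H : Subgroup G) [Fintype H] (χ : IrrCharacter G)
    (ψ : IrrCharacter H)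
    (hne : classInner (fun h : H => (χ : G → ℂ) h) (ψ : H → ℂ) ≠ 0) :
    charDegree (ψ : H → ℂ) ≤ charDegree (χ : G → ℂ) := by
  classical
  let _ : Fintype (IrrCharacter H) := Helper74.irrFintype H
  have hΨ : IsCharacter H (fun h : H => (χ : G → ℂ) h) :=
    Helper74.isCharacter_restrict H (Helper74.irr_isCharacter χ)
  have hm : (Helper80.mult _ hΨ ψ : ℂ) ≠ 0 := by
    rw [← Helper80.mult_spec]
    exact hne
  have hm1 : 1 ≤ Helper80.mult _ hΨ ψ := Nat.one_le_iff_ne_zero.mpr (by exact_mod_cast hm)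
  have hdeg := Helper80.charDegree_eq_sum_mult _ hΨ
  rw [charDegree_restrict] at hdeg
  rw [hdeg]
  calc charDegree (ψ : H → ℂ) = 1 * charDegree (ψ : H → ℂ) := (one_mul _).symm
    _ ≤ Helper80.mult _ hΨ ψ * charDegree (ψ : H → ℂ) := Nat.mul_le_mul_right _ hm1
    _ ≤ ∑ ψ' : IrrCharacter H, Helper80.mult _ hΨ ψ' * charDegree (ψ' : H → ℂ) :=
        Finset.single_le_sum (f := fun ψ' : IrrCharacter H =>
          Helper80.mult _ hΨ ψ' * charDegree (ψ' : H → ℂ)) (fun _ _ => Nat.zero_le _)
          (Finset.mem_univ ψ)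

theorem AllDegLe.subgroup {b : ℕ} (hG : AllDegLe G b) (H : Subgroup G) : AllDegLe H b := by
  classical
  let _ : Fintype H := Fintype.ofFinite H
  intro ψ
  obtain ⟨χ, hχ⟩ := Helper74.ThreeDeg.exists_irr_over' H ψ
  exact (degree_le_of_restrict_constituent H χ ψ hχ).trans (hG χ)

end basic

theorem AllDegLe.of_surjective {G Q : Type u} [Group G] [Group Q] {b : ℕ}
    (hG : AllDegLe G b) (f : G →* Q) (hf : Function.Surjective f) : AllDegLe Q b := by
  intro ψ
  have hirr : IsIrrCharacter G (fun g => (ψ : Q → ℂ) (f g)) :=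
    Helper80.IsIrrCharacter.comp_surjective ψ.2 f hf
  have h := hG ⟨_, hirr⟩
  have hd : charDegree (fun g => (ψ : Q → ℂ) (f g)) = charDegree (ψ : Q → ℂ) := by
    unfold charDegree
    simp only [map_one]
  rw [← hd]
  exact h

section ext

variable {G : Type u} [Group G] [Fintype G]

/-- **Extension lemma.**  If `ψ ∈ Irr(H)` has the largest possible degree `b`, every irreducible
constituent of `ψ^G` restricts to `ψ`. -/
theorem restrict_eq_of_ind_constituent (H : Subgroup G) [Fintype H] {b : ℕ} (hG : AllDegLe G b)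
    (ψ : IrrCharacter H) (hψ : charDegree (ψ : H → ℂ) = b) (χ : IrrCharacter G)
    (hχ : classInner (indFun H (ψ : H → ℂ)) (χ : G → ℂ) ≠ 0) :
    (fun h : H => (χ : G → ℂ) h) = (ψ : H → ℂ) := by
  have hcf : IsClassFunction G (χ : G → ℂ) :=
    Helper74.isClassFunction_of_isCharacter (Helper74.irr_isCharacter χ)
  rw [Helper15.frobenius_reciprocity H (ψ : H → ℂ) (χ : G → ℂ) hcf] at hχ
  have hne : classInner (fun h : H => (χ : G → ℂ) h) (ψ : H → ℂ) ≠ 0 := by
    intro h0
    apply hχ
    rw [← Helper15.classInner_conj_symm, h0, map_zero]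
  have hΨ : IsCharacter H (fun h : H => (χ : G → ℂ) h) :=
    Helper74.isCharacter_restrict H (Helper74.irr_isCharacter χ)
  refine Helper80.DegGraph.eq_of_constituent_of_degree_le hΨ ψ hne ?_
  rw [charDegree_restrict, hψ]
  exact hG χ

/-- There is an irreducible character of `G` extending `ψ`. -/
theorem exists_extension (H : Subgroup G) [Fintype H] {b : ℕ} (hG : AllDegLe G b)
    (ψ : IrrCharacter H) (hψ : charDegree (ψ : H → ℂ) = b) :
    ∃ χ : IrrCharacter G, (fun h : H => (χ : G → ℂ) h) = (ψ : H → ℂ) := by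
  have hind : IsCharacter G (indFun H (ψ : H → ℂ)) :=
    Helper15.isCharacter_indFun H (Helper74.irr_isCharacter ψ)
  have h1 : indFun H (ψ : H → ℂ) 1 ≠ 0 := by
    rw [Helper15.indFun_apply_one]
    refine mul_ne_zero ?_ (Helper80.IsIrrCharacter.map_one_ne_zero ψ.2)
    exact_mod_cast H.index_ne_zero_of_finite
  obtain ⟨χ, hχ⟩ := Helper81.exists_irr_constituent hind h1
  exact ⟨χ, restrict_eq_of_ind_constituent H hG ψ hψ χ hχ⟩

/-- `(ψ^G)_H = [G:H] ψ`. -/
theorem indFun_restrict (H : Subgroup G) [Fintype H] {b : ℕ} (hG : AllDegLe G b)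
    (ψ : IrrCharacter H) (hψ : charDegree (ψ : H → ℂ) = b) (h : H) :
    indFun H (ψ : H → ℂ) (h : G) = (H.index : ℂ) * (ψ : H → ℂ) h := by
  classical
  let _ : Fintype (IrrCharacter G) := Helper74.irrFintype G
  have hind : IsCharacter G (indFun H (ψ : H → ℂ)) :=
    Helper15.isCharacter_indFun H (Helper74.irr_isCharacter ψ)
  have hdec := Helper80.eq_sum_mult _ hind
  have key : ∀ k : H, indFun H (ψ : H → ℂ) (k : G) =
      (∑ χ : IrrCharacter G, (Helper80.mult _ hind χ : ℂ)) * (ψ : H → ℂ) k := by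
    intro k
    have h1 := congrFun hdec (k : G)
    rw [h1, Finset.sum_apply, Finset.sum_mul]
    refine Finset.sum_congr rfl fun χ _ => ?_
    rw [Pi.smul_apply, smul_eq_mul]
    by_cases hm : Helper80.mult _ hind χ = 0
    · rw [hm]; simp
    · have hne : classInner (indFun H (ψ : H → ℂ)) (χ : G → ℂ) ≠ 0 := by
        rw [Helper80.mult_spec _ hind χ]
        exact_mod_cast hm
      have hres := restrict_eq_of_ind_constituent H hG ψ hψ χ hne
      have := congrFun hres k
      rw [this]
  have h1 := key 1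
  rw [Subgroup.coe_one, Helper15.indFun_apply_one] at h1
  have hψ1 : (ψ : H → ℂ) 1 ≠ 0 := Helper80.IsIrrCharacter.map_one_ne_zero ψ.2
  have hsum : (∑ χ : IrrCharacter G, (Helper80.mult _ hind χ : ℂ)) = (H.index : ℂ) :=
    (mul_right_cancel₀ hψ1 h1).symm
  rw [key h, hsum]

/-- **Vanishing lemma.**  A character `ψ ∈ Irr(H)` of the largest possible degree vanishes at
every element of `H` having a `G`-conjugate outside `H`. -/
theorem eq_zero_of_conj_not_mem (H : Subgroup G) [Fintype H] {b : ℕ} (hG : AllDegLe G b)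
    (ψ : IrrCharacter H) (hψ : charDegree (ψ : H → ℂ) = b) (h : H) (g : G)
    (hg : g⁻¹ * (h : G) * g ∉ H) : (ψ : H → ℂ) h = 0 := by
  classical
  by_contra hne
  have hidx : (H.index : ℂ) ≠ 0 := by exact_mod_cast H.index_ne_zero_of_finite
  -- each term of the induced character formula
  have hterm : ∀ x : G, extendByZero H (ψ : H → ℂ) (x⁻¹ * (h : G) * x) =
      (if x⁻¹ * (h : G) * x ∈ H then 1 else 0) * (ψ : H → ℂ) h := by
    intro x
    by_cases hx : x⁻¹ * (h : G) * x ∈ H
    · rw [if_pos hx, one_mul, Helper15.extendByZero_of_mem H _ hx]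
      have h1 := indFun_restrict H hG ψ hψ ⟨_, hx⟩
      have h2 := indFun_restrict H hG ψ hψ h
      have h3 : indFun H (ψ : H → ℂ) (x⁻¹ * (h : G) * x) = indFun H (ψ : H → ℂ) (h : G) := by
        have := Helper15.indFun_conj H (ψ : H → ℂ) (h : G) x⁻¹
        rwa [inv_inv] at this
      simp only at h1
      rw [h3, h2] at h1
      exact (mul_left_cancel₀ hidx h1).symm
    · rw [if_neg hx, zero_mul, Helper15.extendByZero_of_not_mem H _ hx]
  have hform := indFun_restrict H hG ψ hψ h
  rw [Helper15.indFun_apply, Finset.sum_congr rfl (fun x _ => hterm x), ← Finset.sum_mul,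
    ← mul_assoc] at hform
  have h4 := mul_right_cancel₀ hne hform
  rw [Finset.sum_ite, Finset.sum_const_zero, add_zero, Finset.sum_const, nsmul_eq_mul,
    mul_one] at h4
  have hcardH : (Nat.card H : ℂ) ≠ 0 := by
    exact_mod_cast (Nat.card_pos (α := H)).ne'
  have h5 : ((Finset.univ.filter fun x : G => x⁻¹ * (h : G) * x ∈ H).card : ℂ) =
      (Nat.card H : ℂ) * (H.index : ℂ) := by
    rw [← h4, ← mul_assoc, mul_inv_cancel₀ hcardH, one_mul]
  have h6 : (Finset.univ.filter fun x : G => x⁻¹ * (h : G) * x ∈ H).card = Nat.card G := by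
    have : ((Finset.univ.filter fun x : G => x⁻¹ * (h : G) * x ∈ H).card : ℂ) =
        ((Nat.card H * H.index : ℕ) : ℂ) := by
      rw [h5]; push_cast; rfl
    have h7 : (Finset.univ.filter fun x : G => x⁻¹ * (h : G) * x ∈ H).card =
        Nat.card H * H.index := by exact_mod_cast this
    rw [h7, Subgroup.card_mul_index]
  have h8 : (Finset.univ.filter fun x : G => x⁻¹ * (h : G) * x ∈ H) = Finset.univ := by
    apply Finset.eq_univ_of_card
    rw [h6, Nat.card_eq_fintype_card]
  have : g ∈ (Finset.univ.filter fun x : G => x⁻¹ * (h : G) * x ∈ H) := by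
    rw [h8]; exact Finset.mem_univ g
  exact hg (Finset.mem_filter.mp this).2

end ext

end Cfsg.Agent.Helper15.MaxDeg
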