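import Mathlib
import Cfsg.Prelude.Def_Blocks
import Cfsg.Agent.Helper15.MaxDegA
import Cfsg.Agent.Helper15.CharAux
import Cfsg.Agent.Helper15.Gallagher
import Cfsg.Agent.Helper74.CharCenter
import Cfsg.Agent.Helper74.DegreeRatio
import Cfsg.Agent.Helper80.OneChar

/-!
# Groups with bounded character degrees: general reduction lemmas

* `sum_eq_sum_subgroup_of_vanish`, `index_le_sq_of_vanish`: an irreducible character of degree
  at most `b` vanishing off a subgroup `K` forces `[G:K] ≤ b²`.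
* `pattern`: if every character of degree `b` of `H` vanishes off `K ≤ H`, then the degrees of
  `H` are at most `b - 1`, or `[G:K] ≤ [G:H] b²`.
* `allDegLe_half`: if `G/K` is not abelian then the degrees of `K` are at most `b/2`.
* `Step`, and the arithmetic closing the induction.
-/

set_option autoImplicit false

namespace Cfsg.Agent.Helper15.MaxDeg

open Cfsg
open scoped ComplexConjugate

universe u

section vanish

variable {G : Type u} [Group G] [Fintype G]

theorem sum_eq_sum_subgroup_of_vanish (K : Subgroup G) [Fintype K] (f : G → ℝ)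
    (hf : ∀ g : G, g ∉ K → f g = 0) : ∑ g : G, f g = ∑ k : K, f (k : G) := by
  classical
  rw [← Helper15.sum_filter_mem_eq K f, Finset.sum_filter]
  refine Finset.sum_congr rfl fun g _ => ?_
  split_ifs with hg
  · rfl
  · exact hf g hg

/-- An irreducible character of degree at most `b` vanishing off `K` forces `[G:K] ≤ b²`. -/
theorem index_le_sq_of_vanish (K : Subgroup G) (ψ : IrrCharacter G) {b : ℕ}
    (hb : charDegree (ψ : G → ℂ) ≤ b) (hvan : ∀ g : G, g ∉ K → (ψ : G → ℂ) g = 0) :
    K.index ≤ b ^ 2 := by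
  classical
  let _ : Fintype K := Fintype.ofFinite K
  have h1 := Helper74.sum_norm_sq_irr ψ
  rw [sum_eq_sum_subgroup_of_vanish K (fun g => ‖(ψ : G → ℂ) g‖ ^ 2)
    (fun g hg => by rw [hvan g hg]; simp)] at h1
  have h2 : ∑ k : K, ‖(ψ : G → ℂ) (k : G)‖ ^ 2 ≤ ∑ _k : K, ((b : ℝ)) ^ 2 := by
    refine Finset.sum_le_sum fun k _ => ?_
    have h3 := Helper74.norm_le_charDegree (Helper74.irr_isCharacter ψ) (k : G)
    have h4 : (charDegree (ψ : G → ℂ) : ℝ) ≤ (b : ℝ) := by exact_mod_cast hb
    exact pow_le_pow_left₀ (norm_nonneg _) (h3.trans h4) 2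
  rw [h1, Finset.sum_const, Finset.card_univ, nsmul_eq_mul] at h2
  have h5 : Nat.card G ≤ Fintype.card K * b ^ 2 := by exact_mod_cast h2
  rw [← Subgroup.card_mul_index K, Nat.card_eq_fintype_card] at h5
  exact Nat.le_of_mul_le_mul_left h5 Fintype.card_pos

end vanish

section pattern

variable {G : Type u} [Group G] [Finite G]

/-- If every character of degree `b` of `H` vanishes off `K ≤ H`, then the degrees of `H` are at
most `b - 1`, or `[G:K] ≤ [G:H] b²`. -/
theorem pattern {b : ℕ} (hG : AllDegLe G b) (H K : Subgroup G) (hKH : K ≤ H)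
    (hvan : ∀ ψ : IrrCharacter H, charDegree (ψ : H → ℂ) = b → ∀ h : H, (h : G) ∉ K →
      (ψ : H → ℂ) h = 0) :
    AllDegLe H (b - 1) ∨ K.index ≤ H.index * b ^ 2 := by
  classical
  let _ : Fintype G := Fintype.ofFinite G
  let _ : Fintype H := Fintype.ofFinite H
  by_cases hex : ∃ ψ : IrrCharacter H, charDegree (ψ : H → ℂ) = b
  · right
    obtain ⟨ψ, hψ⟩ := hex
    have h1 : (K.subgroupOf H).index ≤ b ^ 2 :=
      index_le_sq_of_vanish (K.subgroupOf H) ψ hψ.le
        (fun h hh => hvan ψ hψ h (fun hk => hh (Subgroup.mem_subgroupOf.mpr hk)))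
    have h2 : K.relIndex H * H.index = K.index := Subgroup.relIndex_mul_index hKH
    rw [← h2, mul_comm]
    exact Nat.mul_le_mul_left _ h1
  · left
    intro ψ
    have h1 := (hG.subgroup H) ψ
    have h2 : charDegree (ψ : H → ℂ) ≠ b := fun h => hex ⟨ψ, h⟩
    omega

end pattern

section half

variable {G : Type u} [Group G] [Fintype G]

/-- If `G/K` is not abelian, the character degrees of `K` are at most `b/2`. -/
theorem allDegLe_half {b : ℕ} (hG : AllDegLe G b) (K : Subgroup G) [hK : K.Normal]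
    (hKc : ¬ commutator G ≤ K) : AllDegLe K (b / 2) := by
  classical
  let _ : Fintype K := Fintype.ofFinite K
  intro θ
  obtain ⟨χ, hχ⟩ := Helper74.ThreeDeg.exists_irr_over' K θ
  obtain ⟨e, he, -⟩ := Helper74.degree_ratio_dvd K χ.2 θ.2 hχ
  have hdeg : charDegree (χ : G → ℂ) = e * charDegree (θ : K → ℂ) := by
    have h2 : (charDegree (χ : G → ℂ) : ℂ) = ((e * charDegree (θ : K → ℂ) : ℕ) : ℂ) := by
      rw [Helper80.IsCharacter.charDegree_cast (Helper80.IsIrrCharacter.isCharacter χ.2), he]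
      push_cast
      rw [Helper80.IsCharacter.charDegree_cast (Helper80.IsIrrCharacter.isCharacter θ.2)]
    exact_mod_cast h2
  have hθpos : 0 < charDegree (θ : K → ℂ) := Helper80.IsIrrCharacter.charDegree_pos θ.2
  have hχpos : 0 < charDegree (χ : G → ℂ) := Helper80.IsIrrCharacter.charDegree_pos χ.2
  have hχb := hG χ
  rw [Nat.le_div_iff_mul_le two_pos]
  by_cases he1 : e = 1
  · rw [he1, one_mul] at hdeg
    -- `χ` restricts to `θ`; Gallagher
    have hres : IsCharacter K (fun n : K => (χ : G → ℂ) n) :=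
      Helper74.isCharacter_restrict K (Helper74.irr_isCharacter χ)
    have hχK : (fun n : K => (χ : G → ℂ) n) = (θ : K → ℂ) :=
      Helper80.DegGraph.eq_of_constituent_of_degree_le hres θ hχ (le_of_eq hdeg)
    have hχKirr : IsIrrCharacter K (fun n : K => (χ : G → ℂ) n) := hχK ▸ θ.2
    have hGal := Helper15.gallagher_bijOn K χ.2 hχKirr
    have hnc : ¬ IsMulCommutative (G ⧸ K) := fun h =>
      hKc (Subgroup.Normal.quotient_commutative_iff_commutator_le.mp h)
    obtain ⟨β', hβ'⟩ := Helper80.exists_irr_charDegree_ne_one hnc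
    obtain ⟨β, hβ⟩ : ∃ β : IrrCharacter G,
        ∀ g, (β : G → ℂ) g = (β' : G ⧸ K → ℂ) (g : G ⧸ K) :=
      ⟨⟨fun g => (β' : G ⧸ K → ℂ) (QuotientGroup.mk' K g),
        Helper80.IsIrrCharacter.comp_surjective β'.2 (QuotientGroup.mk' K)
          (QuotientGroup.mk'_surjective K)⟩, fun g => rfl⟩
    have hβdeg : charDegree (β : G → ℂ) = charDegree (β' : G ⧸ K → ℂ) := by
      unfold charDegree
      rw [hβ 1]
      rfl
    have hβ2 : 2 ≤ charDegree (β : G → ℂ) := by
      have := Helper80.IsIrrCharacter.charDegree_pos β.2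
      rw [hβdeg] at this ⊢
      omega
    have hβmem : (β : G → ℂ) ∈ {β : G → ℂ | IsIrrCharacter G β ∧
        classInner (indFun K (fun _ => (1 : ℂ))) β ≠ 0} := by
      refine ⟨β.2, ?_⟩
      rw [Helper15.frobenius_reciprocity K _ _
        (Helper74.isClassFunction_of_isCharacter (Helper74.irr_isCharacter β))]
      have h1 : ∀ k : K, (β : G → ℂ) k = (β : G → ℂ) 1 := by
        intro k
        rw [hβ, hβ]
        have : ((k : G) : G ⧸ K) = ((1 : G) : G ⧸ K) := by
          rw [QuotientGroup.eq]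
          simp
        rw [this]
      rw [Helper74.classInner_def]
      simp only [h1, one_mul]
      rw [Finset.sum_const, Finset.card_univ, nsmul_eq_mul, Nat.card_eq_fintype_card,
        ← mul_assoc, inv_mul_cancel₀ (by exact_mod_cast Fintype.card_ne_zero), one_mul]
      intro h0
      have := Helper80.IsIrrCharacter.map_one_ne_zero β.2
      apply this
      have h2 := congrArg conj h0
      rwa [Complex.conj_conj, map_zero] at h2
    have hξ := hGal.mapsTo hβmem
    have hξb := hG ⟨(β : G → ℂ) * (χ : G → ℂ), hξ.1⟩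
    have hmul : charDegree ((β : G → ℂ) * (χ : G → ℂ)) =
        charDegree (β : G → ℂ) * charDegree (χ : G → ℂ) :=
      Helper80.DegGraph.charDegree_mul (Helper74.irr_isCharacter β) (Helper74.irr_isCharacter χ)
    have hξb' : charDegree (β : G → ℂ) * charDegree (χ : G → ℂ) ≤ b := by
      rw [← hmul]; exact hξb
    rw [hdeg] at hξb'
    calc charDegree (θ : K → ℂ) * 2 = 2 * charDegree (θ : K → ℂ) := mul_comm _ _
      _ ≤ charDegree (β : G → ℂ) * charDegree (θ : K → ℂ) := Nat.mul_le_mul_right _ hβ2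
      _ ≤ b := hξb'
  · have he0 : e ≠ 0 := by
      intro h0
      rw [h0, zero_mul] at hdeg
      omega
    have he2 : 2 ≤ e := by omega
    calc charDegree (θ : K → ℂ) * 2 ≤ charDegree (θ : K → ℂ) * e := Nat.mul_le_mul_left _ he2
      _ = charDegree (χ : G → ℂ) := by rw [hdeg, mul_comm]
      _ ≤ b := hχb

end half

section step

/-- The inductive step: a subgroup with smaller degrees and controlled index. -/
def Step (G : Type u) [Group G] (b : ℕ) : Prop :=
  ∃ (H : Subgroup G) (c : ℕ), c < b ∧ AllDegLe H c ∧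
    H.index * (c.factorial) ^ 2 ≤ (b.factorial) ^ 2

variable {G : Type u} [Group G]

theorem step_of_pred {b : ℕ} (hb : 1 ≤ b) (H : Subgroup G) (hH : AllDegLe H (b - 1))
    (hidx : H.index ≤ b ^ 2) : Step G b := by
  refine ⟨H, b - 1, by omega, hH, ?_⟩
  obtain ⟨k, rfl⟩ : ∃ k, b = k + 1 := ⟨b - 1, by omega⟩
  rw [Nat.add_sub_cancel, Nat.factorial_succ, mul_pow]
  exact Nat.mul_le_mul_right _ hidx

theorem sq_mul_factorial_half_le (b : ℕ) (hb : 5 ≤ b) : b ^ 2 * (b / 2).factorial ≤ b.factorial := by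
  obtain ⟨k, rfl⟩ : ∃ k, b = k + 3 := ⟨b - 3, by omega⟩
  have h1 : ((k + 3) / 2).factorial ≤ k.factorial := Nat.factorial_le (by omega)
  have h2 : (k + 3).factorial = (k + 3) * ((k + 2) * ((k + 1) * k.factorial)) := by
    rw [Nat.factorial_succ, Nat.factorial_succ, Nat.factorial_succ]
  have h3 : (k + 3) ^ 2 ≤ (k + 3) * ((k + 2) * (k + 1)) := by
    have hk : 2 ≤ k := by omega
    nlinarith
  calc (k + 3) ^ 2 * ((k + 3) / 2).factorial ≤ ((k + 3) * ((k + 2) * (k + 1))) * k.factorial :=
        Nat.mul_le_mul h3 h1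
    _ = (k + 3).factorial := by rw [h2]; ring

theorem pow_four_mul_le (b : ℕ) (hb : 5 ≤ b) :
    b ^ 4 * ((b / 2).factorial) ^ 2 ≤ (b.factorial) ^ 2 := by
  have h := Nat.pow_le_pow_left (sq_mul_factorial_half_le b hb) 2
  calc b ^ 4 * ((b / 2).factorial) ^ 2 = (b ^ 2 * (b / 2).factorial) ^ 2 := by ring
    _ ≤ (b.factorial) ^ 2 := h

theorem pow_three_mul_le (b : ℕ) (hb : 3 ≤ b) :
    b ^ 3 * ((b / 2).factorial) ^ 2 ≤ (b.factorial) ^ 2 := by
  by_cases h5 : 5 ≤ b
  · refine le_trans ?_ (pow_four_mul_le b h5)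
    refine Nat.mul_le_mul_right _ ?_
    exact Nat.pow_le_pow_right (by omega) (by omega)
  · have : b = 3 ∨ b = 4 := by omega
    rcases this with rfl | rfl <;> decide

theorem step_of_half {b : ℕ} (K : Subgroup G) (hK : AllDegLe K (b / 2))
    (h : (5 ≤ b ∧ K.index ≤ b ^ 4) ∨ (3 ≤ b ∧ K.index ≤ b ^ 3)) : Step G b := by
  refine ⟨K, b / 2, by omega, hK, ?_⟩
  rcases h with ⟨hb, hidx⟩ | ⟨hb, hidx⟩
  · exact (Nat.mul_le_mul_right _ hidx).trans (pow_four_mul_le b hb)
  · exact (Nat.mul_le_mul_right _ hidx).trans (pow_three_mul_le b hb)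

end step

end Cfsg.Agent.Helper15.MaxDeg
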