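import Mathlib
import Cfsg.Prelude.Def_Blocks
import Cfsg.Agent.Helper15.MaxDegB
import Cfsg.Agent.Helper76.CharCentral
import Cfsg.Agent.Helper80.DegGraph1
import Cfsg.Agent.Helper80.Degree

/-!
# Groups with bounded character degrees: the case where `G/K` has a nontrivial centre

`K ⊴ G` maximal with `G/K` nonabelian and `Z(G/K) ≠ 1`.  A nonlinear irreducible character `φ` of
`G/K` is faithful and vanishes off the centre.  If `H` is the preimage of the centre then
`[G:H] = φ(1)² ≤ b²`, and `H` has no irreducible character `ψ` of degree `b`: it would extend to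
`χ ∈ Irr(G)`, and `χ φ` would be irreducible of degree `b φ(1) > b`.
-/

set_option autoImplicit false

namespace Cfsg.Agent.Helper15.MaxDeg

open Cfsg
open scoped ComplexConjugate commutatorElement

universe u

section qlevel

variable {Q : Type u} [Group Q] [Finite Q]

/-- In a group whose nontrivial normal subgroups all contain the derived subgroup and whose
centre is nontrivial, a nonlinear irreducible character vanishes off the centre. -/
theorem eq_zero_of_not_mem_center (hmin : Helper80.DegGraph.DerivedMinimal Q)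
    (hZ : Subgroup.center Q ≠ ⊥) (φ : IrrCharacter Q) (hφ : charDegree (φ : Q → ℂ) ≠ 1)
    (q : Q) (hq : q ∉ Subgroup.center Q) : (φ : Q → ℂ) q = 0 := by
  have hDZ : commutator Q ≤ Subgroup.center Q := hmin _ inferInstance hZ
  have hφc : IsCharacter Q (φ : Q → ℂ) := Helper74.irr_isCharacter φ
  -- `φ` is faithful
  have hker : Helper80.kerChar (φ : Q → ℂ) hφc = ⊥ := by
    by_contra hne
    have h1 : commutator Q ≤ Helper80.kerChar (φ : Q → ℂ) hφc := hmin _ inferInstance hne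
    apply hφ
    apply Helper80.IsIrrCharacter.charDegree_eq_one_of_commutator_le φ.2
    intro g hg
    exact (Helper80.mem_kerChar hφc g).mp (h1 hg)
  rw [Subgroup.mem_center_iff] at hq
  push Not at hq
  obtain ⟨x, hx⟩ := hq
  -- `x * q ≠ q * x`
  have hcomm : ⁅x, q⁆ ∈ Subgroup.center Q :=
    hDZ (Subgroup.commutator_mem_commutator (Subgroup.mem_top _) (Subgroup.mem_top _))
  have hcomm1 : ⁅x, q⁆ ≠ 1 := by
    intro h
    apply hx
    rw [commutatorElement_def] at h
    calc x * q = (x * q * x⁻¹ * q⁻¹) * (q * x) := by group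
      _ = q * x := by rw [h, one_mul]
  obtain ⟨c, hc⟩ := Helper76.irr_exists_central_scalar φ.2 ⁅x, q⁆ hcomm
  have hφ1 : (φ : Q → ℂ) 1 ≠ 0 := Helper80.IsIrrCharacter.map_one_ne_zero φ.2
  have hcne : c ≠ 1 := by
    intro h
    apply hcomm1
    have h2 := hc 1
    rw [mul_one, h, one_mul] at h2
    have h3 : ⁅x, q⁆ ∈ Helper80.kerChar (φ : Q → ℂ) hφc := (Helper80.mem_kerChar hφc _).mpr h2
    rw [hker, Subgroup.mem_bot] at h3
    exact h3
  have hconj : x * q * x⁻¹ = ⁅x, q⁆ * q := by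
    rw [commutatorElement_def]; group
  have h4 : (φ : Q → ℂ) (x * q * x⁻¹) = (φ : Q → ℂ) q :=
    Helper80.IsCharacter.conj_mem hφc q x
  rw [hconj, hc q] at h4
  have h5 : (c - 1) * (φ : Q → ℂ) q = 0 := by linear_combination h4
  rcases mul_eq_zero.mp h5 with h | h
  · exact absurd (by linear_combination h) hcne
  · exact h

end qlevel

section glevel

variable {G : Type u} [Group G] [Fintype G]

/-- The core computation: `φ ∈ Irr(G)` nonlinear, vanishing off `H` and of absolute value `φ(1)`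
on `H`.  Then `[G:H] = φ(1)²` and `H` has no irreducible character of degree `b`. -/
theorem typeZ_core {b : ℕ} (hG : AllDegLe G b) (H : Subgroup G) (φ : IrrCharacter G)
    (hφ0 : ∀ g : G, g ∉ H → (φ : G → ℂ) g = 0)
    (hφ1 : ∀ g : G, g ∈ H → ‖(φ : G → ℂ) g‖ = (charDegree (φ : G → ℂ) : ℝ))
    (hφ2 : charDegree (φ : G → ℂ) ≠ 1) :
    H.index = charDegree (φ : G → ℂ) ^ 2 ∧ AllDegLe H (b - 1) := by
  classical
  let _ : Fintype H := Fintype.ofFinite H
  have hφpos : 0 < charDegree (φ : G → ℂ) := Helper80.IsIrrCharacter.charDegree_pos φ.2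
  -- the index
  have hcard : (Nat.card G : ℝ) = (Fintype.card H : ℝ) * (charDegree (φ : G → ℂ) : ℝ) ^ 2 := by
    have h1 := Helper74.sum_norm_sq_irr φ
    rw [sum_eq_sum_subgroup_of_vanish H (fun g => ‖(φ : G → ℂ) g‖ ^ 2)
      (fun g hg => by rw [hφ0 g hg]; simp)] at h1
    rw [← h1, Finset.sum_congr rfl (fun (h : H) _ => by rw [hφ1 (h : G) h.2]), Finset.sum_const,
      Finset.card_univ, nsmul_eq_mul]
  have hcardN : Nat.card G = Fintype.card H * charDegree (φ : G → ℂ) ^ 2 := by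
    exact_mod_cast hcard
  have hidx : H.index = charDegree (φ : G → ℂ) ^ 2 := by
    have h2 := Subgroup.card_mul_index H
    rw [Nat.card_eq_fintype_card (α := H), hcardN] at h2
    exact Nat.eq_of_mul_eq_mul_left Fintype.card_pos h2
  refine ⟨hidx, ?_⟩
  intro ψ
  have hψb := (hG.subgroup H) ψ
  by_contra hcon
  have hψ : charDegree (ψ : H → ℂ) = b := by omega
  obtain ⟨χ, hχ⟩ := exists_extension H hG ψ hψ
  have hχc : IsCharacter G (χ : G → ℂ) := Helper74.irr_isCharacter χ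
  have hφc : IsCharacter G (φ : G → ℂ) := Helper74.irr_isCharacter φ
  have hξc : IsCharacter G ((χ : G → ℂ) * (φ : G → ℂ)) := Helper74.isCharacter_mul hχc hφc
  have hsum : (∑ g : G, ‖((χ : G → ℂ) * (φ : G → ℂ)) g‖ ^ 2 : ℝ) = (Nat.card G : ℝ) := by
    rw [sum_eq_sum_subgroup_of_vanish H (fun g => ‖((χ : G → ℂ) * (φ : G → ℂ)) g‖ ^ 2)
      (fun g hg => by rw [Pi.mul_apply, hφ0 g hg]; simp)]
    have h3 : ∀ h : H, ‖((χ : G → ℂ) * (φ : G → ℂ)) (h : G)‖ ^ 2 =
        ‖(ψ : H → ℂ) h‖ ^ 2 * (charDegree (φ : G → ℂ) : ℝ) ^ 2 := by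
      intro h
      rw [Pi.mul_apply, norm_mul, mul_pow, hφ1 (h : G) h.2]
      have := congrFun hχ h
      rw [this]
    rw [Finset.sum_congr rfl (fun h _ => h3 h), ← Finset.sum_mul, Helper74.sum_norm_sq_irr ψ,
      hcard, Nat.card_eq_fintype_card]
  have hinner : classInner ((χ : G → ℂ) * (φ : G → ℂ)) ((χ : G → ℂ) * (φ : G → ℂ)) = 1 := by
    have h4 := Helper74.sum_norm_sq_eq ((χ : G → ℂ) * (φ : G → ℂ))
    rw [hsum] at h4
    have hGne : (Nat.card G : ℂ) ≠ 0 := by exact_mod_cast (Nat.card_pos (α := G)).ne'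
    have h5 : (Nat.card G : ℂ) * 1 = (Nat.card G : ℂ) *
        classInner ((χ : G → ℂ) * (φ : G → ℂ)) ((χ : G → ℂ) * (φ : G → ℂ)) := by
      rw [mul_one]; exact_mod_cast h4
    exact (mul_left_cancel₀ hGne h5).symm
  have hξirr : IsIrrCharacter G ((χ : G → ℂ) * (φ : G → ℂ)) :=
    Helper15.isIrrCharacter_of_inner_self_eq_one hξc hinner
  have hξb := hG ⟨_, hξirr⟩
  have hmul : charDegree ((χ : G → ℂ) * (φ : G → ℂ)) =
      charDegree (χ : G → ℂ) * charDegree (φ : G → ℂ) :=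
    Helper80.DegGraph.charDegree_mul hχc hφc
  have hχdeg : charDegree (χ : G → ℂ) = b := by
    rw [← hψ, ← charDegree_restrict H (χ : G → ℂ), hχ]
  have hξb' : b * charDegree (φ : G → ℂ) ≤ b := by
    rw [← hχdeg, ← hmul]
    rw [hχdeg]
    exact hξb
  have hbpos : 0 < b := by
    rw [← hψ]; exact Helper80.IsIrrCharacter.charDegree_pos ψ.2
  have : charDegree (φ : G → ℂ) ≤ 1 := by
    by_contra h
    have h2 : 2 ≤ charDegree (φ : G → ℂ) := by omega
    have := Nat.mul_le_mul_left b h2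
    omega
  omega

/-- **The central case.** -/
theorem typeZ {b : ℕ} (hG : AllDegLe G b) (K : Subgroup G) [hK : K.Normal]
    (hKc : ¬ commutator G ≤ K) (hmin : Helper80.DegGraph.DerivedMinimal (G ⧸ K))
    (hZ : Subgroup.center (G ⧸ K) ≠ ⊥) : Step G b := by
  classical
  have hnc : ¬ IsMulCommutative (G ⧸ K) := fun h =>
    hKc (Subgroup.Normal.quotient_commutative_iff_commutator_le.mp h)
  obtain ⟨φ', hφ'⟩ := Helper80.exists_irr_charDegree_ne_one hnc
  obtain ⟨φ, hφ⟩ : ∃ φ : IrrCharacter G,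
      ∀ g, (φ : G → ℂ) g = (φ' : G ⧸ K → ℂ) (g : G ⧸ K) :=
    ⟨⟨fun g => (φ' : G ⧸ K → ℂ) (QuotientGroup.mk' K g),
      Helper80.IsIrrCharacter.comp_surjective φ'.2 (QuotientGroup.mk' K)
        (QuotientGroup.mk'_surjective K)⟩, fun g => rfl⟩
  have hφdeg : charDegree (φ : G → ℂ) = charDegree (φ' : G ⧸ K → ℂ) := by
    unfold charDegree
    rw [hφ 1]
    rfl
  obtain ⟨H, hH⟩ : ∃ H : Subgroup G, H = (Subgroup.center (G ⧸ K)).comap (QuotientGroup.mk' K) :=
    ⟨_, rfl⟩
  have hmem : ∀ g : G, g ∈ H ↔ (g : G ⧸ K) ∈ Subgroup.center (G ⧸ K) := by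
    intro g
    rw [hH, Subgroup.mem_comap]
    rfl
  have h0 : ∀ g : G, g ∉ H → (φ : G → ℂ) g = 0 := by
    intro g hg
    rw [hφ]
    exact eq_zero_of_not_mem_center hmin hZ φ' hφ' _ (fun h => hg ((hmem g).mpr h))
  have h1 : ∀ g : G, g ∈ H → ‖(φ : G → ℂ) g‖ = (charDegree (φ : G → ℂ) : ℝ) := by
    intro g hg
    rw [hφ, hφdeg]
    exact Helper80.IsIrrCharacter.norm_eq_of_mem_center φ'.2 ((hmem g).mp hg)
  obtain ⟨hidx, hall⟩ := typeZ_core hG H φ h0 h1 (by rw [hφdeg]; exact hφ')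
  have hb1 : 1 ≤ b := (Helper80.IsIrrCharacter.charDegree_pos φ.2).trans_le (hG φ)
  refine step_of_pred hb1 H hall ?_
  rw [hidx]
  exact Nat.pow_le_pow_left (hG φ) 2

end glevel

end Cfsg.Agent.Helper15.MaxDeg
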