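import Mathlib
import Cfsg.Prelude.Def_Blocks
import Cfsg.Agent.Helper15.MaxDegB
import Cfsg.Agent.Helper80.DegGraph1
import Cfsg.Agent.Helper80.DegGraph2
import Cfsg.Agent.Helper80.FrobTwist

/-!
# Groups with bounded character degrees: the Frobenius case

`K ⊴ G` with `G/K` solvable nonabelian, `D = (G/K)'` abelian of prime exponent `p`, and every
element of `G/K` outside `D` acting fixed point freely on `D`.  With `N` the preimage of `D`,
`[G:N]` is a character degree, so `[G:N] ≤ b`.  If `N` has no irreducible character of degree `b`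
take `N`.  Otherwise such a character `ψ` vanishes off `K`, so `[N:K] ≤ b²`, and `p ∣ b`; the
degrees of `K` are at most `b/2` and `[G:K] ≤ b³`, which is good enough for `b ≥ 3`;
`b = 2` is impossible.
-/

set_option autoImplicit false

namespace Cfsg.Agent.Helper15.MaxDeg

open Cfsg
open scoped ComplexConjugate commutatorElement

universe u

section qlevel

variable {Q : Type u} [Group Q] [Finite Q]

/-- An element of order two cannot act fixed point freely on an elementary abelian `2`-group. -/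
theorem false_of_index_two (hD : commutator Q ≠ ⊥)
    (hexp : ∀ d ∈ commutator Q, d ^ 2 = 1)
    (hcomm : ∀ a ∈ commutator Q, ∀ b ∈ commutator Q, a * b = b * a)
    (hfpf : ∀ g : Q, g ∉ commutator Q → ∀ n ∈ commutator Q, g * n = n * g → n = 1)
    (hidx : (commutator Q).index ≤ 2) : False := by
  have hDn : (commutator Q).Normal := inferInstance
  -- `D ≠ ⊤`
  have htop : commutator Q ≠ ⊤ := by
    intro h
    apply hD
    rw [commutator_def, Subgroup.commutator_eq_bot_iff_le_centralizer]
    intro a _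
    rw [Subgroup.mem_centralizer_iff]
    intro c _
    exact hcomm c (by rw [h]; trivial) a (by rw [h]; trivial)
  have hidx2 : (commutator Q).index = 2 := by
    have h1 : (commutator Q).index ≠ 1 := fun h => htop (Subgroup.index_eq_one.mp h)
    have h0 : (commutator Q).index ≠ 0 := Subgroup.index_ne_zero_of_finite
    omega
  obtain ⟨g, hg⟩ : ∃ g : Q, g ∉ commutator Q := by
    by_contra hcon
    push Not at hcon
    exact htop (eq_top_iff.mpr fun x _ => hcon x)
  obtain ⟨d, hd, hd1⟩ : ∃ d ∈ commutator Q, d ≠ 1 := by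
    by_contra hcon
    push Not at hcon
    apply hD
    rw [Subgroup.eq_bot_iff_forall]
    exact hcon
  have hg2 : g * g ∈ commutator Q := Subgroup.mul_self_mem_of_index_two hidx2 g
  have he : g * d * g⁻¹ ∈ commutator Q := hDn.conj_mem d hd g
  have h1 : (g * g) * d = d * (g * g) := hcomm _ hg2 _ hd
  have h2 : d * (g * d * g⁻¹) = (g * d * g⁻¹) * d := hcomm _ hd _ he
  have hm : d * (g * d * g⁻¹) ∈ commutator Q := Subgroup.mul_mem _ hd he
  have h3 : g * (d * (g * d * g⁻¹)) = (d * (g * d * g⁻¹)) * g := by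
    calc g * (d * (g * d * g⁻¹)) = (g * d * g⁻¹) * (((g * g) * d) * (g * g)⁻¹) * g := by group
      _ = (g * d * g⁻¹) * ((d * (g * g)) * (g * g)⁻¹) * g := by rw [h1]
      _ = ((g * d * g⁻¹) * d) * g := by group
      _ = (d * (g * d * g⁻¹)) * g := by rw [h2]
  have h4 : d * (g * d * g⁻¹) = 1 := hfpf g hg _ hm h3
  have h5 : d * d = 1 := by rw [← pow_two]; exact hexp d hd
  have h6 : g * d * g⁻¹ = d := by
    calc g * d * g⁻¹ = (d * d) * (g * d * g⁻¹) := by rw [h5, one_mul]
      _ = d * (d * (g * d * g⁻¹)) := by group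
      _ = d := by rw [h4, mul_one]
  have h7 : g * d = d * g := by
    calc g * d = (g * d * g⁻¹) * g := by group
      _ = d * g := by rw [h6]
  exact hd1 (hfpf g hg d hd h7)

end qlevel

section glevel

variable {G : Type u} [Group G] [Fintype G]

/-- **The Frobenius case.** -/
theorem typeF {b : ℕ} (hG : AllDegLe G b) (K : Subgroup G) [hK : K.Normal]
    (hKc : ¬ commutator G ≤ K) {p : ℕ} (hp : p.Prime)
    (hexp : ∀ d ∈ commutator (G ⧸ K), d ^ p = 1)
    (hcomm : ∀ a ∈ commutator (G ⧸ K), ∀ b ∈ commutator (G ⧸ K), a * b = b * a)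
    (hfpf : ∀ g : G ⧸ K, g ∉ commutator (G ⧸ K) → ∀ n ∈ commutator (G ⧸ K),
      g * n = n * g → n = 1) : Step G b := by
  classical
  have hpf : Fact p.Prime := ⟨hp⟩
  have hcommap : commutator (G ⧸ K) = (commutator G).map (QuotientGroup.mk' K) := by
    rw [commutator_def, commutator_def, Subgroup.map_commutator,
      Subgroup.map_top_of_surjective _ (QuotientGroup.mk'_surjective K)]
  have hD : commutator (G ⧸ K) ≠ ⊥ := by
    intro h
    rw [hcommap, Subgroup.map_eq_bot_iff, QuotientGroup.ker_mk'] at h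
    exact hKc h
  obtain ⟨N, hNdef⟩ : ∃ N : Subgroup G, N = (commutator (G ⧸ K)).comap (QuotientGroup.mk' K) :=
    ⟨_, rfl⟩
  have hNn : N.Normal := by
    rw [hNdef]
    exact (inferInstance : (commutator (G ⧸ K)).Normal).comap _
  let _ : Fintype N := Fintype.ofFinite N
  have hmemN : ∀ g : G, g ∈ N ↔ (g : G ⧸ K) ∈ commutator (G ⧸ K) := by
    intro g
    rw [hNdef, Subgroup.mem_comap]
    rfl
  have hGN : ∀ x y : G, x⁻¹ * y⁻¹ * x * y ∈ N := by
    intro x y
    rw [hmemN]
    have h1 : ((x⁻¹ * y⁻¹ * x * y : G) : G ⧸ K) = ⁅((x⁻¹ : G) : G ⧸ K), ((y⁻¹ : G) : G ⧸ K)⁆ := by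
      rw [commutatorElement_def]
      simp only [QuotientGroup.mk_mul, QuotientGroup.mk_inv, inv_inv]
    rw [h1]
    exact Subgroup.commutator_mem_commutator (Subgroup.mem_top _) (Subgroup.mem_top _)
  have hab : ∀ x y : N, ((x * y * x⁻¹ * y⁻¹ : N) : G) ∈ K := by
    intro x y
    have hx := (hmemN x).mp x.2
    have hy := (hmemN y).mp y.2
    have hc := hcomm _ hx _ hy
    rw [← QuotientGroup.eq_one_iff]
    have h1 : ((((x * y * x⁻¹ * y⁻¹ : N) : G)) : G ⧸ K) =
        ((x : G) : G ⧸ K) * ((y : G) : G ⧸ K) * ((x : G) : G ⧸ K)⁻¹ * ((y : G) : G ⧸ K)⁻¹ := by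
      simp only [Subgroup.coe_mul, Subgroup.coe_inv, QuotientGroup.mk_mul, QuotientGroup.mk_inv]
    rw [h1, hc]
    group
  have hfpf' : ∀ g : G, g ∉ N → ∀ n : N, g * (n : G) * g⁻¹ * (n : G)⁻¹ ∈ K → (n : G) ∈ K := by
    intro g hg n hn
    have hg' : (g : G ⧸ K) ∉ commutator (G ⧸ K) := fun h => hg ((hmemN g).mpr h)
    have hn' := (hmemN n).mp n.2
    have h1 : ((g * (n : G) * g⁻¹ * (n : G)⁻¹ : G) : G ⧸ K) = 1 :=
      (QuotientGroup.eq_one_iff _).mpr hn
    have h2 : (g : G ⧸ K) * ((n : G) : G ⧸ K) = ((n : G) : G ⧸ K) * (g : G ⧸ K) := by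
      have h3 : ((g * (n : G) * g⁻¹ * (n : G)⁻¹ : G) : G ⧸ K) =
          (g : G ⧸ K) * ((n : G) : G ⧸ K) * (g : G ⧸ K)⁻¹ * ((n : G) : G ⧸ K)⁻¹ := by
        simp only [QuotientGroup.mk_mul, QuotientGroup.mk_inv]
      rw [h3] at h1
      calc (g : G ⧸ K) * ((n : G) : G ⧸ K)
          = ((g : G ⧸ K) * ((n : G) : G ⧸ K) * (g : G ⧸ K)⁻¹ * ((n : G) : G ⧸ K)⁻¹) *
            (((n : G) : G ⧸ K) * (g : G ⧸ K)) := by group
        _ = ((n : G) : G ⧸ K) * (g : G ⧸ K) := by rw [h1, one_mul]
    have h4 := hfpf _ hg' _ hn' h2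
    exact (QuotientGroup.eq_one_iff _).mp h4
  have hKN : K ≤ N := by
    intro k hk
    rw [hmemN, (QuotientGroup.eq_one_iff k).mpr hk]
    exact one_mem _
  have hDp : IsPGroup p (commutator (G ⧸ K)) := by
    intro d
    refine ⟨1, ?_⟩
    rw [pow_one]
    exact Subtype.ext (hexp d d.2)
  obtain ⟨a, ha⟩ := IsPGroup.iff_card.mp hDp
  have hNidx : N.index = (commutator (G ⧸ K)).index := by
    rw [hNdef]
    exact Subgroup.index_comap_of_surjective _ (QuotientGroup.mk'_surjective K)
  have hidx : (K.subgroupOf N).index = p ^ a := by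
    have h1 : K.relIndex N * N.index = K.index := Subgroup.relIndex_mul_index hKN
    have h3 : K.index = Nat.card (G ⧸ K) := rfl
    have h4 := Subgroup.index_mul_card (commutator (G ⧸ K))
    rw [hNidx, h3, ← h4, mul_comm] at h1
    have h5 : (commutator (G ⧸ K)).index ≠ 0 := Subgroup.index_ne_zero_of_finite
    have h6 := Nat.eq_of_mul_eq_mul_left (Nat.pos_of_ne_zero h5) h1
    rw [← ha, ← h6]
    rfl
  have hne : ∃ n : N, (n : G) ∉ K := by
    obtain ⟨d, hd, hd1⟩ : ∃ d ∈ commutator (G ⧸ K), d ≠ 1 := by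
      by_contra hcon
      push Not at hcon
      apply hD
      rw [Subgroup.eq_bot_iff_forall]
      exact hcon
    obtain ⟨g, rfl⟩ := QuotientGroup.mk'_surjective K d
    refine ⟨⟨g, (hmemN g).mpr hd⟩, ?_⟩
    intro hgK
    exact hd1 ((QuotientGroup.eq_one_iff g).mpr hgK)
  obtain ⟨⟨β, hβ⟩, -⟩ := Helper80.DegGraph.frobenius_case N K hGN hab hfpf' hp hidx hne
  have hNb : N.index ≤ b := hβ ▸ hG β
  have hf1 : N.index ≠ 1 := by
    intro h1
    have hNtop : N = ⊤ := Subgroup.index_eq_one.mp h1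
    apply hKc
    apply Subgroup.Normal.quotient_commutative_iff_commutator_le.mp
    rw [isMulCommutative_iff]
    intro x y
    obtain ⟨g, rfl⟩ := QuotientGroup.mk'_surjective K x
    obtain ⟨h, rfl⟩ := QuotientGroup.mk'_surjective K y
    have hg : g ∈ N := by rw [hNtop]; trivial
    have hh : h ∈ N := by rw [hNtop]; trivial
    exact hcomm _ ((hmemN g).mp hg) _ ((hmemN h).mp hh)
  have hf0 : N.index ≠ 0 := Subgroup.index_ne_zero_of_finite
  have hb1 : 1 ≤ b := by omega
  by_cases hex : ∃ ψ : IrrCharacter N, charDegree (ψ : N → ℂ) = b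
  · obtain ⟨ψ, hψ⟩ := hex
    -- `ψ` is fixed by all twists
    have hfix : ∀ lam : N →* ℂˣ, (∀ n : N, (n : G) ∈ K → lam n = 1) →
        Helper74.twist lam ψ = ψ := by
      rcases Helper80.exists_irr_index_mul_or_twist_fixed N K hGN hab hfpf' ψ with ⟨ξ, hξ⟩ | hfix
      · exfalso
        have h : (charDegree (ξ : G → ℂ) : ℂ) = ((N.index * charDegree (ψ : N → ℂ) : ℕ) : ℂ) := by
          rw [Helper80.IsCharacter.charDegree_cast (Helper80.IsIrrCharacter.isCharacter ξ.2), hξ]
          push_cast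
          rw [Helper80.IsCharacter.charDegree_cast (Helper80.IsIrrCharacter.isCharacter ψ.2)]
        have h' : charDegree (ξ : G → ℂ) = N.index * charDegree (ψ : N → ℂ) := by exact_mod_cast h
        have h2 := hG ξ
        rw [h', hψ] at h2
        have h3 : 2 ≤ N.index := by omega
        have := Nat.mul_le_mul_right b h3
        omega
      · exact hfix
    have hpb : p ∣ b := by
      rw [← hψ]
      exact Helper80.DegGraph.prime_dvd_of_twist_fixed N K hab hp hidx hne ψ hfix
    -- `ψ` vanishes off `K`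
    have hKN' : (K.subgroupOf N).Normal := inferInstance
    have hvan : ∀ n : N, n ∉ K.subgroupOf N → (ψ : N → ℂ) n = 0 := by
      intro n hn'
      have hcommQ : ∀ a b : N ⧸ K.subgroupOf N, a * b = b * a := by
        intro a b
        induction a using QuotientGroup.induction_on with
        | H a =>
          induction b using QuotientGroup.induction_on with
          | H b =>
            rw [← QuotientGroup.mk_mul, ← QuotientGroup.mk_mul, QuotientGroup.eq]
            have h1 : (a * b)⁻¹ * (b * a) = b⁻¹ * a⁻¹ * b⁻¹⁻¹ * a⁻¹⁻¹ := by group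
            rw [h1, Subgroup.mem_subgroupOf]
            exact hab b⁻¹ a⁻¹
      obtain ⟨lam, hlam, hlamn⟩ :=
        Helper80.exists_hom_ne_one_of_not_mem (K.subgroupOf N) hcommQ n hn'
      have h1 := hfix lam (fun m hm => hlam m (Subgroup.mem_subgroupOf.mpr hm))
      have h2 := congrFun (congrArg Subtype.val h1) n
      rw [Helper74.twist_apply] at h2
      have h3 : (((lam n : ℂˣ) : ℂ) - 1) * (ψ : N → ℂ) n = 0 := by
        rw [sub_mul, h2, one_mul, sub_self]
      rcases mul_eq_zero.mp h3 with h4 | h4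
      · exfalso
        apply hlamn
        exact Units.ext (sub_eq_zero.mp h4)
      · exact h4
    have hrel : (K.subgroupOf N).index ≤ b ^ 2 :=
      index_le_sq_of_vanish (K.subgroupOf N) ψ hψ.le hvan
    have hKidx : K.index ≤ b ^ 3 := by
      have h2 : K.relIndex N * N.index = K.index := Subgroup.relIndex_mul_index hKN
      rw [← h2]
      calc K.relIndex N * N.index ≤ b ^ 2 * b := Nat.mul_le_mul hrel hNb
        _ = b ^ 3 := by ring
    have hb2 : 2 ≤ b := (hp.two_le).trans (Nat.le_of_dvd (by omega) hpb)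
    have hb3 : 3 ≤ b := by
      by_contra hcon
      have hb : b = 2 := by omega
      rw [hb] at hpb
      have hp2 : p = 2 := (Nat.prime_dvd_prime_iff_eq hp Nat.prime_two).mp hpb
      rw [hp2] at hexp
      rw [hb, hNidx] at hNb
      exact false_of_index_two hD hexp hcomm hfpf hNb
    exact step_of_half K (allDegLe_half hG K hKc) (Or.inr ⟨hb3, hKidx⟩)
  · have hall : AllDegLe N (b - 1) := by
      intro ψ
      have h1 := (hG.subgroup N) ψ
      have h2 : charDegree (ψ : N → ℂ) ≠ b := fun h => hex ⟨ψ, h⟩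
      omega
    refine step_of_pred hb1 N hall ?_
    calc N.index ≤ b := hNb
      _ ≤ b ^ 2 := Nat.le_self_pow (by norm_num) b

end glevel

end Cfsg.Agent.Helper15.MaxDeg
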