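import Mathlib
import Cfsg.Prelude.Def_Blocks
import Cfsg.Agent.Helper15.MaxDegB
import Cfsg.Agent.Helper74.CharCount
import Cfsg.Agent.Helper74.CharCenter
import Cfsg.Agent.Helper79.CharComplete
import Cfsg.Agent.Helper80.DegGraph1
import Cfsg.Agent.Lib.BurnsidePQ
import Cfsg.Agent.S4464

/-!
# Groups with bounded character degrees: the nonsolvable case

`K ⊴ G` maximal with `G/K` nonabelian, and `D = (G/K)'` nonabelian.  Then `C_{G/K}(D) = 1`.

* `five_le`: `b ≥ 5` (otherwise `G/K` is a `{2,3}`-group by S4464, hence solvable by Burnside).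
* `exists_small_class`: a nontrivial element `x` of `G/K` with at most `b²` conjugates.
* with `H` the preimage of `C_{G/K}(x)`, every `h ∈ H ∖ K` has a conjugate outside `H`, so the
  characters of degree `b` of `H` vanish off `K`.
-/

set_option autoImplicit false

namespace Cfsg.Agent.Helper15.MaxDeg

open Cfsg
open scoped ComplexConjugate commutatorElement

universe u

section qlevel

variable {Q : Type u} [Group Q] [Finite Q]

/-- A group whose nontrivial normal subgroups contain the nonabelian derived subgroup has a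
character of degree at least `5`. -/
theorem five_le (hmin : Helper80.DegGraph.DerivedMinimal Q)
    (hnab : ¬ ∀ a ∈ commutator Q, ∀ c ∈ commutator Q, a * c = c * a) {b : ℕ}
    (hQ : AllDegLe Q b) : 5 ≤ b := by
  by_contra hcon
  apply hnab
  have hsolv : Group.IsSolvable Q := by
    refine Cfsg.Agent.Lib.isSolvable_of_prime_dvd_card Nat.prime_two Nat.prime_three ?_
    intro r hr hrd
    by_contra hr23
    push Not at hr23
    have hr5 : 5 ≤ r := by
      have h2 := hr.two_le
      have h4 : r ≠ 4 := by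
        rintro rfl
        exact absurd hr (by decide)
      omega
    exfalso
    obtain ⟨P, hPn, hPab, -, hPidx⟩ := Cfsg.Agent.S4464.result (G := Q) r hr
      (fun χ => lt_of_le_of_lt (hQ χ) (by omega))
    apply hnab
    have hPne : P ≠ ⊥ := by
      intro h
      apply hPidx
      rw [h, Subgroup.index_bot]
      exact hrd
    have hDP : commutator Q ≤ P := hmin P hPn hPne
    intro a ha c hc
    exact hPab a (hDP ha) c (hDP hc)
  exact Helper80.DegGraph.commutator_comm_of_derivedMinimal hmin

omit [Finite Q] in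
/-- If the derived subgroup is nonabelian and lies in every nontrivial normal subgroup, then
every nontrivial element has a conjugate not commuting with a given nontrivial element. -/
theorem exists_conj_not_mem_centralizer (hmin : Helper80.DegGraph.DerivedMinimal Q)
    (hnab : ¬ ∀ a ∈ commutator Q, ∀ c ∈ commutator Q, a * c = c * a) (x : Q) (hx : x ≠ 1)
    (y : Q) (hy : y ≠ 1) : ∃ g : Q, g⁻¹ * y * g ∉ Subgroup.centralizer ({x} : Set Q) := by
  by_contra hcon
  push Not at hcon
  apply hnab
  -- `y` lies in the normal core of the centralizer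
  have hycore : y ∈ (Subgroup.centralizer ({x} : Set Q)).normalCore := by
    intro g
    have := hcon g⁻¹
    rwa [inv_inv] at this
  have hcore_ne : (Subgroup.centralizer ({x} : Set Q)).normalCore ≠ ⊥ := by
    intro h
    rw [h, Subgroup.mem_bot] at hycore
    exact hy hycore
  have hD1 : commutator Q ≤ Subgroup.centralizer ({x} : Set Q) :=
    (hmin _ inferInstance hcore_ne).trans (Subgroup.normalCore_le _)
  -- `x` centralizes `D`
  have hxC : x ∈ Subgroup.centralizer ((commutator Q : Subgroup Q) : Set Q) := by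
    rw [Subgroup.mem_centralizer_iff]
    intro d hd
    have := Subgroup.mem_centralizer_iff.mp (hD1 hd) x (Set.mem_singleton x)
    exact this.symm
  have hCne : Subgroup.centralizer ((commutator Q : Subgroup Q) : Set Q) ≠ ⊥ := by
    intro h
    rw [h, Subgroup.mem_bot] at hxC
    exact hx hxC
  have hD2 : commutator Q ≤ Subgroup.centralizer ((commutator Q : Subgroup Q) : Set Q) :=
    hmin _ inferInstance hCne
  intro a ha c hc
  exact (Subgroup.mem_centralizer_iff.mp (hD2 hc) a ha)

end qlevel

section counting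

variable {Q : Type u} [Group Q] [Fintype Q]

/-- The order of a centralizer as a sum of squares of character values. -/
theorem card_centralizer_eq_sum [Fintype (IrrCharacter Q)] (x : Q) :
    (Nat.card (Subgroup.centralizer ({x} : Set Q)) : ℝ) =
      ∑ χ : IrrCharacter Q, ‖(χ : Q → ℂ) x‖ ^ 2 := by
  classical
  have h := Helper74.second_orthogonality (G := Q) x x
  rw [if_pos (IsConj.refl x)] at h
  have h2 : ∑ χ : IrrCharacter Q, (χ : Q → ℂ) x * conj ((χ : Q → ℂ) x) =
      ((∑ χ : IrrCharacter Q, ‖(χ : Q → ℂ) x‖ ^ 2 : ℝ) : ℂ) := by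
    push_cast
    refine Finset.sum_congr rfl fun χ _ => ?_
    rw [Helper74.mul_conj_eq_norm_sq]
    push_cast
    rfl
  rw [h2] at h
  exact_mod_cast h.symm

/-- `∑_x |C(x)| = |Irr(Q)| |Q|`. -/
theorem sum_card_centralizer [Fintype (IrrCharacter Q)] :
    ∑ x : Q, Nat.card (Subgroup.centralizer ({x} : Set Q)) =
      Fintype.card (IrrCharacter Q) * Nat.card Q := by
  have h : ((∑ x : Q, Nat.card (Subgroup.centralizer ({x} : Set Q)) : ℕ) : ℝ) =
      ((Fintype.card (IrrCharacter Q) * Nat.card Q : ℕ) : ℝ) := by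
    push_cast
    rw [Finset.sum_congr rfl (fun x _ => card_centralizer_eq_sum x), Finset.sum_comm,
      Finset.sum_congr rfl (fun χ _ => Helper74.sum_norm_sq_irr χ), Finset.sum_const,
      Finset.card_univ, nsmul_eq_mul]
  exact_mod_cast h

/-- A nontrivial group with degrees at most `b` has a nontrivial element with at most `b²`
conjugates. -/
theorem exists_small_class {b : ℕ} (hQ : AllDegLe Q b) (hnt : ∃ x : Q, x ≠ 1) :
    ∃ x : Q, x ≠ 1 ∧ (Subgroup.centralizer ({x} : Set Q)).index ≤ b ^ 2 := by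
  classical
  let _ : Fintype (IrrCharacter Q) := Helper74.irrFintype Q
  by_contra hcon
  push Not at hcon
  set q := Nat.card Q with hq
  set n := Fintype.card (IrrCharacter Q) with hn
  have hqpos : 0 < q := Nat.card_pos
  -- centralizers are small
  have hC : ∀ x : Q, x ≠ 1 →
      Nat.card (Subgroup.centralizer ({x} : Set Q)) * (b ^ 2 + 1) ≤ q := by
    intro x hx
    have h1 := hcon x hx
    have h2 := Subgroup.card_mul_index (Subgroup.centralizer ({x} : Set Q))
    rw [← hq] at h2
    rw [← h2]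
    exact Nat.mul_le_mul_left _ h1
  have hC1 : Nat.card (Subgroup.centralizer ({(1 : Q)} : Set Q)) = q := by
    have h5 : Subgroup.centralizer ({(1 : Q)} : Set Q) = ⊤ := by
      rw [eq_top_iff]
      intro x _
      rw [Subgroup.mem_centralizer_iff]
      intro y hy
      rw [Set.mem_singleton_iff] at hy
      rw [hy]; simp
    rw [h5, Subgroup.card_top]
  -- first inequality
  have hsum := sum_card_centralizer (Q := Q)
  rw [← hn, ← hq] at hsum
  have h1 : n * q * (b ^ 2 + 1) ≤ q * (b ^ 2 + 1) + (q - 1) * q := by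
    rw [← hsum, Finset.sum_mul, ← Finset.add_sum_erase _ _ (Finset.mem_univ (1 : Q)), hC1]
    refine Nat.add_le_add_left ?_ _
    calc ∑ x ∈ Finset.univ.erase (1 : Q),
          Nat.card (Subgroup.centralizer ({x} : Set Q)) * (b ^ 2 + 1)
        ≤ ∑ _x ∈ Finset.univ.erase (1 : Q), q :=
          Finset.sum_le_sum fun x hx => hC x (Finset.ne_of_mem_erase hx)
      _ = (q - 1) * q := by
          rw [Finset.sum_const, Finset.card_erase_of_mem (Finset.mem_univ _), Finset.card_univ,
            smul_eq_mul, hq, Nat.card_eq_fintype_card]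
  have h2 : n * (b ^ 2 + 1) ≤ b ^ 2 + q := by
    have h3 : q * (n * (b ^ 2 + 1)) ≤ q * (b ^ 2 + q) := by
      calc q * (n * (b ^ 2 + 1)) = n * q * (b ^ 2 + 1) := by ring
        _ ≤ q * (b ^ 2 + 1) + (q - 1) * q := h1
        _ = q * (b ^ 2 + q) := by
            obtain ⟨m, hm⟩ : ∃ m, q = m + 1 := ⟨q - 1, by omega⟩
            rw [hm, Nat.add_sub_cancel]
            ring
    exact Nat.le_of_mul_le_mul_left h3 hqpos
  -- second inequality
  let χ₀ : IrrCharacter Q := ⟨fun _ => (1 : ℂ), Helper15.isIrrCharacter_one Q⟩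
  have hχ₀ : charDegree (χ₀ : Q → ℂ) = 1 := by
    unfold charDegree
    show ⌊((1 : ℂ)).re⌋₊ = 1
    simp
  have hnpos : 0 < n := Fintype.card_pos_iff.mpr ⟨χ₀⟩
  have h4 : q ≤ 1 + (n - 1) * b ^ 2 := by
    have h5 := Helper79.sum_charDegree_sq (G := Q)
    rw [← hq, ← Finset.add_sum_erase _ _ (Finset.mem_univ χ₀), hχ₀, one_pow] at h5
    rw [← h5]
    refine Nat.add_le_add_left ?_ _
    calc ∑ χ ∈ Finset.univ.erase χ₀, charDegree (χ : Q → ℂ) ^ 2
        ≤ ∑ _χ ∈ Finset.univ.erase χ₀, b ^ 2 :=
          Finset.sum_le_sum fun χ _ => Nat.pow_le_pow_left (hQ χ) 2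
      _ = (n - 1) * b ^ 2 := by
          rw [Finset.sum_const, Finset.card_erase_of_mem (Finset.mem_univ _), Finset.card_univ,
            smul_eq_mul]
  -- conclusion
  obtain ⟨m, hm⟩ : ∃ m, n = m + 1 := ⟨n - 1, by omega⟩
  rw [hm] at h2 h4
  rw [Nat.add_sub_cancel] at h4
  have h6 : (m + 1) * (b ^ 2 + 1) = m * b ^ 2 + m + b ^ 2 + 1 := by ring
  rw [h6] at h2
  have hm0 : m = 0 := by omega
  rw [hm0, zero_mul, add_zero] at h4
  have hq1 : q = 1 := by omega
  obtain ⟨x, hx⟩ := hnt
  have hsub : Subsingleton Q := (Nat.card_eq_one_iff_unique.mp hq1).1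
  exact hx (Subsingleton.elim x 1)

end counting

section glevel

variable {G : Type u} [Group G] [Fintype G]

/-- **The nonsolvable case.** -/
theorem typeNS {b : ℕ} (hG : AllDegLe G b) (K : Subgroup G) [hK : K.Normal]
    (hKc : ¬ commutator G ≤ K) (hmin : Helper80.DegGraph.DerivedMinimal (G ⧸ K))
    (hnab : ¬ ∀ a ∈ commutator (G ⧸ K), ∀ c ∈ commutator (G ⧸ K), a * c = c * a) :
    Step G b := by
  classical
  let _ : Fintype (G ⧸ K) := Fintype.ofFinite _
  have hQ : AllDegLe (G ⧸ K) b :=
    hG.of_surjective (QuotientGroup.mk' K) (QuotientGroup.mk'_surjective K)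
  have hb5 : 5 ≤ b := five_le hmin hnab hQ
  have hnt : ∃ x : G ⧸ K, x ≠ 1 := by
    by_contra hcon
    push Not at hcon
    apply hnab
    intro a _ c _
    rw [hcon a, hcon c]
  obtain ⟨x, hx1, hxidx⟩ := exists_small_class hQ hnt
  obtain ⟨H, hH⟩ : ∃ H : Subgroup G,
      H = (Subgroup.centralizer ({x} : Set (G ⧸ K))).comap (QuotientGroup.mk' K) := ⟨_, rfl⟩
  have hmem : ∀ g : G, g ∈ H ↔ (g : G ⧸ K) ∈ Subgroup.centralizer ({x} : Set (G ⧸ K)) := by
    intro g
    rw [hH, Subgroup.mem_comap]
    rfl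
  have hKH : K ≤ H := by
    intro k hk
    rw [hmem, (QuotientGroup.eq_one_iff k).mpr hk]
    exact one_mem _
  have hHidx : H.index ≤ b ^ 2 := by
    rw [hH, Subgroup.index_comap_of_surjective _ (QuotientGroup.mk'_surjective K)]
    exact hxidx
  let _ : Fintype H := Fintype.ofFinite H
  have hvan : ∀ ψ : IrrCharacter H, charDegree (ψ : H → ℂ) = b → ∀ h : H, (h : G) ∉ K →
      (ψ : H → ℂ) h = 0 := by
    intro ψ hψ h hhK
    have hy1 : ((h : G) : G ⧸ K) ≠ 1 := fun h1 => hhK ((QuotientGroup.eq_one_iff _).mp h1)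
    obtain ⟨g', hg'⟩ := exists_conj_not_mem_centralizer hmin hnab x hx1 _ hy1
    obtain ⟨g, rfl⟩ := QuotientGroup.mk'_surjective K g'
    refine eq_zero_of_conj_not_mem H hG ψ hψ h g ?_
    intro hcon
    apply hg'
    have := (hmem _).mp hcon
    simpa only [QuotientGroup.mk_mul, QuotientGroup.mk_inv, QuotientGroup.mk'_apply] using this
  have hb1 : 1 ≤ b := by omega
  rcases pattern hG H K hKH hvan with hall | hidx
  · exact step_of_pred hb1 H hall hHidx
  · refine step_of_half K (allDegLe_half hG K hKc) (Or.inl ⟨hb5, ?_⟩)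
    calc K.index ≤ H.index * b ^ 2 := hidx
      _ ≤ b ^ 2 * b ^ 2 := Nat.mul_le_mul_right _ hHidx
      _ = b ^ 4 := by ring

end glevel

end Cfsg.Agent.Helper15.MaxDeg
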