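import Mathlib
import Cfsg.Prelude.Def_Blocks
import Cfsg.Agent.Helper15.MaxDegC
import Cfsg.Agent.Helper15.MaxDegD
import Cfsg.Agent.Helper15.MaxDegE

/-!
# Groups with bounded character degrees: an abelian subgroup of index at most `(b!)²`

(Isaacs, Character theory of finite groups, Theorem 12.23.)  If every irreducible character of `G`
has degree at most `b`, then `G` has an abelian subgroup of index at most `(b!)²`.

Induction on `b`: a nonabelian `G` has a subgroup `H` whose degrees are at most `c < b` with
`[G:H] (c!)² ≤ (b!)²` (`exists_step`).  Choose `K ⊴ G` maximal with `G/K` nonabelian; the three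
cases `Z(G/K) ≠ 1`, `G/K` of Frobenius type, `(G/K)'` nonabelian are `typeZ`, `typeF`, `typeNS`.
-/

set_option autoImplicit false

namespace Cfsg.Agent.Helper15.MaxDeg

open Cfsg
open scoped commutatorElement

universe u

theorem exists_step {G : Type u} [Group G] [Finite G] {b : ℕ} (hG : AllDegLe G b)
    (hna : ¬ ∀ x y : G, x * y = y * x) : Step G b := by
  classical
  let _ : Fintype G := Fintype.ofFinite G
  have habel : commutator G ≠ ⊥ := by
    intro h
    apply hna
    intro x y
    have h1 : ⁅x, y⁆ ∈ commutator G :=
      Subgroup.commutator_mem_commutator (Subgroup.mem_top _) (Subgroup.mem_top _)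
    rw [h, Subgroup.mem_bot, commutatorElement_def] at h1
    calc x * y = (x * y * x⁻¹ * y⁻¹) * (y * x) := by group
      _ = y * x := by rw [h1, one_mul]
  -- choose `K` maximal with nonabelian quotient
  obtain ⟨K, hKmax⟩ := Set.Finite.exists_maximal
    (s := {K : Subgroup G | K.Normal ∧ ¬ commutator G ≤ K}) (Set.toFinite _)
    ⟨⊥, inferInstance, fun h => habel (le_bot_iff.mp h)⟩
  have hKn : K.Normal := hKmax.1.1
  have hKc : ¬ commutator G ≤ K := hKmax.1.2
  have hcommap : commutator (G ⧸ K) = (commutator G).map (QuotientGroup.mk' K) := by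
    rw [commutator_def, commutator_def, Subgroup.map_commutator,
      Subgroup.map_top_of_surjective _ (QuotientGroup.mk'_surjective K)]
  have hD : commutator (G ⧸ K) ≠ ⊥ := by
    intro h
    rw [hcommap, Subgroup.map_eq_bot_iff, QuotientGroup.ker_mk'] at h
    exact hKc h
  have hmin : Helper80.DegGraph.DerivedMinimal (G ⧸ K) := by
    intro M hMn hMne
    have hM'n : (M.comap (QuotientGroup.mk' K)).Normal := hMn.comap _
    have hKM' : K ≤ M.comap (QuotientGroup.mk' K) := by
      intro k hk
      rw [Subgroup.mem_comap, QuotientGroup.mk'_apply, (QuotientGroup.eq_one_iff k).mpr hk]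
      exact one_mem M
    have hle : commutator G ≤ M.comap (QuotientGroup.mk' K) := by
      by_contra hcon
      have h1 := hKmax.2 (⟨hM'n, hcon⟩ : M.comap (QuotientGroup.mk' K) ∈
        {K : Subgroup G | K.Normal ∧ ¬ commutator G ≤ K}) hKM'
      apply hMne
      rw [Subgroup.eq_bot_iff_forall]
      intro x hx
      obtain ⟨g, rfl⟩ := QuotientGroup.mk'_surjective K x
      have : g ∈ K := h1 (Subgroup.mem_comap.mpr hx)
      exact (QuotientGroup.eq_one_iff g).mpr this
    rw [hcommap]
    exact (Subgroup.map_mono hle).trans (Subgroup.map_comap_le _ _)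
  by_cases hZ : Subgroup.center (G ⧸ K) = ⊥
  · by_cases hnab : ∀ a ∈ commutator (G ⧸ K), ∀ c ∈ commutator (G ⧸ K), a * c = c * a
    · -- solvable
      have hsolv : Group.IsSolvable (G ⧸ K) := by
        refine ⟨⟨2, ?_⟩⟩
        have h1 : derivedSeries (G ⧸ K) 1 = commutator (G ⧸ K) := by
          rw [derivedSeries_succ, derivedSeries_zero, commutator_def]
        rw [derivedSeries_succ, h1, Subgroup.commutator_eq_bot_iff_le_centralizer]
        intro a ha
        rw [Subgroup.mem_centralizer_iff]
        intro c hc
        exact hnab c hc a ha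
      obtain ⟨p, hp, hexp, hcomm, hcase⟩ := Helper80.DegGraph.derivedMinimal_dichotomy hmin hD
      rcases hcase with hpg | hfpf
      · exfalso
        have hpf : Fact p.Prime := ⟨hp⟩
        have hnt : Nontrivial (G ⧸ K) := by
          by_contra hcon
          rw [not_nontrivial_iff_subsingleton] at hcon
          apply hD
          rw [Subgroup.eq_bot_iff_forall]
          intro x _
          exact Subsingleton.elim x 1
        have := IsPGroup.center_nontrivial hpg
        exact (Subgroup.nontrivial_iff_ne_bot _).mp this hZ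
      · exact typeF hG K hKc hp hexp hcomm hfpf
    · exact typeNS hG K hKc hmin hnab
  · exact typeZ hG K hKc hmin hZ

/-- **Isaacs 12.23.** -/
theorem exists_abelian_subgroup (b : ℕ) : ∀ (G : Type u) [Group G] [Finite G], AllDegLe G b →
    ∃ A : Subgroup G, (∀ x ∈ A, ∀ y ∈ A, x * y = y * x) ∧ A.index ≤ (b.factorial) ^ 2 := by
  induction b using Nat.strong_induction_on with
  | _ b ih =>
    intro G _ _ hG
    by_cases hab : ∀ x y : G, x * y = y * x
    · refine ⟨⊤, fun x _ y _ => hab x y, ?_⟩
      rw [Subgroup.index_top]
      exact Nat.one_le_pow _ _ (Nat.factorial_pos b)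
    · obtain ⟨H, c, hcb, hH, hidx⟩ := exists_step hG hab
      obtain ⟨A, hA, hAidx⟩ := ih c hcb H hH
      refine ⟨A.map H.subtype, ?_, ?_⟩
      · rintro _ ⟨x, hx, rfl⟩ _ ⟨y, hy, rfl⟩
        have := hA x hx y hy
        exact congrArg Subtype.val this
      · rw [Subgroup.index_map_subtype]
        calc A.index * H.index ≤ (c.factorial) ^ 2 * H.index := Nat.mul_le_mul_right _ hAidx
          _ = H.index * (c.factorial) ^ 2 := mul_comm _ _
          _ ≤ (b.factorial) ^ 2 := hidx

end Cfsg.Agent.Helper15.MaxDeg
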