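import Mathlib

/-!
# S4017: definitions for the minimal-counterexample analysis (helper15)

`MC G p a`: `G` is a (minimal) counterexample to S4017 in the case `q = 2`, `p = 2 ^ a - 1`:
`|G|_2 = 2 ^ a`, `p ∣ |G|`, every proper subgroup of even order which is not a `2`-group is a
`{2, p}`-group (`f1`), all `p`-subgroups are abelian, and some prime `r ∉ {2, p}` divides `|G|`.

`Cfg G p a Q x`: moreover `G` is simple, `Q` is an elementary abelian Sylow `2`-subgroup and `x` is
a `p`-element normalizing `Q` and transitive on `Q \ 1`.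
-/

set_option autoImplicit false

namespace Cfsg.Agent.Helper15.Mix

/-- `g` is a `p`-element. -/
def IsPElt {G : Type*} [Group G] (p : ℕ) (g : G) : Prop := ∃ j : ℕ, orderOf g = p ^ j

/-- The subgroup generated by the `p`-elements of `C_G(t)`. -/
def W {G : Type*} [Group G] (p : ℕ) (t : G) : Subgroup G :=
  Subgroup.closure {g | g * t = t * g ∧ IsPElt p g}

/-- The subgroup generated by the `p`-elements of `C_G(Q)`. -/
def Y {G : Type*} [Group G] (p : ℕ) (Q : Subgroup G) : Subgroup G :=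
  Subgroup.closure {g | g ∈ Subgroup.centralizer (Q : Set G) ∧ IsPElt p g}

/-- Minimal counterexample data. -/
structure MC (G : Type*) [Group G] (p a : ℕ) : Prop where
  hp : p.Prime
  ha : 2 ≤ a
  hpa : p + 1 = 2 ^ a
  hcard : (Nat.card G).factorization 2 = a
  hpG : p ∣ Nat.card G
  f1 : ∀ H : Subgroup G, H ≠ ⊤ → 2 ∣ Nat.card H → ¬ IsPGroup 2 H →
    ∀ r : ℕ, r.Prime → r ∣ Nat.card H → r = p ∨ r = 2
  pab : ∀ H : Subgroup G, IsPGroup p H → ∀ x ∈ H, ∀ y ∈ H, x * y = y * x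
  bad : ∃ r : ℕ, r.Prime ∧ r ∣ Nat.card G ∧ r ≠ p ∧ r ≠ 2

/-- The configuration: `G` simple, `Q` elementary abelian Sylow `2`, `x` a `p`-element of `N(Q)`
transitive on `Q \ 1`. -/
structure Cfg (G : Type*) [Group G] (p a : ℕ) (Q : Subgroup G) (x : G) : Prop where
  mc : MC G p a
  simple : IsSimpleGroup G
  qcard : Nat.card Q = 2 ^ a
  qexp : ∀ u ∈ Q, u * u = 1
  xN : x ∈ Subgroup.normalizer (Q : Set G)
  xp : IsPElt p x
  xtrans : ∀ u ∈ Q, ∀ v ∈ Q, u ≠ 1 → v ≠ 1 → ∃ k : ℕ, x ^ k * u * (x ^ k)⁻¹ = v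

end Cfsg.Agent.Helper15.Mix
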