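import Mathlib
import Cfsg.Agent.Helper15.MixDefs

/-!
# S4017: basic facts about `MC` and `Cfg` (helper15)
-/

set_option autoImplicit false
set_option linter.unusedSectionVars false

namespace Cfsg.Agent.Helper15.Mix

open Subgroup

variable {G : Type*} [Group G] [Finite G] {p a : ℕ} {Q : Subgroup G} {x : G}

theorem MC.three_le (h : MC G p a) : 3 ≤ p := by
  have h1 : 2 ^ 2 ≤ 2 ^ a := Nat.pow_le_pow_right (by norm_num) h.ha
  have := h.hpa
  omega

theorem MC.p_ne_two (h : MC G p a) : p ≠ 2 := by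
  have := h.three_le
  omega

theorem MC.p_odd (h : MC G p a) : Odd p :=
  h.hp.odd_of_ne_two h.p_ne_two

theorem MC.card_pos (_h : MC G p a) : 0 < Nat.card G := Nat.card_pos

theorem MC.two_pow_dvd (h : MC G p a) : 2 ^ a ∣ Nat.card G := by
  rw [← h.hcard]
  exact Nat.ordProj_dvd _ _

theorem MC.two_dvd (h : MC G p a) : 2 ∣ Nat.card G :=
  dvd_trans (dvd_pow_self 2 (by have := h.ha; omega)) h.two_pow_dvd

/-- (M1) -/
theorem MC.mix (h : MC G p a) (H : Subgroup G) (h2 : 2 ∣ Nat.card H) (hn : ¬ IsPGroup 2 H) :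
    p ∣ Nat.card H := by
  by_cases hH : H = ⊤
  · subst hH
    rw [Subgroup.card_top]
    exact h.hpG
  · by_contra hp
    apply hn
    have : Fact (Nat.Prime 2) := ⟨Nat.prime_two⟩
    have hpos : Nat.card H ≠ 0 := Nat.card_pos.ne'
    have hpow : Nat.card H = 2 ^ (Nat.card H).primeFactorsList.length := by
      apply Nat.eq_prime_pow_of_unique_prime_dvd hpos
      intro r hrp hrd
      rcases h.f1 H hH h2 hn r hrp hrd with h' | h'
      · exact absurd (h' ▸ hrd) hp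
      · exact h'
    exact IsPGroup.of_card hpow

theorem MC.exists_invol (h : MC G p a) : ∃ t : G, orderOf t = 2 := by
  have : Fact (Nat.Prime 2) := ⟨Nat.prime_two⟩
  exact exists_prime_orderOf_dvd_card' 2 h.two_dvd

/-- A proper subgroup of even order is a `{2,p}`-group. -/
theorem MC.card_two_p (h : MC G p a) (H : Subgroup G) (hH : H ≠ ⊤) (h2 : 2 ∣ Nat.card H) :
    ∃ i j : ℕ, Nat.card H = 2 ^ i * p ^ j ∧ i ≤ a := by
  have hpos : Nat.card H ≠ 0 := Nat.card_pos.ne'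
  have hp := h.hp
  have hdiv : Nat.card H ∣ Nat.card G := Subgroup.card_subgroup_dvd_card H
  have hia : (Nat.card H).factorization 2 ≤ a := by
    rw [← h.hcard]
    exact (Nat.factorization_le_iff_dvd hpos Nat.card_pos.ne').mpr hdiv 2
  refine ⟨(Nat.card H).factorization 2, (Nat.card H).factorization p, ?_, hia⟩
  by_cases hn : IsPGroup 2 H
  · have : Fact (Nat.Prime 2) := ⟨Nat.prime_two⟩
    obtain ⟨k, hk⟩ := hn.exists_card_eq
    rw [hk]
    have h2p : (2 ^ k).factorization p = 0 := by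
      rw [Nat.factorization_pow]
      simp [Nat.factorization_eq_zero_of_not_dvd (show ¬ p ∣ 2 from fun hd =>
        h.p_ne_two ((Nat.prime_dvd_prime_iff_eq hp Nat.prime_two).mp hd))]
    rw [h2p, pow_zero, mul_one, Nat.factorization_pow]
    simp [Nat.prime_two.factorization]
  · apply Nat.eq_of_factorization_eq hpos
      (mul_ne_zero (pow_ne_zero _ (by norm_num)) (pow_ne_zero _ hp.pos.ne'))
    intro r
    rw [Nat.factorization_mul (pow_ne_zero _ (by norm_num)) (pow_ne_zero _ hp.pos.ne'),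
      Nat.factorization_pow, Nat.factorization_pow, Nat.prime_two.factorization, hp.factorization]
    simp only [Finsupp.coe_add, Finsupp.coe_smul, Pi.add_apply, Pi.smul_apply, smul_eq_mul,
      Finsupp.single_apply]
    by_cases hr2 : r = 2
    · subst hr2
      rw [if_pos rfl, if_neg h.p_ne_two]; simp
    · by_cases hrp : r = p
      · subst hrp
        rw [if_neg (Ne.symm hr2), if_pos rfl]; simp
      · rw [if_neg (Ne.symm hr2), if_neg (Ne.symm hrp)]
        simp only [mul_zero, add_zero]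
        by_contra hne
        have hmem : r ∈ (Nat.card H).primeFactors :=
          Nat.support_factorization _ ▸ Finsupp.mem_support_iff.mpr hne
        rcases h.f1 H hH h2 hn r (Nat.prime_of_mem_primeFactors hmem)
          (Nat.dvd_of_mem_primeFactors hmem) with h' | h'
        · exact hrp h'
        · exact hr2 h'

/-! ### `Cfg` -/

theorem Cfg.Q_comm (h : Cfg G p a Q x) : ∀ u ∈ Q, ∀ v ∈ Q, u * v = v * u := by
  intro u hu v hv
  have h1 := h.qexp u hu
  have h2 := h.qexp v hv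
  have h3 := h.qexp (u * v) (Q.mul_mem hu hv)
  have hu' : u⁻¹ = u := inv_eq_of_mul_eq_one_left h1
  have hv' : v⁻¹ = v := inv_eq_of_mul_eq_one_left h2
  have : (u * v)⁻¹ = u * v := inv_eq_of_mul_eq_one_left h3
  rw [mul_inv_rev, hu', hv'] at this
  exact this.symm

theorem Cfg.orderOf_of_mem (h : Cfg G p a Q x) {u : G} (hu : u ∈ Q) (hu1 : u ≠ 1) :
    orderOf u = 2 := by
  have h1 := h.qexp u hu
  rw [← sq] at h1
  exact orderOf_eq_prime h1 hu1

theorem Cfg.isPGroup_Q (h : Cfg G p a Q x) : IsPGroup 2 Q :=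
  IsPGroup.of_card h.qcard

theorem Cfg.four_le_card (h : Cfg G p a Q x) : 4 ≤ Nat.card Q := by
  rw [h.qcard]
  calc 4 = 2 ^ 2 := by norm_num
    _ ≤ 2 ^ a := Nat.pow_le_pow_right (by norm_num) h.mc.ha

theorem Cfg.card_Q (h : Cfg G p a Q x) : Nat.card Q = p + 1 := by
  rw [h.qcard, h.mc.hpa]

theorem Cfg.Q_ne_bot (h : Cfg G p a Q x) : Q ≠ ⊥ := by
  intro hb
  have := h.four_le_card
  rw [hb, Subgroup.card_bot] at this
  omega

theorem Cfg.Q_ne_top (h : Cfg G p a Q x) : Q ≠ ⊤ := by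
  intro ht
  have h1 := h.qcard
  rw [ht, Subgroup.card_top] at h1
  have h2 := h.mc.hpG
  rw [h1] at h2
  have := (Nat.prime_dvd_prime_iff_eq h.mc.hp Nat.prime_two).mp (h.mc.hp.dvd_of_dvd_pow h2)
  exact h.mc.p_ne_two this

/-- There are two distinct non-identity elements of `Q`. -/
theorem Cfg.exists_two (h : Cfg G p a Q x) :
    ∃ u ∈ Q, ∃ v ∈ Q, u ≠ 1 ∧ v ≠ 1 ∧ u ≠ v := by
  have h4 := h.four_le_card
  by_contra hcon
  push Not at hcon
  -- all non-identity elements equal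
  have hsub : ∀ u v : Q, u ≠ 1 → v ≠ 1 → u = v := by
    intro u v hu hv
    apply Subtype.ext
    exact hcon u u.2 v v.2 (fun h' => hu (Subtype.ext h')) (fun h' => hv (Subtype.ext h'))
  have : Nat.card Q ≤ 2 := by
    classical
    have : Fintype Q := Fintype.ofFinite _
    rw [Nat.card_eq_fintype_card]
    by_cases hex : ∃ u : Q, u ≠ 1
    · obtain ⟨u0, hu0⟩ := hex
      have : (Finset.univ : Finset Q) ⊆ {1, u0} := by
        intro v _
        by_cases hv : v = 1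
        · simp [hv]
        · simp [hsub v u0 hv hu0]
      calc Fintype.card Q = (Finset.univ : Finset Q).card := rfl
        _ ≤ ({1, u0} : Finset Q).card := Finset.card_le_card this
        _ ≤ 2 := Finset.card_le_two
    · push Not at hex
      have : (Finset.univ : Finset Q) ⊆ {1} := by
        intro v _
        simp [hex v]
      calc Fintype.card Q = (Finset.univ : Finset Q).card := rfl
        _ ≤ ({1} : Finset Q).card := Finset.card_le_card this
        _ ≤ 2 := by simp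
  omega

theorem Cfg.exists_ne_one (h : Cfg G p a Q x) : ∃ t ∈ Q, t ≠ 1 := by
  obtain ⟨u, hu, _, _, hu1, _, _⟩ := h.exists_two
  exact ⟨u, hu, hu1⟩

theorem Cfg.x_not_mem_CQ (h : Cfg G p a Q x) : x ∉ centralizer (Q : Set G) := by
  intro hx
  obtain ⟨u, hu, v, hv, hu1, hv1, huv⟩ := h.exists_two
  obtain ⟨k, hk⟩ := h.xtrans u hu v hv hu1 hv1
  have hxk : x ^ k ∈ centralizer (Q : Set G) := Subgroup.pow_mem _ hx k
  have := (Subgroup.mem_centralizer_iff.mp hxk) u hu
  apply huv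
  rw [← hk, ← this, mul_assoc, mul_inv_cancel, mul_one]

theorem Cfg.x_ne_one (h : Cfg G p a Q x) : x ≠ 1 := by
  intro hx
  apply h.x_not_mem_CQ
  rw [hx]
  exact Subgroup.one_mem _

/-- `G` is not commutative. -/
theorem Cfg.center_eq_bot (h : Cfg G p a Q x) : center G = ⊥ := by
  have := h.simple
  rcases (Subgroup.Normal.eq_bot_or_eq_top (inferInstance : (center G).Normal)) with hb | ht
  · exact hb
  · exfalso
    apply h.x_not_mem_CQ
    have hx : x ∈ center G := ht ▸ Subgroup.mem_top x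
    rw [Subgroup.mem_centralizer_iff]
    intro u _
    exact ((Subgroup.mem_center_iff.mp hx) u)

theorem Cfg.cz_ne_top (h : Cfg G p a Q x) {g : G} (hg : g ≠ 1) :
    centralizer ({g} : Set G) ≠ ⊤ := by
  intro ht
  have : g ∈ center G := by
    rw [Subgroup.mem_center_iff]
    intro y
    have hy : y ∈ centralizer ({g} : Set G) := ht ▸ Subgroup.mem_top y
    exact ((Subgroup.mem_centralizer_iff.mp hy) g rfl).symm
  rw [h.center_eq_bot, Subgroup.mem_bot] at this
  exact hg this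

theorem Cfg.normalizer_ne_top (h : Cfg G p a Q x) {H : Subgroup G} (h1 : H ≠ ⊥) (h2 : H ≠ ⊤) :
    normalizer (H : Set G) ≠ ⊤ := by
  intro ht
  have hn : H.Normal := Subgroup.normalizer_eq_top_iff.mp ht
  have := h.simple
  rcases hn.eq_bot_or_eq_top with hb | hb
  · exact h1 hb
  · exact h2 hb

theorem Cfg.N_ne_top (h : Cfg G p a Q x) : normalizer (Q : Set G) ≠ ⊤ :=
  h.normalizer_ne_top h.Q_ne_bot h.Q_ne_top

/-- `Q` is a Sylow `2`-subgroup: a `2`-subgroup containing `Q` equals `Q`. -/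
theorem Cfg.eq_of_le_of_isPGroup (h : Cfg G p a Q x) {H : Subgroup G} (hH : IsPGroup 2 H)
    (hQH : Q ≤ H) : H = Q := by
  have : Fact (Nat.Prime 2) := ⟨Nat.prime_two⟩
  obtain ⟨k, hk⟩ := hH.exists_card_eq
  have hdiv : Nat.card H ∣ Nat.card G := Subgroup.card_subgroup_dvd_card H
  have hka : k ≤ a := by
    rw [hk] at hdiv
    have := (Nat.Prime.pow_dvd_iff_le_factorization Nat.prime_two Nat.card_pos.ne').mp hdiv
    rwa [h.mc.hcard] at this
  have hle : Nat.card H ≤ Nat.card Q := by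
    rw [hk, h.qcard]
    exact Nat.pow_le_pow_right (by norm_num) hka
  exact (Subgroup.eq_of_le_of_card_ge hQH hle).symm

/-- The Sylow `2`-subgroup `Q` as a term of `Sylow 2 G`. -/
noncomputable def Cfg.sylowQ (h : Cfg G p a Q x) : Sylow 2 G :=
  have : Fact (Nat.Prime 2) := ⟨Nat.prime_two⟩
  Sylow.ofCard Q (by rw [h.qcard, h.mc.hcard])

theorem Cfg.coe_sylowQ (h : Cfg G p a Q x) : (h.sylowQ : Subgroup G) = Q := rfl

/-- Every `2`-subgroup is conjugate into `Q`. -/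
theorem Cfg.exists_conj_le (h : Cfg G p a Q x) {H : Subgroup G} (hH : IsPGroup 2 H) :
    ∃ c : G, ∀ g ∈ H, c * g * c⁻¹ ∈ Q := by
  have : Fact (Nat.Prime 2) := ⟨Nat.prime_two⟩
  obtain ⟨P, hP⟩ := hH.exists_le_sylow
  obtain ⟨c, hc⟩ := MulAction.exists_smul_eq G P h.sylowQ
  refine ⟨c, fun g hg => ?_⟩
  have : c * g * c⁻¹ ∈ ((c • P : Sylow 2 G) : Subgroup G) := by
    rw [Sylow.coe_subgroup_smul, Subgroup.mem_pointwise_smul_iff_inv_smul_mem]
    simp only [MulAut.smul_def, MulAut.conj_inv_apply]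
    have : c⁻¹ * (c * g * c⁻¹) * c = g := by group
    rw [this]
    exact hP hg
  rw [hc] at this
  exact this

/-- Every involution is conjugate into `Q`. -/
theorem Cfg.exists_conj_mem (h : Cfg G p a Q x) {u : G} (hu : orderOf u = 2) :
    ∃ c : G, c * u * c⁻¹ ∈ Q := by
  have hz : IsPGroup 2 (zpowers u) := by
    apply IsPGroup.of_card (n := 1)
    rw [Nat.card_zpowers, hu, pow_one]
  obtain ⟨c, hc⟩ := h.exists_conj_le hz
  exact ⟨c, hc u (Subgroup.mem_zpowers u)⟩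

/-- A `2`-element of `N(Q)` lies in `Q`. -/
theorem Cfg.mem_Q_of_mem_N (h : Cfg G p a Q x) {g : G} (hg : g ∈ normalizer (Q : Set G))
    {k : ℕ} (hk : orderOf g = 2 ^ k) : g ∈ Q := by
  have : Fact (Nat.Prime 2) := ⟨Nat.prime_two⟩
  have hz : IsPGroup 2 (zpowers g) := by
    apply IsPGroup.of_card (n := k)
    rw [Nat.card_zpowers, hk]
  have hzN : zpowers g ≤ normalizer (Q : Set G) := by
    rw [Subgroup.zpowers_le]; exact hg
  have hsup : IsPGroup 2 (Q ⊔ zpowers g : Subgroup G) := by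
    have := IsPGroup.to_sup_of_normal_left' h.isPGroup_Q hz hzN
    exact this
  have := h.eq_of_le_of_isPGroup hsup le_sup_left
  rw [← this]
  exact (le_sup_right : zpowers g ≤ Q ⊔ zpowers g) (Subgroup.mem_zpowers g)

/-! ### splitting an element of a `{2,p}`-group -/

/-- An element of order `2 ^ i * p ^ j` is the product of a `2`-element and a `p`-element, both
powers of it. -/
theorem exists_parts {g : G} {i j : ℕ} (hp : p.Prime) (hp2 : p ≠ 2) (ho : orderOf g = 2 ^ i * p ^ j) :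
    ∃ g2 gp : G, g2 ∈ zpowers g ∧ gp ∈ zpowers g ∧ g = g2 * gp ∧ (∃ k, orderOf g2 = 2 ^ k) ∧
      IsPElt p gp := by
  have hcop : Nat.Coprime (2 ^ i) (p ^ j) :=
    Nat.Coprime.pow _ _ ((Nat.coprime_primes Nat.prime_two hp).mpr (Ne.symm hp2))
  have hbez := Nat.gcd_eq_gcd_ab (2 ^ i) (p ^ j)
  rw [hcop.gcd_eq_one] at hbez
  set α := Nat.gcdA (2 ^ i) (p ^ j)
  set β := Nat.gcdB (2 ^ i) (p ^ j)
  refine ⟨g ^ ((p ^ j : ℕ) * β), g ^ ((2 ^ i : ℕ) * α), Subgroup.zpow_mem_zpowers g _,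
    Subgroup.zpow_mem_zpowers g _, ?_, ?_, ?_⟩
  · rw [← zpow_add, add_comm, ← hbez]
    simp
  · have hpow : (g ^ ((p ^ j : ℕ) * β)) ^ (2 ^ i) = 1 := by
      rw [← zpow_natCast, ← zpow_mul]
      have : ((p ^ j : ℕ) : ℤ) * β * ((2 ^ i : ℕ) : ℤ) = ((2 ^ i * p ^ j : ℕ) : ℤ) * β := by
        push_cast; ring
      rw [this, zpow_mul, zpow_natCast, ← ho, pow_orderOf_eq_one, one_zpow]
    obtain ⟨k, _, hk⟩ := (Nat.dvd_prime_pow Nat.prime_two).mp (orderOf_dvd_of_pow_eq_one hpow)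
    exact ⟨k, hk⟩
  · have hpow : (g ^ ((2 ^ i : ℕ) * α)) ^ (p ^ j) = 1 := by
      rw [← zpow_natCast, ← zpow_mul]
      have : ((2 ^ i : ℕ) : ℤ) * α * ((p ^ j : ℕ) : ℤ) = ((2 ^ i * p ^ j : ℕ) : ℤ) * α := by
        push_cast; ring
      rw [this, zpow_mul, zpow_natCast, ← ho, pow_orderOf_eq_one, one_zpow]
    obtain ⟨k, _, hk⟩ := (Nat.dvd_prime_pow hp).mp (orderOf_dvd_of_pow_eq_one hpow)
    exact ⟨k, hk⟩

/-- Same, for an element of a subgroup of order `2 ^ i * p ^ j`. -/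
theorem exists_parts_of_card {H : Subgroup G} {g : G} {i j : ℕ} (hp : p.Prime) (hp2 : p ≠ 2)
    (hH : Nat.card H = 2 ^ i * p ^ j) (hg : g ∈ H) :
    ∃ g2 gp : G, g2 ∈ zpowers g ∧ gp ∈ zpowers g ∧ g = g2 * gp ∧ (∃ k, orderOf g2 = 2 ^ k) ∧
      IsPElt p gp := by
  have hdvd : orderOf g ∣ 2 ^ i * p ^ j := by
    rw [← hH]
    have := orderOf_dvd_natCard (⟨g, hg⟩ : H)
    rwa [Subgroup.orderOf_mk] at this
  obtain ⟨d1, d2, hd1, hd2, hd⟩ := (Nat.dvd_mul).mp hdvd
  obtain ⟨i', _, rfl⟩ := (Nat.dvd_prime_pow Nat.prime_two).mp hd1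
  obtain ⟨j', _, rfl⟩ := (Nat.dvd_prime_pow hp).mp hd2
  exact exists_parts hp hp2 hd.symm

/-- A `p`-element which is also a `2`-element is trivial (`p` odd). -/
theorem eq_one_of_two_of_pelt {g : G} (hp : p.Prime) (hp2 : p ≠ 2) {k : ℕ} (h2 : orderOf g = 2 ^ k)
    (hg : IsPElt p g) : g = 1 := by
  obtain ⟨j, hj⟩ := hg
  have hcop : Nat.Coprime (2 ^ k) (p ^ j) :=
    Nat.Coprime.pow _ _ ((Nat.coprime_primes Nat.prime_two hp).mpr (Ne.symm hp2))
  rw [← h2, ← hj] at hcop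
  exact orderOf_eq_one_iff.mp ((Nat.coprime_self _).mp hcop)

theorem isPElt_of_mem {H : Subgroup G} (hp : p.Prime) (hH : IsPGroup p H) {g : G} (hg : g ∈ H) :
    IsPElt p g := by
  obtain ⟨k, hk⟩ := hH ⟨g, hg⟩
  have : g ^ p ^ k = 1 := by
    have := congrArg Subtype.val hk
    simpa using this
  obtain ⟨j, _, hj⟩ := (Nat.dvd_prime_pow hp).mp (orderOf_dvd_of_pow_eq_one this)
  exact ⟨j, hj⟩

theorem isPGroup_zpowers {g : G} (hg : IsPElt p g) : IsPGroup p (zpowers g) := by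
  obtain ⟨j, hj⟩ := hg
  apply IsPGroup.of_card (n := j)
  rw [Nat.card_zpowers, hj]

theorem mem_W {t g : G} (hgt : g * t = t * g) (hg : IsPElt p g) : g ∈ W p t :=
  Subgroup.subset_closure ⟨hgt, hg⟩

theorem W_le_cz (t : G) : W p t ≤ centralizer ({t} : Set G) := by
  rw [W, Subgroup.closure_le]
  rintro g ⟨hg, _⟩
  rw [SetLike.mem_coe, Subgroup.mem_centralizer_iff]
  intro y hy
  rw [Set.mem_singleton_iff] at hy
  rw [hy]; exact hg.symm

theorem Y_le_W {t : G} (ht : t ∈ Q) : Y p Q ≤ W p t := by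
  rw [Y, W]
  apply Subgroup.closure_mono
  rintro g ⟨hg, hgp⟩
  exact ⟨((Subgroup.mem_centralizer_iff.mp hg) t ht).symm, hgp⟩

theorem Y_le_CQ : Y p Q ≤ centralizer (Q : Set G) := by
  rw [Y, Subgroup.closure_le]
  rintro g ⟨hg, _⟩
  exact hg

theorem isPElt_conj {g : G} (c : G) (hg : IsPElt p g) : IsPElt p (c * g * c⁻¹) := by
  obtain ⟨j, hj⟩ := hg
  refine ⟨j, ?_⟩
  have : c * g * c⁻¹ = MulAut.conj c g := rfl
  rw [this, MulEquiv.orderOf_eq]
  exact hj

/-- `W p (c t c⁻¹) = c (W p t) c⁻¹`. -/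
theorem W_conj (t c : G) :
    (W p t).map (MulAut.conj c).toMonoidHom = W p (c * t * c⁻¹) := by
  rw [W, W, MonoidHom.map_closure]
  congr 1
  ext g
  simp only [Set.mem_image, Set.mem_ofPred_eq, MulEquiv.coe_toMonoidHom, MulAut.conj_apply]
  constructor
  · rintro ⟨g0, ⟨h1, h2⟩, rfl⟩
    refine ⟨?_, isPElt_conj c h2⟩
    calc c * g0 * c⁻¹ * (c * t * c⁻¹) = c * (g0 * t) * c⁻¹ := by group
      _ = c * (t * g0) * c⁻¹ := by rw [h1]
      _ = c * t * c⁻¹ * (c * g0 * c⁻¹) := by group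
  · rintro ⟨h1, h2⟩
    refine ⟨c⁻¹ * g * c, ⟨?_, ?_⟩, by group⟩
    · have : c⁻¹ * (g * (c * t * c⁻¹)) * c = c⁻¹ * ((c * t * c⁻¹) * g) * c := by rw [h1]
      calc c⁻¹ * g * c * t = c⁻¹ * (g * (c * t * c⁻¹)) * c := by group
        _ = c⁻¹ * ((c * t * c⁻¹) * g) * c := this
        _ = t * (c⁻¹ * g * c) := by group
    · have := isPElt_conj c⁻¹ h2
      simpa using this

theorem mem_W_conj {t c w : G} (hw : w ∈ W p t) : c * w * c⁻¹ ∈ W p (c * t * c⁻¹) := by
  rw [← W_conj]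
  exact ⟨w, hw, rfl⟩

end Cfsg.Agent.Helper15.Mix
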