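import Mathlib
import Cfsg.Agent.Helper15.MixBasic
import Cfsg.Agent.Helper81.MixPA
import Cfsg.Agent.Helper63.MixM3a
import Cfsg.Agent.Helper65.MixD5
import Cfsg.Agent.Helper32.MixM3c
import Cfsg.Agent.Helper72.MixC1
import Cfsg.Agent.Helper72.MixC4
import Cfsg.Agent.Helper65.MixC3
import Cfsg.Agent.Helper38.MixC5
import Cfsg.Agent.Helper63.MixI12
import Cfsg.Agent.Helper33.MixI3
import Cfsg.Agent.Helper65.MixU1
import Cfsg.Agent.Helper62.MixII4

/-!
# S4017: the delegated pieces, glued to their skeleton statements (helper15)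

Thanks to helper24, helper32, helper33, helper38, helper62, helper63, helper65, helper70,
helper72, helper81, helper91.
-/

set_option autoImplicit false

namespace Cfsg.Agent.Helper15.Mix

open Subgroup

variable {G : Type*} [Group G] [Finite G] {p a : ℕ} {Q : Subgroup G} {x : G}

/-- (C1) -/
theorem Cfg.mem_centralizer_of_commute (h : Cfg G p a Q x) {g t : G}
    (hg : g ∈ normalizer (Q : Set G)) (ht : t ∈ Q) (ht1 : t ≠ 1) (hgt : g * t = t * g) :
    g ∈ centralizer (Q : Set G) :=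
  Cfsg.Agent.Helper72.Mix.Cfg.mem_centralizer_of_commute h hg ht ht1 hgt

/-- (C2) -/
theorem Cfg.isPGroup_W (h : Cfg G p a Q x) {t : G} (ht : t ∈ Q) (ht1 : t ≠ 1) :
    IsPGroup p (W p t) :=
  Cfsg.Agent.Helper72.Mix.Cfg.isPGroup_W h ht ht1

/-- (C3) `N(Q)` is a maximal subgroup. -/
theorem Cfg.le_normalizer_of_ge (h : Cfg G p a Q x) (E : Subgroup G)
    (hNE : normalizer (Q : Set G) ≤ E) (hE : E ≠ ⊤) : E ≤ normalizer (Q : Set G) :=
  Cfsg.Agent.Helper65.Mix.le_normalizer_of_ge h E hNE hE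

/-- (C4) -/
theorem Cfg.normalizer_le_centralizer_Y (h : Cfg G p a Q x) :
    normalizer (Q : Set G) ≤ centralizer ((Y p Q : Subgroup G) : Set G) :=
  Cfsg.Agent.Helper72.Mix.Cfg.normalizer_le_centralizer_Y h

/-- (C5) -/
theorem Cfg.W_le_centralizer_of_Y_ne_bot (h : Cfg G p a Q x) (hY : Y p Q ≠ ⊥) {t : G}
    (ht : t ∈ Q) (ht1 : t ≠ 1) : W p t ≤ centralizer (Q : Set G) :=
  Cfsg.Agent.Helper38.Mix.W_le_centralizer_of_Y_ne_bot' h
    (fun hg ht ht1 hgt => h.mem_centralizer_of_commute hg ht ht1 hgt)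
    (fun ht ht1 => h.isPGroup_W ht ht1)
    (fun E hNE hE => h.le_normalizer_of_ge E hNE hE)
    h.normalizer_le_centralizer_Y hY ht ht1

/-- (I3) -/
theorem Cfg.false_of_Y_ne_bot (h : Cfg G p a Q x) (hY : Y p Q ≠ ⊥) : False := by
  have hI : ∀ t ∈ Q, t ≠ 1 → W p t ≤ centralizer (Q : Set G) :=
    fun t ht ht1 => h.W_le_centralizer_of_Y_ne_bot hY ht ht1
  exact Cfsg.Agent.Helper33.Mix.false_of_Y_ne_bot' h hY
    (fun t ht ht1 => h.isPGroup_W ht ht1)
    (fun E hNE hE => h.le_normalizer_of_ge E hNE hE)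
    h.normalizer_le_centralizer_Y hI
    (fun g u hu hu1 hgu => Cfsg.Agent.Helper63.MixI12.mem_normalizer_of_conj_mem h hI hu hu1 hgu)
    (fun t u ht ht1 hu huN => Cfsg.Agent.Helper63.MixI12.real_elt h hI ht ht1 hu huN)

/-- (II4) -/
theorem Cfg.false_of_three_le [Fact p.Prime] (h : Cfg G p a Q x) (hY : Y p Q = ⊥) (ha : 3 ≤ a)
    {t : G} (ht : t ∈ Q) (ht1 : t ≠ 1) (hW : W p t ≠ ⊥) : False :=
  Cfsg.Agent.Helper62.MixII4.false_of_three_le' h hY
    (fun hw hw1 hz hwz P P' hP hP' =>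
      Cfsg.Agent.Helper65.Mix.sylow_unique h hY hw hw1 hz hwz P P' hP hP')
    (fun ht ht1 => h.isPGroup_W ht ht1) ha ht ht1 hW

end Cfsg.Agent.Helper15.Mix
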