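import Mathlib
import Cfsg.Prelude.Def_OddOrderLocal

/-!
# S4018: the configuration `TICfg` (helper15)

`G` a finite simple group with an abelian Sylow `3`-subgroup `P`, `|N(P)| = 4|P|`, `|C(P)| = 2|P|`,
`C(P)` a TI-subgroup and all proper subgroups of even order of order dividing `4|P|`.  Then with
`C = C_G(P)`, `m = |P|`: `C = P × ⟨z⟩` is abelian with a unique involution `z`, `C_G(z) = N_G(P) = C ∪ Ct`
for an involution `t` inverting `C`, all involutions are conjugate and every product of two distinct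
involutions is conjugate into `C`.  This is recorded in `TICfg`; `Hyp` bundles the hypotheses.
-/

set_option autoImplicit false

namespace Cfsg.Agent.Helper15.TIInv

/-- The configuration reached in S4018. -/
structure TICfg {G : Type*} [Group G] (C : Subgroup G) (z t : G) (m : ℕ) : Prop where
  comm : ∀ x ∈ C, ∀ y ∈ C, x * y = y * x
  card : Nat.card C = 2 * m
  m_odd : Odd m
  z_mem : z ∈ C
  z_ord : orderOf z = 2
  z_uniq : ∀ x ∈ C, x * x = 1 → x = 1 ∨ x = z
  t_ord : orderOf t = 2
  t_not : t ∉ C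
  t_inv : ∀ x ∈ C, t * x * t⁻¹ = x⁻¹
  ti : ∀ g : G, ∀ x ∈ C, x ≠ 1 → g * x * g⁻¹ ∈ C → g ∈ C ∨ g * t ∈ C
  cent_z : Nat.card (Subgroup.centralizer ({z} : Set G)) = 4 * m
  invol : ∀ u : G, orderOf u = 2 → IsConj z u
  sreal : ∀ u v : G, orderOf u = 2 → orderOf v = 2 → u ≠ v → ∃ g : G, g * (u * v) * g⁻¹ ∈ C

/-- The hypotheses of S4018 together with simplicity. -/
structure Hyp {G : Type*} [Group G] (P : Sylow 3 G) : Prop where
  hab : ∀ x ∈ (P : Subgroup G), ∀ y ∈ (P : Subgroup G), x * y = y * x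
  hN : Nat.card (Subgroup.normalizer ((P : Subgroup G) : Set G)) = 4 * Nat.card (P : Subgroup G)
  hC : Nat.card (Subgroup.centralizer ((P : Subgroup G) : Set G)) = 2 * Nat.card (P : Subgroup G)
  hTI : Cfsg.IsTISubset (Subgroup.centralizer ((P : Subgroup G) : Set G) : Set G)
  heven : ∀ H : Subgroup G, H ≠ ⊤ → 2 ∣ Nat.card H → Nat.card H ∣ 4 * Nat.card (P : Subgroup G)
  hsimple : IsSimpleGroup G

end Cfsg.Agent.Helper15.TIInv
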