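import Cfsg.Agent.Helper15.TIInvDefs
import Cfsg.Agent.Helper25.TIInvGA1
import Cfsg.Agent.Helper25.TIInvGA2
import Cfsg.Agent.Helper62.TIInvGB1
import Cfsg.Agent.Helper62.TIInvGC
import Cfsg.Agent.Helper3.TIInvGB2

/-!
# S4018: the hypotheses give the configuration `TICfg` (helper15)
-/

set_option autoImplicit false

namespace Cfsg.Agent.Helper15.TIInv

open Cfsg

universe u

variable {G : Type u} [Group G] [Finite G] (P : Sylow 3 G)

/-- From the hypotheses of S4018 (and simplicity) to the configuration `TICfg`. -/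
theorem exists_ticfg (h : Hyp P) :
    ∃ (a : ℕ) (z t : G), 1 ≤ a ∧ Nat.card (P : Subgroup G) = 3 ^ a ∧
      TICfg (Subgroup.centralizer ((P : Subgroup G) : Set G)) z t (Nat.card (P : Subgroup G)) := by
  obtain ⟨⟨a, ha1, ha⟩, hcomm, z, hzC, hz2, hzu⟩ := Cfsg.Agent.Helper25.TIInv.hyp_basic P h
  obtain ⟨hcz, hti⟩ := Cfsg.Agent.Helper25.TIInv.hyp_cent P h z hzC hz2 hzu
  obtain ⟨hinv, hexp⟩ := Cfsg.Agent.Helper62.TIInv.hyp_klein P h
  obtain ⟨t, htN, ht2, htC, htinv⟩ :=
    Cfsg.Agent.Helper3.TIInvGB2.hyp_invert P h z hzC hz2 hcomm hzu hcz hti hinv hexp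
  obtain ⟨C, hCdef⟩ : ∃ C : Subgroup G, C = Subgroup.centralizer ((P : Subgroup G) : Set G) :=
    ⟨_, rfl⟩
  obtain ⟨N, hNdef⟩ : ∃ N : Subgroup G, N = Subgroup.normalizer ((P : Subgroup G) : Set G) :=
    ⟨_, rfl⟩
  rw [← hCdef] at hcomm hzC hzu hti htC htinv ⊢
  rw [← hNdef] at hcz hti htN
  have hCN : C ≤ N := by
    rw [hCdef, hNdef]
    exact Subgroup.centralizer_le_normalizer _
  have hcardC : Nat.card C = 2 * Nat.card (P : Subgroup G) := by rw [hCdef]; exact h.hC
  have hcardN : Nat.card N = 4 * Nat.card (P : Subgroup G) := by rw [hNdef]; exact h.hN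
  have hmpos : 0 < Nat.card (P : Subgroup G) := Nat.card_pos
  -- index two
  have hidx : (C.subgroupOf N).index = 2 := by
    have h1 := Subgroup.card_mul_index (C.subgroupOf N)
    have h2 : Nat.card (C.subgroupOf N) = Nat.card C :=
      Nat.card_congr (Subgroup.subgroupOfEquivOfLe hCN).toEquiv
    rw [h2, hcardC, hcardN] at h1
    have h3 : 2 * Nat.card (P : Subgroup G) * (C.subgroupOf N).index
        = 2 * Nat.card (P : Subgroup G) * 2 := by rw [h1]; ring
    exact Nat.eq_of_mul_eq_mul_left (by omega) h3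
  have hmul : ∀ g ∈ N, g ∉ C → g * t ∈ C := by
    intro g hg hgC
    have := Subgroup.mul_mem_iff_of_index_two hidx (a := (⟨g, hg⟩ : N)) (b := (⟨t, htN⟩ : N))
    simp only [Subgroup.mem_subgroupOf] at this
    exact this.2 ⟨fun hc => absurd hc hgC, fun hc => absurd hc htC⟩
  have htt : t * t = 1 := by
    rw [← pow_two, ← ht2]; exact pow_orderOf_eq_one t
  have htinv' : t⁻¹ = t := inv_eq_of_mul_eq_one_right htt
  have hNC : ∀ g ∈ N, g ∉ C → g * g = 1 := by
    intro g hg hgC
    have hc := hmul g hg hgC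
    obtain ⟨c, hc', hcdef⟩ : ∃ c ∈ C, c = g * t := ⟨_, hc, rfl⟩
    have hg' : g = c * t := by rw [hcdef, mul_assoc, htt, mul_one]
    have h1 := htinv c hc'
    rw [htinv'] at h1
    -- t c t = c⁻¹
    calc g * g = c * (t * c * t) := by rw [hg']; group
      _ = 1 := by rw [h1, mul_inv_cancel]
  have hsreal := Cfsg.Agent.Helper62.TIInv.hyp_sreal P h z (hCdef ▸ hzC) hz2 (hNdef ▸ hcz) hinv hexp
    (by rw [← hCdef, ← hNdef]; exact hNC)
  rw [← hCdef] at hsreal
  refine ⟨a, z, t, ha1, ha, ?_⟩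
  refine
    { comm := hcomm
      card := hcardC
      m_odd := by rw [ha]; exact Odd.pow (by decide)
      z_mem := hzC
      z_ord := hz2
      z_uniq := hzu
      t_ord := ht2
      t_not := htC
      t_inv := htinv
      ti := ?_
      cent_z := by rw [hcz, hcardN]
      invol := fun u hu => hinv z u hz2 hu
      sreal := hsreal }
  intro g x hx hx1 hgx
  have hgN := hti g x hx hx1 hgx
  by_cases hgC : g ∈ C
  · exact Or.inl hgC
  · exact Or.inr (hmul g hgN hgC)

end Cfsg.Agent.Helper15.TIInv
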