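import Cfsg.Agent.Helper15.AbFourier
import Cfsg.Agent.Helper15.ExcValues
import Cfsg.Agent.Helper33.TIInvK1
import Cfsg.Agent.Helper33.TIInvK3a
import Cfsg.Agent.Helper33.TIInvK3c
import Cfsg.Agent.Helper79.TIInvK2
import Cfsg.Agent.Helper79.TIInvK3b

/-!
# S4018: the abstract character-theoretic contradiction (helper15)

`core_false`: a family `X : ι → Q → ℂ` of functions on an abelian group `Q` of order `2m` (`m ≥ 9` odd)
with integral relative Fourier coefficients, column orthogonality with fusion by inversion only, weak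
orthogonality with the degrees, a principal member and the class-sum identity of the involution is
impossible.
-/

set_option autoImplicit false

namespace Cfsg.Agent.Helper15.TIInv

open Cfsg Finset AbFourier ExcValues
open scoped ComplexConjugate

universe u

section Core

variable {Q : Type u} [CommGroup Q] [Fintype Q] [DecidableEq Q] [Fintype (Q →* ℂˣ)]
  [DecidableEq (Q →* ℂˣ)]

omit [Fintype Q] [DecidableEq Q] [Fintype (Q →* ℂˣ)] [DecidableEq (Q →* ℂˣ)] in
theorem inv_ne_one_dual {ψ : Q →* ℂˣ} (hψ : ψ ≠ 1) : ψ⁻¹ ≠ 1 := by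
  intro hc
  apply hψ
  ext x
  have := DFunLike.congr_fun hc x
  simpa using this

/-- Inversion on the non-trivial part of the dual. -/
def invNT (l : NT Q) : NT Q := ⟨l.1⁻¹, inv_ne_one_dual l.2⟩

omit [Fintype Q] [DecidableEq Q] [Fintype (Q →* ℂˣ)] [DecidableEq (Q →* ℂˣ)] in
theorem invNT_invNT (l : NT Q) : invNT (invNT l) = l := Subtype.ext (inv_inv l.1)

omit [Fintype Q] [DecidableEq Q] [Fintype (Q →* ℂˣ)] [DecidableEq (Q →* ℂˣ)] in
theorem invNT_val (l : NT Q) : (invNT l).1 = l.1⁻¹ := rfl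

omit [Fintype Q] [DecidableEq Q] [Fintype (Q →* ℂˣ)] [DecidableEq (Q →* ℂˣ)] in
theorem invNT_ne_iff (l : NT Q) : invNT l ≠ l ↔ l.1⁻¹ ≠ l.1 := by
  constructor
  · intro h hc
    exact h (Subtype.ext hc)
  · intro h hc
    exact h (congrArg Subtype.val hc)

variable {ι : Type*} [Fintype ι] [DecidableEq ι]

/-- The abstract contradiction. -/
theorem core_false (m : ℕ) (hm : 9 ≤ m) (hmodd : Odd m) (hcard : Nat.card Q = 2 * m)
    (z₀ : Q) (hz₀ : z₀ ≠ 1) (hz₀2 : z₀ * z₀ = 1)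
    (X : ι → Q → ℂ) (o : ι) (D : ι → ℕ) (hDpos : ∀ i, 0 < D i) (hX1 : ∀ i, X i 1 = D i)
    (hXo : ∀ x, X o x = 1)
    (hint : ∀ (l : NT Q) (i : ι), ∃ n : ℤ, acoef (X i) l.1 = n)
    (hCO : ∀ y y' : Q, y ≠ 1 → y' ≠ 1 → ∑ i, X i y * conj (X i y') =
      (Nat.card Q : ℂ) * ((if y' = y then 1 else 0) + (if y' = y⁻¹ then 1 else 0)))
    (hWO : ∀ y : Q, y ≠ 1 → ∑ i, X i y * (D i : ℂ) = 0)
    (hID : ∀ i, ((4 * m * (4 * (m : ℤ) ^ 2 - 2 * m + 1) : ℤ) : ℂ) * (X i z₀) ^ 2 =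
      4 * (m : ℂ) * (D i : ℂ) * ((D i : ℂ) + 2 * (m : ℂ) * ((∑ x : Q, X i x) - (D i : ℂ)))) :
    False := by
  choose a ha using hint
  -- Gram matrix
  have hG : ∀ l k : NT Q, ∑ i, a l i * a k i =
      2 + (if k = l then 1 else 0) + (if k = invNT l then 1 else 0) := by
    intro l k
    have h1 := Cfsg.Agent.Helper33.TIInv.gram_inv X hCO l.1 k.1 l.2 k.2
    have hcast : ((∑ i, a l i * a k i : ℤ) : ℂ)
        = ∑ i, acoef (X i) l.1 * conj (acoef (X i) k.1) := by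
      push_cast
      refine Finset.sum_congr rfl (fun i _ => ?_)
      rw [ha l i, ha k i, map_intCast]
    have h2 : ((∑ i, a l i * a k i : ℤ) : ℂ) = ((2 + (if k = l then 1 else 0)
        + (if k = invNT l then 1 else 0) : ℤ) : ℂ) := by
      have e1 : (if k.1 = l.1 then (1 : ℂ) else 0) = ((if k = l then 1 else 0 : ℤ) : ℂ) := by
        by_cases hkl : k = l
        · rw [if_pos hkl, if_pos (congrArg Subtype.val hkl)]; norm_num
        · rw [if_neg hkl, if_neg (fun hc => hkl (Subtype.ext hc))]; norm_num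
      have e2 : (if k.1 = l.1⁻¹ then (1 : ℂ) else 0)
          = ((if k = invNT l then 1 else 0 : ℤ) : ℂ) := by
        by_cases hkl : k = invNT l
        · rw [if_pos hkl, if_pos (by rw [hkl, invNT_val])]; norm_num
        · rw [if_neg hkl, if_neg (fun hc => hkl (Subtype.ext (by rw [hc, invNT_val])))]; norm_num
      rw [hcast, h1, e1, e2]
      push_cast
      ring
    exact_mod_cast h2
  -- weak orthogonality
  have hDa : ∀ l : NT Q, ∑ i, a l i * (D i : ℤ) = 0 := by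
    intro l
    have h1 := acoef_sum_eq_zero X (fun i => (D i : ℂ)) hWO l.1
    have h2 : ((∑ i, a l i * (D i : ℤ) : ℤ) : ℂ) = 0 := by
      push_cast
      rw [← h1]
      refine Finset.sum_congr rfl (fun i _ => ?_)
      rw [ha l i]
    exact_mod_cast h2
  -- the principal coordinate
  have hao : ∀ l, a l o = -1 := by
    intro l
    have h1 : acoef (X o) l.1 = -1 := by
      have : X o = fun _ => (1 : ℂ) := funext hXo
      rw [this]
      exact acoef_one_fun l.2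
    rw [ha l o] at h1
    exact_mod_cast h1
  -- enough non-fixed points
  have hcnt : 10 ≤ (Finset.univ.filter (fun l : NT Q => invNT l ≠ l)).card := by
    have h1 := Cfsg.Agent.Helper33.TIInv.card_nonfixed (Q := Q) m hmodd hcard
    have h2 : (Finset.univ.filter (fun l : NT Q => invNT l ≠ l))
        = (Finset.univ.filter (fun l : NT Q => l.1⁻¹ ≠ l.1)) := by
      apply Finset.filter_congr
      intro l _
      exact invNT_ne_iff l
    rw [h2]
    omega
  obtain ⟨ε, δ, Y, Θ, hε, hδ, hYo, hΘ1, hΘ2, hstruct, hfix⟩ :=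
    Cfsg.Agent.Helper79.TIInv.lattice_two a invNT invNT_invNT hcnt hG (fun i => (D i : ℤ))
      (fun i => by exact_mod_cast hDpos i) hDa o hao
  -- values
  obtain ⟨hVY, hVΘ⟩ := Cfsg.Agent.Helper33.TIInv.values_of_structure X ε δ o Y Θ hYo
    (fun l hl => hΘ1 l ((invNT_ne_iff l).2 hl))
    (fun l k hl hk => by
      rw [hΘ2 l k ((invNT_ne_iff l).2 hl) ((invNT_ne_iff k).2 hk)]
      constructor
      · rintro (h | h)
        · exact Or.inl (congrArg Subtype.val h)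
        · exact Or.inr (by rw [h, invNT_val])
      · rintro (h | h)
        · exact Or.inl (Subtype.ext h)
        · exact Or.inr (Subtype.ext (by rw [h, invNT_val])))
    (fun l hl i => by
      rw [ha l i, hstruct l ((invNT_ne_iff l).2 hl) i]
      push_cast
      rfl)
    (fun f hf => by
      have hf' : invNT f = f := Subtype.ext hf
      obtain ⟨h1, h2⟩ := hfix f hf'
      refine ⟨?_, ?_⟩
      · rw [ha f Y, h1]; push_cast; ring
      · intro l hl
        rw [ha f (Θ l), h2 l ((invNT_ne_iff l).2 hl)]; simp)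
  -- a non-fixed point
  obtain ⟨l₀, hl₀⟩ : ∃ l₀ : NT Q, invNT l₀ ≠ l₀ := by
    have hne : (Finset.univ.filter (fun l : NT Q => invNT l ≠ l)).Nonempty := by
      rw [← Finset.card_pos]; omega
    obtain ⟨l, hl⟩ := hne
    exact ⟨l, (Finset.mem_filter.1 hl).2⟩
  have hl₀' : l₀.1⁻¹ ≠ l₀.1 := (invNT_ne_iff l₀).1 hl₀
  -- degrees
  have hDo : (D o : ℤ) = 1 := by
    have h1 := hX1 o
    rw [hXo 1] at h1
    exact_mod_cast h1.symm
  have hdeg : -1 - δ * (D Y : ℤ) + ε * (D (Θ l₀) : ℤ) = 0 := by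
    have h1 := hDa l₀
    have h2 : ∑ i, a l₀ i * (D i : ℤ)
        = -(D o : ℤ) - δ * (D Y : ℤ) + ε * (D (Θ l₀) : ℤ) := by
      have h3 : ∀ i, a l₀ i * (D i : ℤ) = (if i = o then -(D i : ℤ) else 0)
          + (if i = Y then -δ * (D i : ℤ) else 0)
          + (if i = Θ l₀ then ε * (D i : ℤ) else 0) := by
        intro i
        rw [hstruct l₀ hl₀ i]
        split_ifs <;> ring
      rw [Finset.sum_congr rfl (fun i _ => h3 i), Finset.sum_add_distrib, Finset.sum_add_distrib,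
        Finset.sum_ite_eq', Finset.sum_ite_eq', Finset.sum_ite_eq']
      simp only [Finset.mem_univ, if_true]
      ring
    rw [h2, hDo] at h1
    linarith
  have hcardQ : Fintype.card Q = 2 * m := by rw [← Nat.card_eq_fintype_card, hcard]
  have hcardE : ((Finset.univ.erase (1 : Q)).card : ℂ) = 2 * (m : ℂ) - 1 := by
    rw [Finset.card_erase_of_mem (Finset.mem_univ _), Finset.card_univ, hcardQ]
    have h2m : 1 ≤ 2 * m := by omega
    push_cast [Nat.cast_sub h2m]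
    ring
  have hδ2 : (δ : ℂ) ^ 2 = 1 := by rcases hδ with h | h <;> rw [h] <;> norm_num
  have hε2 : (ε : ℂ) ^ 2 = 1 := by rcases hε with h | h <;> rw [h] <;> norm_num
  -- the identity for `Y`
  have hsumY : (∑ x : Q, X Y x) - (D Y : ℂ) = (2 * (m : ℂ) - 1) * δ := by
    rw [← Finset.add_sum_erase Finset.univ _ (Finset.mem_univ (1 : Q)), hX1 Y]
    have h1 : ∑ x ∈ Finset.univ.erase (1 : Q), X Y x
        = ∑ _x ∈ Finset.univ.erase (1 : Q), (δ : ℂ) :=
      Finset.sum_congr rfl (fun x hx => hVY x (Finset.ne_of_mem_erase hx))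
    rw [h1, Finset.sum_const, nsmul_eq_mul, hcardE]
    ring
  have h2 : (4 * (m : ℤ) * (4 * (m : ℤ) ^ 2 - 2 * m + 1) : ℤ)
      = 4 * m * (D Y : ℤ) * ((D Y : ℤ) + 2 * m * ((2 * m - 1) * δ)) := by
    have h := hID Y
    rw [hVY z₀ hz₀, hδ2, hsumY, mul_one] at h
    exact_mod_cast h
  -- the identity for `Θ l₀`
  have hu : ((l₀.1 z₀ : ℂˣ) : ℂ) * ((l₀.1 z₀ : ℂˣ) : ℂ) = 1 := by
    rw [← Units.val_mul, ← map_mul, hz₀2, map_one, Units.val_one]
  have huinv : (((l₀.1 z₀)⁻¹ : ℂˣ) : ℂ) = ((l₀.1 z₀ : ℂˣ) : ℂ) := by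
    have h1 : (l₀.1 z₀)⁻¹ = l₀.1 z₀ :=
      inv_eq_of_mul_eq_one_right (by rw [← map_mul, hz₀2, map_one])
    rw [h1]
  have hΘz : (X (Θ l₀) z₀) ^ 2 = 4 := by
    rw [hVΘ l₀ hl₀' z₀ hz₀, huinv]
    have h1 : ((ε : ℂ) * (((l₀.1 z₀ : ℂˣ) : ℂ) + ((l₀.1 z₀ : ℂˣ) : ℂ))) ^ 2
        = 4 * (ε : ℂ) ^ 2 * (((l₀.1 z₀ : ℂˣ) : ℂ) * ((l₀.1 z₀ : ℂˣ) : ℂ)) := by ring
    rw [h1, hε2, hu]
    norm_num
  have hsumΘ : (∑ x : Q, X (Θ l₀) x) - (D (Θ l₀) : ℂ) = -2 * ε := by
    rw [← Finset.add_sum_erase Finset.univ _ (Finset.mem_univ (1 : Q)), hX1 (Θ l₀)]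
    have h1 : ∑ x ∈ Finset.univ.erase (1 : Q), X (Θ l₀) x
        = ∑ x ∈ Finset.univ.erase (1 : Q),
            (ε : ℂ) * (((l₀.1 x : ℂˣ) : ℂ) + conj ((l₀.1 x : ℂˣ) : ℂ)) := by
      refine Finset.sum_congr rfl (fun x hx => ?_)
      rw [hVΘ l₀ hl₀' x (Finset.ne_of_mem_erase hx), Units.val_inv_eq_inv_val,
        Complex.inv_eq_conj (norm_apply l₀.1 x)]
    have h3 : ∑ x ∈ Finset.univ.erase (1 : Q), ((l₀.1 x : ℂˣ) : ℂ) = -1 := by
      have h4 := Finset.add_sum_erase Finset.univ (fun x : Q => ((l₀.1 x : ℂˣ) : ℂ))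
        (Finset.mem_univ (1 : Q))
      rw [sum_apply_eq_zero l₀.2] at h4
      simp only [map_one, Units.val_one] at h4
      linear_combination h4
    have h5 : ∑ x ∈ Finset.univ.erase (1 : Q), conj ((l₀.1 x : ℂˣ) : ℂ) = -1 := by
      have h4 := Finset.add_sum_erase Finset.univ (fun x : Q => conj ((l₀.1 x : ℂˣ) : ℂ))
        (Finset.mem_univ (1 : Q))
      rw [sum_conj_apply_eq_zero l₀.2] at h4
      simp only [map_one, Units.val_one] at h4
      linear_combination h4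
    rw [h1, ← Finset.mul_sum, Finset.sum_add_distrib, h3, h5]
    ring
  have h3 : (4 * (m : ℤ) * (4 * (m : ℤ) ^ 2 - 2 * m + 1) : ℤ) * 4
      = 4 * m * (D (Θ l₀) : ℤ) * ((D (Θ l₀) : ℤ) + 2 * m * (-2 * ε)) := by
    have h := hID (Θ l₀)
    rw [hΘz, hsumΘ] at h
    exact_mod_cast h
  exact Cfsg.Agent.Helper79.TIInv.arith_false m (D Y) (D (Θ l₀)) ε δ (by omega) (hDpos _) (hDpos _) hε hδ hdeg h2 h3

end Core

end Cfsg.Agent.Helper15.TIInv
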