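import Cfsg.Agent.Helper15.TIInvCharA
import Cfsg.Agent.Helper15.AbelSylowGram
import Cfsg.Agent.Helper15.TIInvCore
import Cfsg.Agent.Helper91.TIInvC1

/-!
# S4018: the character-theoretic contradiction for the configuration `TICfg` (helper15)
-/

set_option autoImplicit false

namespace Cfsg.Agent.Helper15.TIInv

open Cfsg Finset AbFourier ExcValues
open scoped ComplexConjugate IsMulCommutative

universe u

variable {G : Type u} [Group G] [Fintype G] {C : Subgroup G} [Fintype C]
  [hab : IsMulCommutative C]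

omit [Fintype G] in
/-- The Fourier coefficients of a character restricted to an abelian subgroup are natural
numbers. -/
theorem coef_restrict_nat (χ : IrrCharacter G) (ψ : ↥C →* ℂˣ) :
    ∃ n : ℕ, AbFourier.coef (fun x : ↥C => (χ : G → ℂ) x) ψ = n := by
  have hχ : IsCharacter ↥C (fun x => (χ : G → ℂ) x) :=
    Cfsg.Agent.Helper74.isCharacter_restrict _ (Cfsg.Agent.Helper74.isCharacter_of_isIrr χ.2)
  let ψ' : IrrCharacter ↥C :=
    ⟨fun x => ((ψ x : ℂˣ) : ℂ),
      Cfsg.Agent.Helper79.isIrrCharacter_of_monoidHom ((Units.coeHom ℂ).comp ψ)⟩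
  obtain ⟨n, hn⟩ := Cfsg.Agent.Helper74.isCharacter_inner_irr_nat hχ ψ'
  exact ⟨n, hn⟩

omit [Fintype G] in
theorem acoef_restrict_int (χ : IrrCharacter G) (ψ : ↥C →* ℂˣ) :
    ∃ n : ℤ, AbFourier.acoef (fun x : ↥C => (χ : G → ℂ) x) ψ = n := by
  obtain ⟨a, ha⟩ := coef_restrict_nat χ ψ
  obtain ⟨b, hb⟩ := coef_restrict_nat χ (1 : ↥C →* ℂˣ)
  refine ⟨(a : ℤ) - b, ?_⟩
  unfold AbFourier.acoef
  rw [ha, hb]
  push_cast
  ring


/-- The character-theoretic contradiction, with all instances as arguments. -/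
theorem false_of_ticfg_aux [Fintype (IrrCharacter G)] [DecidableEq (IrrCharacter G)]
    [DecidableEq ↥C] [Fintype (↥C →* ℂˣ)] [DecidableEq (↥C →* ℂˣ)] {z t : G} {m : ℕ}
    (h : TICfg C z t m) (hm : 9 ≤ m) : False := by
  have hdeg : ∀ χ : IrrCharacter G, ∃ d : ℕ, 0 < d ∧ (χ : G → ℂ) 1 = d :=
    fun χ => Cfsg.Agent.Helper15.irr_degree_pos χ.2
  choose D hDpos hD using hdeg
  have hzz : z * z = 1 := by
    rw [← pow_two, ← h.z_ord]; exact pow_orderOf_eq_one z
  have hz1 : z ≠ 1 := by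
    intro hc
    have := h.z_ord
    rw [hc, orderOf_one] at this
    omega
  refine core_false (Q := ↥C) (ι := IrrCharacter G) m hm h.m_odd h.card ⟨z, h.z_mem⟩ ?_ ?_
    (fun χ x => (χ : G → ℂ) (x : G)) (Cfsg.Agent.Helper79.principalIrr G) D hDpos ?_ ?_ ?_ ?_ ?_ ?_
  · intro hc
    exact hz1 (congrArg Subtype.val hc)
  · exact Subtype.ext hzz
  · intro χ
    exact hD χ
  · intro x
    rfl
  · intro l χ
    exact acoef_restrict_int χ l.1
  · intro y y' hy hy'
    exact Cfsg.Agent.Helper91.TIInv.col_orth_C h y y' hy hy'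
  · intro y hy
    have hyG : (y : G) ≠ 1 := fun hc => hy (Subtype.ext hc)
    have : Decidable ((y : G) = 1) := Classical.propDecidable _
    have h1 := Cfsg.Agent.Helper79.sum_irr_one_mul (y : G)
    rw [if_neg hyG] at h1
    rw [← h1]
    refine Finset.sum_congr rfl (fun χ _ => ?_)
    rw [hD χ]
    ring
  · intro χ
    have h1 := class_identity h χ
    have h2 := card_eq h
    have h3 : (Nat.card G : ℂ) = ((4 * (m : ℤ) * (4 * (m : ℤ) ^ 2 - 2 * m + 1) : ℤ) : ℂ) := by
      exact_mod_cast h2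
    rw [h3, hD χ] at h1
    exact h1

omit [Fintype C] hab in
/-- **The character-theoretic contradiction**: the configuration `TICfg` is impossible for
`m ≥ 9`. -/
theorem false_of_ticfg {z t : G} {m : ℕ} (h : TICfg C z t m) (hm : 9 ≤ m) : False := by
  classical
  have : IsMulCommutative C := ⟨⟨fun a b => Subtype.ext (h.comm a a.2 b b.2)⟩⟩
  have : Fintype C := Fintype.ofFinite _
  have : Fintype (IrrCharacter G) := Fintype.ofFinite _
  have : Fintype (↥C →* ℂˣ) := Fintype.ofFinite _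
  exact false_of_ticfg_aux h hm

end Cfsg.Agent.Helper15.TIInv
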