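import Mathlib
import Cfsg.Agent.Helper15.MixBasic
import Cfsg.Agent.Helper15.MixGlue
import Cfsg.Agent.Helper32.MixM4
import Cfsg.Agent.Helper62.MixII3
import Cfsg.Agent.Helper33.MixII5
import Cfsg.Agent.Helper70.MixI4c

/-!
# S4017: assembly of the minimal-counterexample analysis (helper15)
-/

set_option autoImplicit false

namespace Cfsg.Agent.Helper15.Mix

open Subgroup

variable {G : Type*} [Group G] [Finite G] {p a : ℕ} {Q : Subgroup G} {x : G}

/-- (II3) -/
theorem Cfg.false_of_two_W_le [Fact p.Prime] (h : Cfg G p a Q x) (hY : Y p Q = ⊥) {t s : G}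
    (ht : t ∈ Q) (ht1 : t ≠ 1) (hs : s ∈ Q) (hs1 : s ≠ 1) (hts : t ≠ s) (hW : W p t ≠ ⊥)
    (P : Sylow p G) (hPt : W p t ≤ P) (hPs : W p s ≤ P) : False :=
  Cfsg.Agent.Helper62.MixII3.false_of_two_W_le' h hY
    (fun hw hw1 hz hwz P P' hP hP' =>
      Cfsg.Agent.Helper65.Mix.sylow_unique h hY hw hw1 hz hwz P P' hP hP')
    (fun ht ht1 => h.isPGroup_W ht ht1) ht ht1 hs hs1 hts hW P hPt hPs

/-- (II5) -/
theorem Cfg.false_of_two (h : Cfg G 3 2 Q x) (hY : Y 3 Q = ⊥)
    {t : G} (ht : t ∈ Q) (ht1 : t ≠ 1) (hW : W 3 t ≠ ⊥) : False := by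
  have h3 : Fact (Nat.Prime 3) := ⟨Nat.prime_three⟩
  exact Cfsg.Agent.Helper33.Mix.false_of_two' h
    (fun w z hw hw1 hz hwz P P' hP hP' =>
      Cfsg.Agent.Helper65.Mix.sylow_unique h hY hw hw1 hz hwz P P' hP hP')
    (fun t s ht ht1 hs hs1 hts hW P hPt hPs =>
      h.false_of_two_W_le hY ht ht1 hs hs1 hts hW P hPt hPs)
    (fun t ht ht1 => h.isPGroup_W ht ht1)
    (fun t ht ht1 => Cfsg.Agent.Helper63.MixI12.c2b h t ht ht1) ht ht1 hW

/-- (M3) a minimal counterexample is simple. -/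
theorem MC.simple (h : MC G p a) : IsSimpleGroup G := by
  have hnt : Nontrivial G := by
    have h3 := h.three_le
    rw [← Finite.one_lt_card_iff_nontrivial]
    have hpos : 0 < Nat.card G := Nat.card_pos
    have := Nat.le_of_dvd hpos h.hpG
    omega
  refine { exists_pair_ne := hnt.exists_pair_ne, eq_bot_or_eq_top_of_normal := ?_ }
  intro M hM
  by_contra hcon
  push Not at hcon
  obtain ⟨h1, h2⟩ := hcon
  have hodd := Cfsg.Agent.Helper63.MixM3a.odd_of_normal h M h1 h2
  obtain ⟨t, ht⟩ := h.exists_invol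
  have htN : t ∈ normalizer (M : Set G) := by
    rw [Subgroup.normalizer_eq_top]; exact mem_top t
  have hpM := Cfsg.Agent.Helper65.Mix.isPGroup_of_odd h M hodd ht htN
  exact Cfsg.Agent.Helper32.Mix.no_normal_pgroup h M hpM h1

/-- There is no minimal counterexample. -/
theorem MC.false (h : MC G p a) : False := by
  have hs := h.simple
  obtain ⟨Q, x, hc⟩ := Cfsg.Agent.Helper32.Mix.exists_cfg h hs
  have hpf : Fact p.Prime := ⟨h.hp⟩
  by_cases hY : Y p Q = ⊥
  · by_cases hW : ∀ t ∈ Q, t ≠ 1 → W p t = ⊥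
    · exact Cfsg.Agent.Helper70.Mix.false_of_W_eq_bot hc hW
    · push Not at hW
      obtain ⟨t, ht, ht1, hWt⟩ := hW
      rcases Nat.lt_or_ge a 3 with ha | ha
      · have ha2 : a = 2 := by have := h.ha; omega
        subst ha2
        have hp3 : p = 3 := by have := h.hpa; omega
        subst hp3
        exact hc.false_of_two hY ht ht1 hWt
      · exact hc.false_of_three_le hY ha ht ht1 hWt
  · exact hc.false_of_Y_ne_bot hY

end Cfsg.Agent.Helper15.Mix
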