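import Mathlib
import Cfsg.Agent.Helper69.Bhm3

/-!
# S4321 piece (L1): the Bertram–Herzog–Mann step (helper15)
-/

set_option autoImplicit false
set_option linter.unusedSectionVars false

namespace Cfsg.Agent.Helper15.PSG

open Subgroup Cfsg.Agent.Helper69.Bhm

variable {G : Type*} [Group G] [Finite G]

/-- `cls a` is invariant under conjugation. -/
theorem conj_mem_cls {a x : G} (hx : x ∈ cls a) (g : G) : g * x * g⁻¹ ∈ cls a := by
  obtain ⟨t, rfl⟩ := hx
  exact ⟨g * t, by group⟩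

/-- `presSubgroup a` is normal. -/
theorem presSubgroup_normal (a : G) : (presSubgroup a).Normal := by
  refine ⟨fun n hn g => ?_⟩
  rw [mem_presSubgroup] at hn ⊢
  intro x hx
  have h1 : g⁻¹ * x * g⁻¹⁻¹ ∈ cls a := conj_mem_cls hx g⁻¹
  have h2 := hn _ h1
  have h3 := conj_mem_cls h2 g
  have h4 : g * (n * (g⁻¹ * x * g⁻¹⁻¹)) * g⁻¹ = g * n * g⁻¹ * x := by group
  rwa [h4] at h3

/-- (L1) BHM trick. -/
theorem bhm_step {a b : G} (hcop : Nat.Coprime (ci a) (ci b)) (heq : ci (a * b) = ci a) :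
    (∀ g : G, Commute b (g * b * g⁻¹)) ∧
    (∀ g : G, ∀ r : ℕ, r.Prime → r ∣ orderOf (b⁻¹ * (g * b * g⁻¹)) → r ∣ ci a) := by
  classical
  -- `ci (b * a) = ci a`
  have hba : ci (b * a) = ci a := by
    have h1 : b * a = a⁻¹ * (a * b) * a⁻¹⁻¹ := by group
    rw [h1, ci_conj, heq]
  -- left multiplication by `b` is a bijection `cls a → cls (b * a)`
  have hmem : ∀ x ∈ cls a, b * x ∈ cls (b * a) := by
    rintro x ⟨k, rfl⟩
    obtain ⟨t, ht⟩ := conj_mul_conj hcop.symm 1 k
    refine ⟨t, ?_⟩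
    show t * (b * a) * t⁻¹ = b * (k * a * k⁻¹)
    rw [← ht]; group
  have hfin : Finite (cls (b * a)) := inferInstance
  have hfin' : Finite (cls a) := inferInstance
  let f : cls a → cls (b * a) := fun x => ⟨b * x.1, hmem x.1 x.2⟩
  have hinj : Function.Injective f := by
    intro x y h
    have h1 : b * x.1 = b * y.1 := congrArg Subtype.val h
    exact Subtype.ext (mul_left_cancel h1)
  have hcard : Nat.card (cls a) = Nat.card (cls (b * a)) := by
    rw [card_cls, card_cls, hba]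
  have hsurj : Function.Surjective f := by
    have hbij : Function.Bijective f := by
      rw [Nat.bijective_iff_injective_and_card]
      exact ⟨hinj, hcard⟩
    exact hbij.2
  -- the key elements lie in `presSubgroup a`
  have hkey : ∀ g : G, b⁻¹ * (g * b * g⁻¹) ∈ presSubgroup a := by
    intro g
    rw [mem_presSubgroup]
    rintro x ⟨k, rfl⟩
    obtain ⟨t, ht⟩ := conj_mul_conj hcop.symm g k
    have h1 : (g * b * g⁻¹) * (k * a * k⁻¹) ∈ cls (b * a) := ⟨t, ht.symm⟩
    obtain ⟨⟨x', hx'⟩, hfx⟩ := hsurj ⟨_, h1⟩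
    have h2 : b * x' = (g * b * g⁻¹) * (k * a * k⁻¹) := congrArg Subtype.val hfx
    have h3 : b⁻¹ * (g * b * g⁻¹) * (k * a * k⁻¹) = x' := by
      rw [mul_assoc, ← h2]; group
    rw [h3]; exact hx'
  refine ⟨?_, fun g r hr hd => prime_dvd_ci_of_mem_pres (hkey g) hr hd⟩
  -- `presSubgroup a ≤ cz b`
  have hN : (presSubgroup a).Normal := presSubgroup_normal a
  have hle : presSubgroup a ≤ cz b := by
    rw [← Subgroup.relIndex_eq_one]
    by_contra hne
    obtain ⟨r, hr, hrd⟩ := Nat.exists_prime_and_dvd hne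
    have h1 : r ∣ ci b := hrd.trans (relIndex_dvd_index_of_normal_right (cz b) (presSubgroup a))
    have h2 : r ∣ Nat.card (presSubgroup a) := hrd.trans (Subgroup.relIndex_dvd_card _ _)
    have : Fact r.Prime := ⟨hr⟩
    obtain ⟨n, hn⟩ := exists_prime_orderOf_dvd_card' r h2
    have h3 : orderOf (n : G) = r := by rw [Subgroup.orderOf_coe]; exact hn
    have h4 : r ∣ ci a := prime_dvd_ci_of_mem_pres n.2 hr (by rw [h3])
    exact hr.one_lt.ne' (Nat.eq_one_of_dvd_coprimes hcop h4 h1)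
  intro g
  have h1 : b⁻¹ * (g * b * g⁻¹) ∈ cz b := hle (hkey g)
  rw [mem_cz_iff] at h1
  have h2 : g * b * g⁻¹ = b * (b⁻¹ * (g * b * g⁻¹)) := by group
  rw [h2]
  exact (Commute.refl b).mul_right h1.symm

end Cfsg.Agent.Helper15.PSG
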