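import Mathlib
import Cfsg.Agent.Helper69.Bhm2
import Cfsg.Agent.Helper76.ClassSizeSylow
import Cfsg.Agent.S4127
import Cfsg.Agent.Helper37.PSGL3
import Cfsg.Agent.Helper15.PSGL1
import Cfsg.Agent.Helper29.PSGL2
import Cfsg.Agent.Helper29.PSGL4
import Cfsg.Agent.Helper29.PSGL5

/-!
# S4321 (helper15): the "star lemma" for nontrivial `p`-elements

If `u`, `v` are nontrivial `p`-elements of `G` and `p ∤ |Z(G)|`, then `|u^G|` and `|v^G|` have a
common prime divisor, or some prime divisor of `|u^G|` is joined to some prime divisor of `|v^G|`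
in the `p`-singular class-size prime graph.
-/

set_option autoImplicit false
set_option linter.unusedSectionVars false

namespace Cfsg.Agent.Helper15.PSG

open Subgroup Cfsg.Agent.Helper69.Bhm

/-- an edge of the `p`-singular class-size prime graph -/
def Edge (G : Type*) [Group G] (p a b : ℕ) : Prop := ∃ x : G, p ∣ orderOf x ∧ a * b ∣ ci x

variable {G : Type*} [Group G] [Finite G]

theorem Edge.symm {p a b : ℕ} (h : Edge G p a b) : Edge G p b a := by
  obtain ⟨x, hx, hd⟩ := h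
  exact ⟨x, hx, by rwa [mul_comm]⟩

/-- a nontrivial `p`-element has order divisible by `p` -/
theorem dvd_orderOf_of_ne_one {p : ℕ} {u : G} (hu : ∃ k : ℕ, orderOf u = p ^ k) (hu1 : u ≠ 1) :
    p ∣ orderOf u := by
  obtain ⟨k, hk⟩ := hu
  rcases Nat.eq_zero_or_pos k with rfl | hk0
  · rw [pow_zero, orderOf_eq_one_iff] at hk; exact absurd hk hu1
  · rw [hk]; exact dvd_pow_self p hk0.ne'

/-- if `p ∤ |Z(G)|`, a nontrivial `p`-element is not central -/
theorem ci_ne_one_of_pElement {p : ℕ} (hZ : ¬ p ∣ Nat.card (center G)) {u : G}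
    (hu : ∃ k : ℕ, orderOf u = p ^ k) (hu1 : u ≠ 1) : ci u ≠ 1 := by
  intro h
  have hc : u ∈ center G := (ci_eq_one_iff u).mp h
  apply hZ
  have h1 : orderOf (⟨u, hc⟩ : center G) = orderOf u := Subgroup.orderOf_mk u hc
  have h2 : orderOf (⟨u, hc⟩ : center G) ∣ Nat.card (center G) := orderOf_dvd_natCard _
  rw [h1] at h2
  exact (dvd_orderOf_of_ne_one hu hu1).trans h2


theorem orderOf_conj' (g u : G) : orderOf (g * u * g⁻¹) = orderOf u := by
  have := orderOf_injective (MulAut.conj g).toMonoidHom (MulAut.conj g).injective u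
  simpa [MulAut.conj_apply] using this

/-- a prime-divisor-free number is `1` -/
theorem exists_prime_dvd_of_ne_one {n : ℕ} (h : n ≠ 1) : ∃ b : ℕ, b.Prime ∧ b ∣ n :=
  Nat.exists_prime_and_dvd h

/-- A Sylow subgroup contained in `cz x` shows `p ∤ ci x`. -/
theorem not_dvd_ci_of_sylow_le {p : ℕ} [Fact p.Prime] (P : Sylow p G) {x : G}
    (h : (P : Subgroup G) ≤ cz x) : ¬ p ∣ ci x := fun hd =>
  P.not_dvd_index (hd.trans (Subgroup.index_dvd_of_le h))

/-- consequence of the BHM step for a noncentral `p`-element `b` -/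
theorem p_dvd_ci_of_eq {p : ℕ} [hp : Fact p.Prime] {a b : G} (hcop : Nat.Coprime (ci a) (ci b))
    (heq : ci (a * b) = ci a) (hb : ∃ k : ℕ, orderOf b = p ^ k) (hcb : ci b ≠ 1) :
    p ∣ ci a ∧ ∀ g : G, Commute b (g * b * g⁻¹) := by
  obtain ⟨h1, h2⟩ := bhm_step hcop heq
  refine ⟨?_, h1⟩
  have hnc : b ∉ center G := fun h => hcb ((ci_eq_one_iff b).mpr h)
  rw [Subgroup.mem_center_iff] at hnc
  push Not at hnc
  obtain ⟨g, hg⟩ := hnc
  have hk1 : b⁻¹ * (g * b * g⁻¹) ≠ 1 := by
    intro h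
    apply hg
    have h3 : g * b * g⁻¹ = b := by
      have := congrArg (fun t => b * t) h
      simpa using this
    calc g * b = g * b * g⁻¹ * g := by group
      _ = b * g := by rw [h3]
  obtain ⟨hN, -⟩ := Cfsg.Agent.Helper29.PSG.normalClosure_le_sylow (p := p) hb h1
  have hbN : b ∈ normalClosure ({b} : Set G) := subset_normalClosure (Set.mem_singleton b)
  have hkN : b⁻¹ * (g * b * g⁻¹) ∈ normalClosure ({b} : Set G) :=
    mul_mem (inv_mem hbN) (normalClosure_normal.conj_mem b hbN g)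
  obtain ⟨j, hj⟩ := hN ⟨_, hkN⟩
  have hj' : (b⁻¹ * (g * b * g⁻¹)) ^ (p ^ j) = 1 := by
    have := congrArg Subtype.val hj
    simpa using this
  obtain ⟨i, hi⟩ := Cfsg.Agent.S4127.orderOf_eq_of_pow_eq_one hj'
  exact h2 g p hp.out (dvd_orderOf_of_ne_one ⟨i, hi⟩ hk1)

/-- elements of a Sylow `p`-subgroup are `p`-elements -/
theorem pElement_of_mem_sylow {p : ℕ} [hp : Fact p.Prime] (P : Sylow p G) {x : G}
    (hx : x ∈ (P : Subgroup G)) : ∃ k : ℕ, orderOf x = p ^ k := by
  obtain ⟨j, hj⟩ := P.isPGroup' ⟨x, hx⟩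
  have hj' : x ^ (p ^ j) = 1 := by
    have := congrArg Subtype.val hj
    simpa using this
  exact Cfsg.Agent.S4127.orderOf_eq_of_pow_eq_one hj'

/-- a `p`-element normalizing a Sylow `p`-subgroup lies in it -/
theorem mem_sylow_of_mem_normalizer {p : ℕ} [hp : Fact p.Prime] (P : Sylow p G) {y : G}
    (hy : ∃ k : ℕ, orderOf y = p ^ k) (hn : y ∈ normalizer ((P : Subgroup G) : Set G)) :
    y ∈ (P : Subgroup G) := by
  have hzy : IsPGroup p (zpowers y) := by
    obtain ⟨k, hk⟩ := hy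
    exact IsPGroup.of_card (n := k) (by rw [Nat.card_zpowers, hk])
  have h1 := hzy.inf_normalizer_sylow P
  have h2 : y ∈ zpowers y ⊓ normalizer ((P : Subgroup G) : Set G) := ⟨mem_zpowers y, hn⟩
  have h3 : y ∈ zpowers y ⊓ (P : Subgroup G) := h1 ▸ h2
  exact h3.2

/-- core case of the star lemma: `u ∈ P ≤ C_G(v)` -/
theorem star_core (p : ℕ) [hp : Fact p.Prime] (hZ : ¬ p ∣ Nat.card (center G)) {u v : G}
    (hu : ∃ k : ℕ, orderOf u = p ^ k) (hv : ∃ k : ℕ, orderOf v = p ^ k) (hu1 : u ≠ 1)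
    (hv1 : v ≠ 1) (hcop : Nat.Coprime (ci u) (ci v)) (hpv : ¬ p ∣ ci v)
    (P : Sylow p G) (hPv : (P : Subgroup G) ≤ cz v) (huP : u ∈ (P : Subgroup G)) :
    ∃ a b : ℕ, a.Prime ∧ b.Prime ∧ a ∣ ci u ∧ b ∣ ci v ∧ Edge G p a b := by
  classical
  have hcu : ci u ≠ 1 := ci_ne_one_of_pElement hZ hu hu1
  have hcv : ci v ≠ 1 := ci_ne_one_of_pElement hZ hv hv1
  -- `u` and `v` commute
  have huv : Commute u v := (mem_cz_iff.mp (hPv huP))
  -- `x = u * v` is a nontrivial `p`-element
  have hx1 : u * v ≠ 1 := by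
    intro h
    have h1 : u = v⁻¹ := eq_inv_of_mul_eq_one_left h
    rw [h1, ci_inv] at hcop
    exact hcv ((Nat.coprime_self _).mp hcop)
  have hxp : ∃ k : ℕ, orderOf (u * v) = p ^ k := by
    obtain ⟨i, hi⟩ := hu
    obtain ⟨j, hj⟩ := hv
    have h1 : orderOf (u * v) ∣ Nat.lcm (p ^ i) (p ^ j) := by
      have := huv.orderOf_mul_dvd_lcm
      rwa [hi, hj] at this
    have h2 : Nat.lcm (p ^ i) (p ^ j) ∣ p ^ (max i j) :=
      Nat.lcm_dvd (pow_dvd_pow p (le_max_left i j)) (pow_dvd_pow p (le_max_right i j))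
    obtain ⟨k, -, hk⟩ := (Nat.dvd_prime_pow hp.out).mp (h1.trans h2)
    exact ⟨k, hk⟩
  have hxs : p ∣ orderOf (u * v) := dvd_orderOf_of_ne_one hxp hx1
  have hdvd : ci (u * v) ∣ ci u * ci v := ci_mul_dvd hcop
  have hle1 : ci u ≤ ci (u * v) := ci_le_ci_mul_left hcop
  have hle2 : ci v ≤ ci (u * v) := ci_le_ci_mul_right hcop
  by_cases hA : ∃ a : ℕ, a.Prime ∧ a ∣ ci (u * v) ∧ a ∣ ci u
  · by_cases hB : ∃ b : ℕ, b.Prime ∧ b ∣ ci (u * v) ∧ b ∣ ci v
    · -- mixed class size: an edge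
      obtain ⟨a, ha, hax, hau⟩ := hA
      obtain ⟨b, hb, hbx, hbv⟩ := hB
      have hab : Nat.Coprime a b := by
        rw [Nat.coprime_primes ha hb]
        rintro rfl
        exact ha.one_lt.ne' (Nat.eq_one_of_dvd_coprimes hcop hau hbv)
      exact ⟨a, b, ha, hb, hau, hbv, u * v, hxs, hab.mul_dvd_of_dvd_of_dvd hax hbx⟩
    · -- `ci (u * v)` coprime to `ci v`: so `ci (u * v) = ci u`
      have hc : Nat.Coprime (ci (u * v)) (ci v) := by
        by_contra h
        obtain ⟨b, hb, h1, h2⟩ := Nat.Prime.not_coprime_iff_dvd.mp h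
        exact hB ⟨b, hb, h1, h2⟩
      have h1 : ci (u * v) ∣ ci u := hc.dvd_of_dvd_mul_right hdvd
      have heq : ci (u * v) = ci u := le_antisymm (Nat.le_of_dvd (ci_pos u) h1) hle1
      obtain ⟨hpu, hcommv⟩ := p_dvd_ci_of_eq hcop heq hv hcv
      obtain ⟨-, hNle⟩ := Cfsg.Agent.Helper29.PSG.normalClosure_le_sylow (p := p) hv hcommv
      obtain ⟨b₀, hb₀, hb₀v⟩ := exists_prime_dvd_of_ne_one hcv
      have hb₀p : b₀ ≠ p := by rintro rfl; exact hpv hb₀v
      rcases Cfsg.Agent.Helper37.PSG.centralizer_dichotomy hv hpv with ⟨w, hvw, hwp, hpw⟩ | hdich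
      · -- a `p'`-element `w ∈ C(v)` with `p ∣ |(vw)^G|`
        refine ⟨p, b₀, hp.out, hb₀, hpu, hb₀v, v * w, ?_, ?_⟩
        · obtain ⟨k, hk⟩ := hv
          have hco : (orderOf v).Coprime (orderOf w) := by
            rw [hk]; exact (Nat.Coprime.pow_left k hwp.symm)
          rw [hvw.orderOf_mul_eq_mul_orderOf_of_coprime hco]
          exact (dvd_orderOf_of_ne_one ⟨k, hk⟩ hv1).mul_right _
        · obtain ⟨k, hk⟩ := hv
          have hco : (orderOf v).Coprime (orderOf w) := by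
            rw [hk]; exact (Nat.Coprime.pow_left k hwp.symm)
          have hmem : v ∈ zpowers (v * w) :=
            Cfsg.Agent.S4127.mem_zpowers_mul_of_coprime hvw.eq hco
          have h2 : ci v ∣ ci (v * w) := ci_dvd_of_mem_zpowers hmem
          have hpb : Nat.Coprime p b₀ := (Nat.coprime_primes hp.out hb₀).mpr hb₀p.symm
          exact hpb.mul_dvd_of_dvd_of_dvd hpw (hb₀v.trans h2)
      · -- `P ⊴ C(v)`, centralized by the `p'`-elements of `C(v)`
        obtain ⟨hnorm, hcent⟩ := hdich P hPv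
        by_contra hno
        push Not at hno
        have hnoE : ∀ b : ℕ, b.Prime → b ∣ ci v → ¬ Edge G p p b :=
          fun b hb hbv => hno p b hp.out hb hpu hbv
        -- Claim A
        have hA' : ∀ x ∈ (P : Subgroup G), p ∣ ci x → ∀ r : ℕ, r.Prime → r ∣ ci x → r = p := by
          intro x hx hpx r hr hrx
          by_contra hrp
          by_cases hrv : r ∣ ci v
          · apply hnoE r hr hrv
            have hx1 : x ≠ 1 := by
              rintro rfl
              have h1 : ci (1 : G) = 1 := (ci_eq_one_iff 1).mpr (one_mem _)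
              rw [h1] at hpx
              exact hp.out.one_lt.ne' (Nat.dvd_one.mp hpx)
            refine ⟨x, dvd_orderOf_of_ne_one (pElement_of_mem_sylow P hx) hx1, ?_⟩
            have hpr : Nat.Coprime p r := (Nat.coprime_primes hp.out hr).mpr (Ne.symm hrp)
            exact hpr.mul_dvd_of_dvd_of_dvd hpx hrx
          · have : Fact r.Prime := ⟨hr⟩
            obtain ⟨R, hR⟩ :=
              Cfsg.Agent.Helper76.exists_sylow_le_of_not_dvd_index' (p := r) (cz v) hrv
            have hRx : (R : Subgroup G) ≤ cz x := by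
              intro w hw
              have hvw : Commute v w := (mem_cz_iff.mp (hR hw)).symm
              have hwo : (orderOf w).Coprime p := by
                obtain ⟨k, hk⟩ := pElement_of_mem_sylow R hw
                rw [hk]
                exact Nat.Coprime.pow_left k ((Nat.coprime_primes hr hp.out).mpr hrp)
              have h1 := hcent w hvw hwo hx
              rw [mem_cz_iff] at h1 ⊢
              exact h1.symm
            exact not_dvd_ci_of_sylow_le R hRx hrx
        -- Claim B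
        have hB' : ∀ x ∈ (P : Subgroup G), ¬ p ∣ ci x → ∀ g : G, Commute x (g * v * g⁻¹) := by
          intro x hx hpx g
          obtain ⟨P', hP'⟩ :=
            Cfsg.Agent.Helper76.exists_sylow_le_of_not_dvd_index' (p := p) (cz x) hpx
          have hvN : v ∈ normalClosure ({v} : Set G) :=
            subset_normalClosure (Set.mem_singleton v)
          have h1 : g * v * g⁻¹ ∈ normalClosure ({v} : Set G) :=
            normalClosure_normal.conj_mem v hvN g
          exact (mem_cz_iff.mp (hP' (hNle P' h1))).symm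
        -- Claim C: `P` is normal
        have hC' : ∀ x ∈ (P : Subgroup G), ∀ g : G, g * x * g⁻¹ ∈ (P : Subgroup G) := by
          intro x hx g
          by_cases hpx : p ∣ ci x
          · exact Cfsg.Agent.Helper29.PSG.conj_mem_sylow_of_ppow P hx (hA' x hx hpx) g
          · have h1 : Commute x (g⁻¹ * v * g⁻¹⁻¹) := hB' x hx hpx g⁻¹
            have h2 : g * x * g⁻¹ ∈ cz v := by
              rw [mem_cz_iff]
              have h3 : x * (g⁻¹ * v * g) = (g⁻¹ * v * g) * x := by
                have := h1.eq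
                rwa [inv_inv] at this
              calc g * x * g⁻¹ * v = g * (x * (g⁻¹ * v * g)) * g⁻¹ := by group
                _ = g * ((g⁻¹ * v * g) * x) * g⁻¹ := by rw [h3]
                _ = v * (g * x * g⁻¹) := by group
            have h4 : ∃ k : ℕ, orderOf (g * x * g⁻¹) = p ^ k := by
              rw [orderOf_conj']
              exact pElement_of_mem_sylow P hx
            exact mem_sylow_of_mem_normalizer P h4 (hnorm h2)
        have hPn : (P : Subgroup G).Normal := ⟨fun x hx g => hC' x hx g⟩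
        -- non-central elements of `P` have `p ∣ ci`
        have hdiv : ∀ x ∈ (P : Subgroup G), (∃ y ∈ (P : Subgroup G), ¬ Commute x y) → p ∣ ci x := by
          intro x hx ⟨y, hy, hxy⟩
          by_contra hpx
          obtain ⟨P', hP'⟩ :=
            Cfsg.Agent.Helper76.exists_sylow_le_of_not_dvd_index' (p := p) (cz x) hpx
          have hPP : P' = P := Cfsg.Agent.S4127.sylow_eq_of_normal P P' hPn
          rw [hPP] at hP'
          exact hxy (mem_cz_iff.mp (hP' hy)).symm
        have hna : ∃ x ∈ (P : Subgroup G), ∃ y ∈ (P : Subgroup G), ¬ Commute x y := by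
          refine ⟨u, huP, ?_⟩
          by_contra hall
          push Not at hall
          have hPu : (P : Subgroup G) ≤ cz u := fun y hy => mem_cz_iff.mpr (hall y hy).symm.eq
          exact not_dvd_ci_of_sylow_le P hPu hpu
        have : Fact b₀.Prime := ⟨hb₀⟩
        obtain ⟨B⟩ : Nonempty (Sylow b₀ G) := inferInstance
        have hBP := Cfsg.Agent.Helper29.PSG.sylow_centralizes hb₀p P hPn hna
          (fun x hx hxy => hA' x hx (hdiv x hx hxy)) B
        have hvP : v ∈ (P : Subgroup G) :=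
          mem_sylow_of_mem_normalizer P hv (hnorm (self_mem_cz v))
        have hBv : (B : Subgroup G) ≤ cz v := fun z hz => mem_cz_iff.mpr (hBP z hz v hvP).eq
        exact not_dvd_ci_of_sylow_le B hBv hb₀v
  · -- `ci (u * v)` coprime to `ci u`: so `ci (u * v) = ci v`, impossible
    exfalso
    have hc : Nat.Coprime (ci (u * v)) (ci u) := by
      by_contra h
      obtain ⟨a, ha, h1, h2⟩ := Nat.Prime.not_coprime_iff_dvd.mp h
      exact hA ⟨a, ha, h1, h2⟩
    have h1 : ci (u * v) ∣ ci v := hc.dvd_of_dvd_mul_left hdvd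
    have h2 : ci (v * u) = ci v := by
      rw [← huv.eq]
      exact le_antisymm (Nat.le_of_dvd (ci_pos v) h1) hle2
    exact hpv (p_dvd_ci_of_eq hcop.symm h2 hu hcu).1


/-- star lemma with `p ∤ |v^G|` -/
theorem star_aux (p : ℕ) [hp : Fact p.Prime] (hZ : ¬ p ∣ Nat.card (center G)) {u v : G}
    (hu : ∃ k : ℕ, orderOf u = p ^ k) (hv : ∃ k : ℕ, orderOf v = p ^ k) (hu1 : u ≠ 1)
    (hv1 : v ≠ 1) (hcop : Nat.Coprime (ci u) (ci v)) (hpv : ¬ p ∣ ci v) :
    ∃ a b : ℕ, a.Prime ∧ b.Prime ∧ a ∣ ci u ∧ b ∣ ci v ∧ Edge G p a b := by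
  classical
  obtain ⟨P, hPv⟩ := Cfsg.Agent.Helper76.exists_sylow_le_of_not_dvd_index' (p := p) (cz v) hpv
  have hzu : IsPGroup p (zpowers u) := by
    obtain ⟨k, hk⟩ := hu
    exact IsPGroup.of_card (n := k) (by rw [Nat.card_zpowers, hk])
  obtain ⟨Q, hQ⟩ := hzu.exists_le_sylow
  obtain ⟨g, hg⟩ := MulAction.exists_smul_eq G Q P
  have hu'P : g * u * g⁻¹ ∈ (P : Subgroup G) := by
    rw [← hg]; exact Cfsg.Agent.S4127.conj_mem_smul Q g u (hQ (mem_zpowers u))
  have hu' : ∃ k : ℕ, orderOf (g * u * g⁻¹) = p ^ k := by rwa [orderOf_conj']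
  have hu'1 : g * u * g⁻¹ ≠ 1 := by
    intro h
    apply hu1
    have : u = g⁻¹ * (g * u * g⁻¹) * g := by group
    rw [this, h]; group
  have hcop' : Nat.Coprime (ci (g * u * g⁻¹)) (ci v) := by rwa [ci_conj]
  have := star_core p hZ hu' hv hu'1 hv1 hcop' hpv P hPv hu'P
  rwa [ci_conj] at this

/-- **Star lemma.** -/
theorem star (p : ℕ) [hp : Fact p.Prime] (hZ : ¬ p ∣ Nat.card (center G)) {u v : G}
    (hu : ∃ k : ℕ, orderOf u = p ^ k) (hv : ∃ k : ℕ, orderOf v = p ^ k) (hu1 : u ≠ 1)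
    (hv1 : v ≠ 1) :
    (∃ c : ℕ, c.Prime ∧ c ∣ ci u ∧ c ∣ ci v) ∨
    (∃ a b : ℕ, a.Prime ∧ b.Prime ∧ a ∣ ci u ∧ b ∣ ci v ∧ Edge G p a b) := by
  by_cases hcop : Nat.Coprime (ci u) (ci v)
  · right
    by_cases hpv : p ∣ ci v
    · have hpu : ¬ p ∣ ci u := fun h =>
        hp.out.one_lt.ne' (Nat.eq_one_of_dvd_coprimes hcop h hpv)
      obtain ⟨a, b, ha, hb, hav, hbu, hE⟩ := star_aux p hZ hv hu hv1 hu1 hcop.symm hpu
      exact ⟨b, a, hb, ha, hbu, hav, hE.symm⟩
    · exact star_aux p hZ hu hv hu1 hv1 hcop hpv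
  · left
    obtain ⟨c, hc, h1, h2⟩ := Nat.Prime.not_coprime_iff_dvd.mp hcop
    exact ⟨c, hc, h1, h2⟩

/-- the `p`-part witness: a `p`-singular element has a power of order `p` -/
theorem exists_pElement_of_singular {p : ℕ} [hp : Fact p.Prime] {x : G} (hx : p ∣ orderOf x) :
    ∃ u : G, (∃ k : ℕ, orderOf u = p ^ k) ∧ u ≠ 1 ∧ ci u ∣ ci x := by
  refine ⟨x ^ (orderOf x / p), ⟨1, ?_⟩, ?_, ?_⟩
  · rw [pow_one]; exact orderOf_pow_orderOf_div (orderOf_pos x).ne' hx
  · intro h
    have h1 := orderOf_pow_orderOf_div (orderOf_pos x).ne' hx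
    rw [h, orderOf_one] at h1
    exact hp.out.one_lt.ne h1
  · exact ci_dvd_of_mem_zpowers (Subgroup.pow_mem _ (mem_zpowers x) _)

theorem mul_dvd_of_primes {a b n : ℕ} (ha : a.Prime) (hb : b.Prime) (hab : a ≠ b) (h1 : a ∣ n)
    (h2 : b ∣ n) : a * b ∣ n :=
  ((Nat.coprime_primes ha hb).mpr hab).mul_dvd_of_dvd_of_dvd h1 h2

end Cfsg.Agent.Helper15.PSG
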