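import Cfsg.Agent.Helper5.PsuE2.Defs

/-!
# helper5's S2089 block I-even-2 (PsuE2), piece (CMAP): `Cq τ zT` maps onto `Qsub`.
-/

set_option autoImplicit false

namespace Cfsg.Agent.Helper15.PsuE2

open Matrix
open scoped commutatorElement
open Cfsg.Agent.Helper43.PsuM.Ev
open Cfsg.Agent.Helper96.StLift
open Cfsg.Agent.Helper5.PsuE2

universe u

section group

variable {K : Type u} [Field K] {σ : K →+* K} {m : ℕ} {Γ : Type u} [Group Γ] [Finite Γ]
  (τ : Γ →* SUe m σ) (hτ : Function.Surjective τ)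

/-- (CMAP) `≤`: (CLE).  `≥`: `R.Q_le`; `zE σ i 1 = τ (zT i)`, `cE σ i j u = τ (cT τ i j u)` (`map_cT`, `cT_mem`). -/
theorem Cq_map (E : Ext2 τ hτ) (F : F4Facts σ) (R : RootFacts σ m) (hm : 4 ≤ m)
    (L : LiftFacts τ hτ) (zT : Fin m → Γ) (Z : ZFacts τ hτ zT) :
    (Cq τ zT).map τ = Qsub m σ := by
  apply le_antisymm
  · -- (CLE)
    rw [Subgroup.map_le_iff_le_comap]
    unfold Cq
    apply sup_le
    · exact csh_le τ R.T_norm
    · rw [Subgroup.closure_le]
      rintro _ ⟨a, rfl⟩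
      change τ (zT a) ∈ Qsub m σ
      rw [Z.map_zT a]
      exact R.z_mem a
  · refine le_trans R.Q_le ?_
    rw [Subgroup.closure_le]
    rintro x (⟨i, rfl⟩ | ⟨i, j, hij, u, rfl⟩)
    · refine ⟨zT i, ?_, Z.map_zT i⟩
      unfold Cq
      exact (le_sup_right : Subgroup.closure (Set.range zT) ≤ _)
        (Subgroup.subset_closure ⟨i, rfl⟩)
    · refine ⟨cT τ i j u, ?_, map_cT τ hτ R hij u⟩
      unfold Cq
      exact (le_sup_left : Csh τ ≤ _) (cT_mem τ hτ R hij u)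

end group

end Cfsg.Agent.Helper15.PsuE2
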