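import Cfsg.Agent.Helper5.PsuE2.Defs

/-!
# helper5's S2089 block I-even-2 (PsuE2), piece (TINV): `Cq τ zT` is invariant under the lifts of the torus.
-/

set_option autoImplicit false

namespace Cfsg.Agent.Helper15.PsuE2

open Matrix
open scoped commutatorElement
open Cfsg.Agent.Helper43.PsuM.Ev
open Cfsg.Agent.Helper96.StLift
open Cfsg.Agent.Helper5.PsuE2

universe u

section group

variable {K : Type u} [Field K] {σ : K →+* K} {m : ℕ} {Γ : Type u} [Group Γ] [Finite Γ]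
  (τ : Γ →* SUe m σ) (hτ : Function.Surjective τ)

/-- (TINV) `csh_conj τ R.T_norm g hg` on `Csh τ`; `g * zT a * g⁻¹ = zT a` by `L.torus_z`. -/
theorem Cq_conj_T (E : Ext2 τ hτ) (F : F4Facts σ) (R : RootFacts σ m) (hm : 4 ≤ m)
    (L : LiftFacts τ hτ) (zT : Fin m → Γ) (Z : ZFacts τ hτ zT) :
    ∀ g : Γ, τ g ∈ Tsub m σ → ∀ c ∈ Cq τ zT, g * c * g⁻¹ ∈ Cq τ zT := by
  intro g hg c hc
  have h : (Cq τ zT).map (MulAut.conj g).toMonoidHom ≤ Cq τ zT := by
    unfold Cq
    rw [Subgroup.map_sup]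
    apply sup_le_sup
    · rintro _ ⟨y, hy, rfl⟩
      exact csh_conj τ R.T_norm g hg y hy
    · rw [MonoidHom.map_closure]
      apply Subgroup.closure_mono
      rintro _ ⟨_, ⟨a, rfl⟩, rfl⟩
      refine ⟨a, ?_⟩
      have hcomm := L.torus_z g (zT a) a hg (Z.map_zT a)
      change zT a = g * zT a * g⁻¹
      rw [hcomm.eq, mul_inv_cancel_right]
  exact h ⟨c, hc, rfl⟩

end group

end Cfsg.Agent.Helper15.PsuE2
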