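import Cfsg.Agent.Helper58.PsuIo.OdDefs
import Cfsg.Agent.Helper58.PsuIo.AbsDefs
import Cfsg.Agent.Helper5.SuBN.Defs
import Cfsg.Agent.Helper33.PsuM_AI
import Cfsg.Agent.Helper61.PsuM_AMAT
import Cfsg.Agent.Helper61.PsuM_AQ
import Cfsg.Agent.Helper55.PsuM_AROOTa
import Cfsg.Agent.Helper55.PsuIo_OMAT
import Cfsg.Agent.Helper55.PsuIo_OQ
import Cfsg.Agent.Helper57.PsuIo_OCONJ
import Cfsg.Agent.Helper29.PsuIo_OT
import Cfsg.Agent.Helper80.PsuIo_OZ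

/-!
# helper58's S2089 block I-odd MODEL (farm #15378), piece (ONORM): normalisation and intersections in `SUo m σ`.
Statements VERBATIM from `tools/helper58_psuIo/OdSkel.lean.txt`; uses the landed pieces (OMAT, OQ) helper55,
(OCONJ) helper57, (OT) helper29, (OZ) helper80 (incl. its own copies `OZ_*` of the (OQS) lemmas).
-/

set_option autoImplicit false

namespace Cfsg.Agent.Helper15.PsuIo

open Matrix
open scoped commutatorElement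
open Cfsg.Agent.Helper43.PsuM
open Cfsg.Agent.Helper58.PsuIo.Od

universe u

variable {F : Type*} [Field F] {m : ℕ} {σ : F →+* F}

/-! ### (ONORM) normalisation, intersections -/

/-- (ONORM7) `MonoidHom.map_closure` -/
theorem USsub_eq_closure : USsub m σ = Subgroup.closure (Sgen m σ) := by
  unfold USsub Ev.USsub Sgen
  rw [MonoidHom.map_closure]
  congr 1
  ext g
  constructor
  · rintro ⟨_, ⟨i, j, hij, a, rfl⟩, rfl⟩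
    exact ⟨i, j, hij, a, rfl⟩
  · rintro ⟨i, j, hij, a, rfl⟩
    exact ⟨_, ⟨i, j, hij, a, rfl⟩, rfl⟩

/-- (ONORM1) `mem_Tsub_iff`, `mem_Qsub_iff`, `tO_conj_qO` -/
theorem Tsub_normalizes_Qsub (hσ : ∀ x, σ (σ x) = x) (t x : SUo m σ) (ht : t ∈ Tsub m σ)
    (hx : x ∈ Qsub m σ) : t * x * t⁻¹ ∈ Qsub m σ := by
  obtain ⟨d, hd, rfl⟩ := (Cfsg.Agent.Helper29.PsuIo.mem_Tsub_iff hσ t).mp ht
  obtain ⟨y, B, hQ, rfl⟩ := (Cfsg.Agent.Helper80.PsuIo.OZ_mem_Qsub_iff hσ x).mp hx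
  obtain ⟨h1, h2⟩ := Cfsg.Agent.Helper57.PsuIo.tO_conj_qO hσ d hd hQ
  rw [h2]
  exact (Cfsg.Agent.Helper80.PsuIo.OZ_mem_Qsub_iff hσ _).mpr ⟨_, _, h1, rfl⟩

/-- (ONORM2) `tO_conj_qO` with `y = 0`, `mem_Zsub_iff`, `QP_zero_left` -/
theorem Tsub_normalizes_Zsub (hσ : ∀ x, σ (σ x) = x) (t x : SUo m σ) (ht : t ∈ Tsub m σ)
    (hx : x ∈ Zsub m σ) : t * x * t⁻¹ ∈ Zsub m σ := by
  obtain ⟨d, hd, rfl⟩ := (Cfsg.Agent.Helper29.PsuIo.mem_Tsub_iff hσ t).mp ht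
  obtain ⟨B, hB, rfl⟩ := (Cfsg.Agent.Helper80.PsuIo.mem_Zsub_iff hσ x).mp hx
  have hQ : QP σ (0 : Fin m → F) B := (Cfsg.Agent.Helper80.PsuIo.QP_zero_left B).mpr hB
  obtain ⟨h1, h2⟩ := Cfsg.Agent.Helper57.PsuIo.tO_conj_qO hσ d hd hQ
  have hy : (fun i => d i * (0 : Fin m → F) i * (cw σ d)⁻¹) = 0 := by
    funext i
    simp
  rw [hy] at h1 h2
  rw [h2]
  exact (Cfsg.Agent.Helper80.PsuIo.mem_Zsub_iff hσ _).mpr ⟨_, (Cfsg.Agent.Helper80.PsuIo.QP_zero_left _).mp h1, rfl⟩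

/-- (ONORM3) `USsub_eq_closure`, `tO_conj_xO`, closure induction -/
theorem Tsub_normalizes_USsub (hσ : ∀ x, σ (σ x) = x) (t x : SUo m σ) (ht : t ∈ Tsub m σ)
    (hx : x ∈ USsub m σ) : t * x * t⁻¹ ∈ USsub m σ := by
  obtain ⟨d, hd, rfl⟩ := (Cfsg.Agent.Helper29.PsuIo.mem_Tsub_iff hσ t).mp ht
  have h : (USsub m σ).map (MulAut.conj (tO σ d)).toMonoidHom ≤ USsub m σ := by
    rw [USsub_eq_closure, MonoidHom.map_closure]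
    apply Subgroup.closure_mono
    rintro _ ⟨_, ⟨i, j, hij, a, rfl⟩, rfl⟩
    refine ⟨i, j, hij, d i * a * (d j)⁻¹, ?_⟩
    exact Cfsg.Agent.Helper57.PsuIo.tO_conj_xO hσ d hd i j a
  exact h ⟨x, hx, rfl⟩

/-- (ONORM4) `Ev.mem_Ssub_iff` (`Cfsg.Agent.Helper33.PsuM_AI`): `s = iO σ A`; `iO_conj_qO` -/
theorem Lsub_normalizes_Qsub (hσ : ∀ x, σ (σ x) = x) :
    ∀ s ∈ (Ev.Ssub m σ).map (emb σ), ∀ x ∈ Qsub m σ, s * x * s⁻¹ ∈ Qsub m σ := by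
  rintro _ ⟨u, hu, rfl⟩ x hx
  obtain ⟨A, rfl⟩ := (Cfsg.Agent.Helper33.PsuM.mem_Ssub_iff hσ u).mp hu
  obtain ⟨y, B, hQ, rfl⟩ := (Cfsg.Agent.Helper80.PsuIo.OZ_mem_Qsub_iff hσ x).mp hx
  obtain ⟨h1, h2⟩ := Cfsg.Agent.Helper57.PsuIo.iO_conj_qO hσ A hQ
  change iO σ A * qO σ y B * (iO σ A)⁻¹ ∈ Qsub m σ
  rw [h2]
  exact (Cfsg.Agent.Helper80.PsuIo.OZ_mem_Qsub_iff hσ _).mpr ⟨_, _, h1, rfl⟩

/-- (ONORM5) -/
theorem Lsub_normalizes_Zsub (hσ : ∀ x, σ (σ x) = x) :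
    ∀ s ∈ (Ev.Ssub m σ).map (emb σ), ∀ x ∈ Zsub m σ, s * x * s⁻¹ ∈ Zsub m σ := by
  rintro _ ⟨u, hu, rfl⟩ x hx
  obtain ⟨A, rfl⟩ := (Cfsg.Agent.Helper33.PsuM.mem_Ssub_iff hσ u).mp hu
  obtain ⟨B, hB, rfl⟩ := (Cfsg.Agent.Helper80.PsuIo.mem_Zsub_iff hσ x).mp hx
  have hQ : QP σ (0 : Fin m → F) B := (Cfsg.Agent.Helper80.PsuIo.QP_zero_left B).mpr hB
  obtain ⟨h1, h2⟩ := Cfsg.Agent.Helper57.PsuIo.iO_conj_qO hσ A hQ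
  rw [Matrix.mulVec_zero] at h1 h2
  change iO σ A * qO σ 0 B * (iO σ A)⁻¹ ∈ Zsub m σ
  rw [h2]
  exact (Cfsg.Agent.Helper80.PsuIo.mem_Zsub_iff hσ _).mpr ⟨_, (Cfsg.Agent.Helper80.PsuIo.QP_zero_left _).mp h1, rfl⟩

/-- (ONORM6) `x = qO σ y B = emb σ u`, `u ∈ Ev.USsub ≤ Ev.Ssub` (`Ev.USsub_le_Ssub`), `u = Ev.iE σ A`: compare the
matrices (`mat_qO`, `mat_emb`, `Ev.mat_iE`): `colE y = 0`, `B = 0` -/
theorem Qsub_inf_USsub (hσ : ∀ x, σ (σ x) = x) : Qsub m σ ⊓ USsub m σ = ⊥ := by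
  rw [eq_bot_iff]
  rintro x ⟨hx1, hx2⟩
  rw [Subgroup.mem_bot]
  obtain ⟨y, B, hQ, rfl⟩ := (Cfsg.Agent.Helper80.PsuIo.OZ_mem_Qsub_iff hσ x).mp hx1
  obtain ⟨u, hu, hux⟩ := hx2
  obtain ⟨A, rfl⟩ := (Cfsg.Agent.Helper33.PsuM.mem_Ssub_iff hσ u).mp
    (Cfsg.Agent.Helper33.PsuM.USsub_le_Ssub hσ hu)
  have hm := congrArg mat hux
  rw [mat_emb, Cfsg.Agent.Helper61.PsuM.mat_iE hσ, Cfsg.Agent.Helper55.PsuIo.mat_qO hσ hQ] at hm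
  unfold embM qM Ev.iM Ev.qM at hm
  rw [Matrix.fromBlocks_inj] at hm
  obtain ⟨h11, -, -, -⟩ := hm
  rw [Matrix.fromBlocks_inj] at h11
  obtain ⟨hA, -, -, hD⟩ := h11
  -- the matrix of `u` is one
  have hu1 : Ev.iE σ A = 1 := by
    apply Ev.mat_injective
    rw [Cfsg.Agent.Helper61.PsuM.mat_iE hσ, Ev.mat_one, hA, hD]
    unfold Ev.iM
    exact Matrix.fromBlocks_one
  rw [← hux, hu1, map_one]

end Cfsg.Agent.Helper15.PsuIo
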