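import Cfsg.Agent.Helper58.PsuIo.OdDefs
import Cfsg.Agent.Helper58.PsuIo.AbsDefs
import Cfsg.Agent.Helper5.SuBN.Defs
import Cfsg.Agent.Helper33.PsuM_AI
import Cfsg.Agent.Helper61.PsuM_AMAT
import Cfsg.Agent.Helper61.PsuM_AQ
import Cfsg.Agent.Helper55.PsuM_AROOTa
import Cfsg.Agent.Helper55.PsuIo_OMAT
import Cfsg.Agent.Helper55.PsuIo_OQ
import Cfsg.Agent.Helper57.PsuIo_OCONJ
import Cfsg.Agent.Helper29.PsuIo_OT
import Cfsg.Agent.Helper80.PsuIo_OZ

/-!
# helper58's S2089 block I-odd MODEL (farm #15378), piece (OW): weights of the torus on `Yset i` and `Xr r`.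
Statements VERBATIM from `tools/helper58_psuIo/OdSkel.lean.txt`; uses the landed pieces (OMAT, OQ) helper55,
(OCONJ) helper57, (OT) helper29, (OZ) helper80 (incl. its own copies `OZ_*` of the (OQS) lemmas).
-/

set_option autoImplicit false

namespace Cfsg.Agent.Helper15.PsuIo

open Matrix
open scoped commutatorElement
open Cfsg.Agent.Helper43.PsuM
open Cfsg.Agent.Helper58.PsuIo.Od

universe u

variable {F : Type*} [Field F] {m : ℕ} {σ : F →+* F}

/-! ### (OW) weights of the torus on `Yset i` and `Xr r` -/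

/-- (OW1) -/
theorem Yset_fix (hσ : ∀ x, σ (σ x) = x) {θ : F} (hθ : θ + σ θ = 1) (d : Fin m → F)
    (hd : ∀ i, d i ≠ 0) (i : Fin m) (hw : d i ≠ cw σ d) :
    ∀ x ∈ Yset σ i, ∃ x' ∈ Qsub m σ, ∃ z' ∈ Zsub m σ, x = ⁅tO σ d, x'⁆ * z' := by
  rintro x ⟨y, B, hQ, hy, rfl⟩
  have hcw : cw σ d ≠ 0 := by
    unfold cw
    apply mul_ne_zero
    · rw [Finset.prod_ne_zero_iff]
      intro l _
      exact fun h => hd l ((map_eq_zero σ).mp h)
    · apply inv_ne_zero
      rw [Finset.prod_ne_zero_iff]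
      intro l _
      exact hd l
  set c : F := d i * (cw σ d)⁻¹ with hc
  have hc1 : c - 1 ≠ 0 := by
    intro h
    apply hw
    have h1 : c = 1 := sub_eq_zero.mp h
    rw [hc] at h1
    field_simp at h1
    exact h1
  set y' : Fin m → F := fun l => (c - 1)⁻¹ * y l with hy'
  have hQ' := Cfsg.Agent.Helper80.PsuIo.OZ_exists_QP hσ hθ y'
  set B' := -(θ • (Matrix.vecMulVec (fun i => σ (y' i)) y')ᵀ) with hB'
  obtain ⟨h1, h2⟩ := Cfsg.Agent.Helper57.PsuIo.tO_conj_qO hσ d hd hQ'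
  have hyc : (fun l => d l * y' l * (cw σ d)⁻¹) = fun l => c * y' l := by
    funext l
    by_cases hl : l = i
    · subst hl
      rw [hc]
      ring
    · simp only [hy', hy l hl, mul_zero, zero_mul]
  rw [hyc] at h1 h2
  have h3 := Cfsg.Agent.Helper55.PsuIo.qO_inv hσ hQ'
  have h4 := Cfsg.Agent.Helper55.PsuIo.QP_inv hσ hQ'
  have h5 := Cfsg.Agent.Helper55.PsuIo.qO_mul hσ h1 h4
  have h6 := Cfsg.Agent.Helper55.PsuIo.QP_mul hσ h1 h4
  have hyy : ((fun l => c * y' l) + -y') = y := by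
    funext l
    rw [Pi.add_apply, Pi.neg_apply, hy']
    field_simp
    ring
  rw [hyy] at h5 h6
  obtain ⟨h7, h8⟩ := Cfsg.Agent.Helper80.PsuIo.OZ_qO_eq_mul_Z hσ hQ h6
  refine ⟨qO σ y' B', (Cfsg.Agent.Helper80.PsuIo.OZ_mem_Qsub_iff hσ _).mpr ⟨_, _, hQ', rfl⟩, _,
    (Cfsg.Agent.Helper80.PsuIo.mem_Zsub_iff hσ _).mpr ⟨_, h7, rfl⟩, ?_⟩
  rw [commutatorElement_def, h2, h3, h5]
  exact h8

/-- (OW2) -/
theorem Yset_triv (hσ : ∀ x, σ (σ x) = x) (d : Fin m → F) (hd : ∀ i, d i ≠ 0) (j : Fin m)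
    (hw : d j = cw σ d) : ∀ x ∈ Yset σ j, ⁅tO σ d, x⁆ ∈ Zsub m σ := by
  rintro x ⟨y, B, hQ, hy, rfl⟩
  obtain ⟨h1, h2⟩ := Cfsg.Agent.Helper57.PsuIo.tO_conj_qO hσ d hd hQ
  have hyc : (fun l => d l * y l * (cw σ d)⁻¹) = y := by
    funext l
    by_cases hl : l = j
    · subst hl
      rw [← hw, mul_comm (d l) (y l), mul_assoc, mul_inv_cancel₀ (hd l), mul_one]
    · rw [hy l hl]
      simp
  rw [hyc] at h1 h2
  have h3 := Cfsg.Agent.Helper55.PsuIo.qO_inv hσ hQ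
  have h4 := Cfsg.Agent.Helper55.PsuIo.QP_inv hσ hQ
  have h5 := Cfsg.Agent.Helper55.PsuIo.qO_mul hσ h1 h4
  have h6 := Cfsg.Agent.Helper55.PsuIo.QP_mul hσ h1 h4
  rw [add_neg_cancel] at h5 h6
  rw [commutatorElement_def, h2, h3, h5]
  exact (Cfsg.Agent.Helper80.PsuIo.mem_Zsub_iff hσ _).mpr ⟨_, (Cfsg.Agent.Helper80.PsuIo.QP_zero_left _).mp h6, rfl⟩

/-- `D (c E_ij) E = (d_i c e_j) E_ij` -/
theorem OW_diag_single (d e : Fin m → F) (i j : Fin m) (c : F) :
    Matrix.diagonal d * Matrix.single i j c * Matrix.diagonal e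
      = Matrix.single i j (d i * c * e j) := by
  ext a b
  rw [Matrix.mul_diagonal, Matrix.diagonal_mul, Matrix.single_apply, Matrix.single_apply]
  by_cases h : i = a ∧ j = b
  · obtain ⟨rfl, rfl⟩ := h
    simp
  · rw [if_neg h, if_neg h, mul_zero, zero_mul]

/-- conjugation by `tO σ d` fixes `qO σ 0 B` if `D B σ(D) = B` -/
theorem OW_fix_aux (hσ : ∀ x, σ (σ x) = x) (d : Fin m → F) (hd : ∀ i, d i ≠ 0)
    {B : Matrix (Fin m) (Fin m) F} (hB : B ∈ Ev.SkewH m σ)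
    (hDB : Matrix.diagonal d * B * Matrix.diagonal (fun i => σ (d i)) = B) :
    tO σ d * qO σ 0 B * (tO σ d)⁻¹ = qO σ 0 B := by
  have hQ : QP σ (0 : Fin m → F) B := (Cfsg.Agent.Helper80.PsuIo.QP_zero_left B).mpr hB
  obtain ⟨-, h2⟩ := Cfsg.Agent.Helper57.PsuIo.tO_conj_qO hσ d hd hQ
  have hy : (fun i => d i * (0 : Fin m → F) i * (cw σ d)⁻¹) = 0 := by
    funext i
    simp
  rw [hy, hDB] at h2
  exact h2

/-- (OW3) -/
theorem Xr_fixed (hσ : ∀ x, σ (σ x) = x) (d : Fin m → F) (hd : ∀ i, d i ≠ 0)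
    (r : Fin m × Fin m) (hw : d r.1 * σ (d r.2) = 1) :
    ∀ z ∈ Xr σ r, tO σ d * z * (tO σ d)⁻¹ = z := by
  -- the fixed points of the conjugation form a subgroup
  have hsub : ∀ S : Set (SUo m σ), (∀ z ∈ S, tO σ d * z * (tO σ d)⁻¹ = z) →
      ∀ z ∈ Subgroup.closure S, tO σ d * z * (tO σ d)⁻¹ = z := by
    intro S hS z hz
    have hle : Subgroup.closure S ≤ Subgroup.centralizer {tO σ d} := by
      rw [Subgroup.closure_le]
      intro s hs
      rw [SetLike.mem_coe, Subgroup.mem_centralizer_iff]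
      intro h hh
      rw [Set.mem_singleton_iff] at hh
      subst hh
      have h1 := hS s hs
      calc tO σ d * s = (tO σ d * s * (tO σ d)⁻¹) * tO σ d := by group
        _ = s * tO σ d := by rw [h1]
    have h2 := hle hz
    rw [Subgroup.mem_centralizer_iff] at h2
    have h3 := h2 (tO σ d) rfl
    rw [h3, mul_inv_cancel_right]
  intro z hz
  unfold Xr at hz
  split_ifs at hz with hr
  · -- long root subgroup
    unfold Ev.Xl at hz
    rw [MonoidHom.map_closure] at hz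
    refine hsub _ ?_ z hz
    rintro _ ⟨_, ⟨c, hc, rfl⟩, rfl⟩
    have hB := Cfsg.Agent.Helper55.PsuM.single_mem_SkewH (σ := σ) r.1 hc
    unfold Ev.zE
    rw [← Cfsg.Agent.Helper80.PsuIo.qO_zero_left hσ hB]
    apply OW_fix_aux hσ d hd hB
    rw [OW_diag_single]
    congr 1
    rw [← hr] at hw
    calc d r.1 * c * σ (d r.1) = (d r.1 * σ (d r.1)) * c := by ring
      _ = c := by rw [hw, one_mul]
  · -- short root subgroup
    refine hsub _ ?_ z hz
    rintro _ ⟨t, rfl⟩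
    have hB := Cfsg.Agent.Helper55.PsuM.single_sub_mem_SkewH hσ hr t
    unfold Ev.cE
    rw [← Cfsg.Agent.Helper80.PsuIo.qO_zero_left hσ hB]
    apply OW_fix_aux hσ d hd hB
    rw [Matrix.mul_sub, Matrix.sub_mul, OW_diag_single, OW_diag_single]
    have hw' : d r.2 * σ (d r.1) = 1 := by
      have h := congrArg σ hw
      rw [map_mul, hσ, map_one] at h
      rw [mul_comm]
      exact h
    congr 2
    · calc d r.1 * t * σ (d r.2) = (d r.1 * σ (d r.2)) * t := by ring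
        _ = t := by rw [hw, one_mul]
    · calc d r.2 * σ t * σ (d r.1) = (d r.2 * σ (d r.1)) * σ t := by ring
        _ = σ t := by rw [hw', one_mul]

end Cfsg.Agent.Helper15.PsuIo
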