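import Mathlib
import Cfsg.Agent.Helper77.Res.Defs
import Cfsg.Agent.S0120
import Cfsg.Agent.S0016
import Cfsg.Agent.Helper63.PGroup

/-!
# S5289 piece (D1), sub-piece (Q) of helper68's sub-farm: a `p`-group acts trivially on an invariant
section of order `p`
-/

set_option autoImplicit false

universe u

namespace Cfsg.Agent.Helper15.Res

open Subgroup Cfsg.Agent.Helper77.Res

variable {Ω : Type u} [Group Ω] {p : ℕ} [hp : Fact p.Prime]

/-- (Q) a `p`-group acts trivially on an invariant section of order `p`. -/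
theorem D1_Q (T : Subgroup Ω) [Finite T] (hT : IsPGroup p T) (X Y : Subgroup Ω) (hYX : Y ≤ X) (hXT : X ≤ T)
    (hXn : ∀ t ∈ T, ∀ x ∈ X, t * x * t⁻¹ ∈ X) (hYn : ∀ t ∈ T, ∀ y ∈ Y, t * y * t⁻¹ ∈ Y)
    (hcard : Nat.card X = p * Nat.card Y) : ∀ x ∈ X, ∀ t ∈ T, x * t * x⁻¹ * t⁻¹ ∈ Y := by
  classical
  intro x hx t ht
  have hYn' : (Y.subgroupOf T).Normal := by
    refine ⟨fun y hy s => ?_⟩
    rw [Subgroup.mem_subgroupOf] at hy ⊢
    have := hYn s.1 s.2 y.1 hy
    simpa using this
  have hXn' : (X.subgroupOf T).Normal := by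
    refine ⟨fun y hy s => ?_⟩
    rw [Subgroup.mem_subgroupOf] at hy ⊢
    have := hXn s.1 s.2 y.1 hy
    simpa using this
  have hYX' : Y.subgroupOf T ≤ X.subgroupOf T := by
    intro y hy
    rw [Subgroup.mem_subgroupOf] at hy ⊢
    exact hYX hy
  have hcX : Nat.card (X.subgroupOf T) = Nat.card X :=
    Nat.card_congr (Subgroup.subgroupOfEquivOfLe hXT).toEquiv
  have hcY : Nat.card (Y.subgroupOf T) = Nat.card Y :=
    Nat.card_congr (Subgroup.subgroupOfEquivOfLe (hYX.trans hXT)).toEquiv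
  set π : T →* T ⧸ Y.subgroupOf T := QuotientGroup.mk' (Y.subgroupOf T) with hπ
  have hsurj : Function.Surjective π := QuotientGroup.mk'_surjective _
  set N : Subgroup (T ⧸ Y.subgroupOf T) := (X.subgroupOf T).map π with hN
  have hNn : N.Normal := Subgroup.Normal.map hXn' π hsurj
  have hQ : IsPGroup p (T ⧸ Y.subgroupOf T) := hT.to_quotient _
  -- the order of `N`
  have hcomap : N.comap π = X.subgroupOf T := by
    rw [hN, Subgroup.comap_map_eq, hπ, QuotientGroup.ker_mk', sup_eq_left.2 hYX']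
  have hidx : N.index = (X.subgroupOf T).index := by
    rw [← hcomap, Subgroup.index_comap_of_surjective _ hsurj]
  have h1 : Nat.card T = Nat.card (T ⧸ Y.subgroupOf T) * Nat.card (Y.subgroupOf T) :=
    Subgroup.card_eq_card_quotient_mul_card_subgroup _
  have h2 : Nat.card T = (X.subgroupOf T).index * Nat.card (X.subgroupOf T) :=
    ((X.subgroupOf T).index_mul_card).symm
  have h3 : Nat.card (T ⧸ Y.subgroupOf T) = N.index * Nat.card N := (N.index_mul_card).symm
  have hYfin : Finite Y :=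
    Finite.of_injective (Subgroup.inclusion (hYX.trans hXT)) (Subgroup.inclusion_injective _)
  have hYpos : 0 < Nat.card Y := Nat.card_pos
  have hidxpos : 0 < (X.subgroupOf T).index := by
    have : (X.subgroupOf T).index ≠ 0 := Subgroup.index_ne_zero_of_finite
    omega
  have hcardN : Nat.card N = p := by
    have e : (X.subgroupOf T).index * (Nat.card N * Nat.card Y) =
        (X.subgroupOf T).index * (p * Nat.card Y) := by
      calc (X.subgroupOf T).index * (Nat.card N * Nat.card Y)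
          = (N.index * Nat.card N) * Nat.card (Y.subgroupOf T) := by rw [hidx, hcY]; ring
        _ = Nat.card T := by rw [← h3, ← h1]
        _ = (X.subgroupOf T).index * Nat.card (X.subgroupOf T) := h2
        _ = (X.subgroupOf T).index * (p * Nat.card Y) := by rw [hcX, hcard]
    have e2 := Nat.eq_of_mul_eq_mul_left hidxpos e
    exact Nat.eq_of_mul_eq_mul_right hYpos e2
  have hcen : N ≤ Subgroup.center (T ⧸ Y.subgroupOf T) :=
    Cfsg.Agent.Helper63.le_center_of_normal_of_card_eq_prime hQ N hcardN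
  -- conclusion
  have hxN : π ⟨x, hXT hx⟩ ∈ N := by
    rw [hN]
    refine Subgroup.mem_map_of_mem π ?_
    rw [Subgroup.mem_subgroupOf]
    exact hx
  have hc := Subgroup.mem_center_iff.1 (hcen hxN) (π ⟨t, ht⟩)
  -- `hc : π t * π x = π x * π t`
  have hone : π (⟨x, hXT hx⟩ * ⟨t, ht⟩ * (⟨x, hXT hx⟩ : T)⁻¹ * (⟨t, ht⟩ : T)⁻¹) = 1 := by
    rw [map_mul, map_mul, map_mul, map_inv, map_inv, ← hc]
    group
  have hker : (⟨x, hXT hx⟩ * ⟨t, ht⟩ * (⟨x, hXT hx⟩ : T)⁻¹ * (⟨t, ht⟩ : T)⁻¹ : T) ∈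
      Y.subgroupOf T := by
    rw [← QuotientGroup.ker_mk' (Y.subgroupOf T)]
    exact hone
  rw [Subgroup.mem_subgroupOf] at hker
  simpa using hker

end Cfsg.Agent.Helper15.Res
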