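import Cfsg.Agent.Helper15.TIInvDefs
import Cfsg.Agent.Helper80.TIInvP1
import Cfsg.Agent.Helper79.ClassMult
import Cfsg.Agent.Helper15.CliffordCorr

/-!
# S4018: order formula and class-sum identity for the configuration `TICfg` (helper15)
-/

set_option autoImplicit false

namespace Cfsg.Agent.Helper15.TIInv

open Cfsg
open scoped ComplexConjugate

universe u

variable {G : Type u} [Group G] [Fintype G] {C : Subgroup G} [Fintype C] {z t : G} {m : ℕ}

/-- The order of `G` is `4m(4m² - 2m + 1)`. -/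
theorem card_eq (h : TICfg C z t m) :
    (Nat.card G : ℤ) = 4 * m * (4 * (m : ℤ) ^ 2 - 2 * m + 1) := by
  have h1 := Cfsg.Agent.Helper80.TIInv.pair_sum h (fun _ => (1 : ℂ)) (fun _ _ => rfl)
  simp only [Finset.sum_const, Finset.card_univ, nsmul_eq_mul, mul_one] at h1
  have hC : (Fintype.card C : ℂ) = 2 * m := by
    rw [← Nat.card_eq_fintype_card, h.card]; push_cast; ring
  have hG : (Fintype.card G : ℂ) = (Nat.card G : ℂ) := by rw [Nat.card_eq_fintype_card]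
  rw [hC, hG] at h1
  have hG0 : (Nat.card G : ℂ) ≠ 0 := by exact_mod_cast Nat.card_pos.ne'
  have h2 : (Nat.card G : ℂ) = 4 * m * (4 * (m : ℂ) ^ 2 - 2 * m + 1) := by
    have h3 : (Nat.card G : ℂ) * (Nat.card G : ℂ)
        = (Nat.card G : ℂ) * (4 * m * (4 * (m : ℂ) ^ 2 - 2 * m + 1)) := by
      rw [h1]; ring
    exact mul_left_cancel₀ hG0 h3
  exact_mod_cast h2

/-- The class-sum identity for the involution `z` and an irreducible character. -/
theorem class_identity (h : TICfg C z t m) (χ : IrrCharacter G) :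
    (Nat.card G : ℂ) * ((χ : G → ℂ) z) ^ 2 =
      4 * (m : ℂ) * (χ : G → ℂ) 1 *
        ((χ : G → ℂ) 1 + 2 * (m : ℂ) * ((∑ x : C, (χ : G → ℂ) (x : G)) - (χ : G → ℂ) 1)) := by
  have h1 := Cfsg.Agent.Helper80.TIInv.pair_sum h (χ : G → ℂ)
    (fun g x => Cfsg.Agent.Helper79.irr_isClassFunction χ x g)
  have h2 := Cfsg.Agent.Helper79.irr_sum_sum_conj_mul χ z z 1
  simp only [mul_one] at h2
  rw [h1] at h2
  obtain ⟨d, hdpos, hd⟩ := Cfsg.Agent.Helper15.irr_degree_pos χ.2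
  have hd0 : (χ : G → ℂ) 1 ≠ 0 := by
    rw [hd]; exact_mod_cast hdpos.ne'
  have hG0 : (Nat.card G : ℂ) ≠ 0 := by exact_mod_cast Nat.card_pos.ne'
  have h3 : (Nat.card G : ℂ) * ((Nat.card G : ℂ) * ((χ : G → ℂ) z) ^ 2)
      = (Nat.card G : ℂ) * (4 * (m : ℂ) * (χ : G → ℂ) 1 *
        ((χ : G → ℂ) 1 + 2 * (m : ℂ) * ((∑ x : C, (χ : G → ℂ) (x : G)) - (χ : G → ℂ) 1))) := by
    have h4 : (Nat.card G : ℂ) ^ 2 * (χ : G → ℂ) z * (χ : G → ℂ) z * (χ : G → ℂ) 1
        / ((χ : G → ℂ) 1) ^ 2 * (χ : G → ℂ) 1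
        = (Nat.card G : ℂ) * ((Nat.card G : ℂ) * ((χ : G → ℂ) z) ^ 2) := by
      field_simp
    rw [← h4, ← h2]
    ring
  exact mul_left_cancel₀ hG0 h3

end Cfsg.Agent.Helper15.TIInv
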