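import Mathlib
import Cfsg.Prelude.Def_LieExceptional
import Cfsg.Agent.Helper60.Zassenhaus

set_option autoImplicit false

/-!
# Counting in Zassenhaus groups

Order formula, Burnside-type sums of fixed-point counts, number of fixed-point-free elements.
-/

namespace Cfsg.Agent.Helper15.Zass

open MulAction
open Cfsg.Agent.Helper60.Zassenhaus

variable {G Ω : Type*} [Group G] [MulAction G Ω]

/-- The elements mapping `(a, b)` to `(c, d)` form a coset of the two-point stabilizer. -/
def fibreEquiv {a b c d : Ω} (x : G) (hxa : x • a = c) (hxb : x • b = d) :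
    ↥(stabilizer G a ⊓ stabilizer G b) ≃ {g : G // g • a = c ∧ g • b = d} where
  toFun y := ⟨x * y, by
    have h1 : (y : G) • a = a := y.2.1
    have h2 : (y : G) • b = b := y.2.2
    rw [mul_smul, mul_smul, h1, h2]; exact ⟨hxa, hxb⟩⟩
  invFun g := ⟨x⁻¹ * g, by
    constructor
    · show (x⁻¹ * (g : G)) • a = a
      rw [mul_smul, g.2.1, ← hxa, inv_smul_smul]
    · show (x⁻¹ * (g : G)) • b = b
      rw [mul_smul, g.2.2, ← hxb, inv_smul_smul]⟩
  left_inv y := by
    apply Subtype.ext
    show x⁻¹ * (x * (y : G)) = y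
    group
  right_inv g := by
    apply Subtype.ext
    show x * (x⁻¹ * (g : G)) = g
    group

/-- Two-point stabilizers are conjugate. -/
def stabConjEquiv {a b c d : Ω} (x : G) (hxa : x • a = c) (hxb : x • b = d) :
    ↥(stabilizer G a ⊓ stabilizer G b) ≃ ↥(stabilizer G c ⊓ stabilizer G d) where
  toFun y := ⟨x * y * x⁻¹, by
    have h1 : (y : G) • a = a := y.2.1
    have h2 : (y : G) • b = b := y.2.2
    constructor
    · show (x * (y : G) * x⁻¹) • c = c
      rw [mul_smul, mul_smul, ← hxa, inv_smul_smul, h1]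
    · show (x * (y : G) * x⁻¹) • d = d
      rw [mul_smul, mul_smul, ← hxb, inv_smul_smul, h2]⟩
  invFun y := ⟨x⁻¹ * y * x, by
    have h1 : (y : G) • c = c := y.2.1
    have h2 : (y : G) • d = d := y.2.2
    constructor
    · show (x⁻¹ * (y : G) * x) • a = a
      rw [mul_smul, mul_smul, hxa, h1, ← hxa, inv_smul_smul]
    · show (x⁻¹ * (y : G) * x) • b = b
      rw [mul_smul, mul_smul, hxb, h2, ← hxb, inv_smul_smul]⟩
  left_inv y := by
    apply Subtype.ext
    show x⁻¹ * (x * (y : G) * x⁻¹) * x = y
    group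
  right_inv y := by
    apply Subtype.ext
    show x * (x⁻¹ * (y : G) * x) * x⁻¹ = y
    group

theorem card_stab2_eq (h2 : IsMultiplyPretransitive G Ω 2) {a b c d : Ω} (hab : a ≠ b)
    (hcd : c ≠ d) :
    Nat.card ↥(stabilizer G c ⊓ stabilizer G d) = Nat.card ↥(stabilizer G a ⊓ stabilizer G b) := by
  obtain ⟨x, hxa, hxb⟩ := exists_map2 h2 hab hcd
  exact (Nat.card_congr (stabConjEquiv x hxa hxb)).symm

theorem card_fibre (h2 : IsMultiplyPretransitive G Ω 2) {a b c d : Ω} (hab : a ≠ b)
    (hcd : c ≠ d) :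
    Nat.card {g : G // g • a = c ∧ g • b = d} = Nat.card ↥(stabilizer G a ⊓ stabilizer G b) := by
  obtain ⟨x, hxa, hxb⟩ := exists_map2 h2 hab hcd
  exact (Nat.card_congr (fibreEquiv x hxa hxb)).symm

section counting

variable [Fintype G] [Fintype Ω]

open Classical in
/-- The order of a doubly transitive group. -/
theorem card_group_eq (h2 : IsMultiplyPretransitive G Ω 2) {a b : Ω} (hab : a ≠ b) :
    Nat.card G = (Fintype.card Ω * Fintype.card Ω - Fintype.card Ω) *
      Nat.card ↥(stabilizer G a ⊓ stabilizer G b) := by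
  have key := Finset.sum_card_bipartiteAbove_eq_sum_card_bipartiteBelow
    (s := (Finset.univ : Finset G)) (t := (Finset.univ : Finset Ω).offDiag)
    (fun (g : G) (p : Ω × Ω) => g • a = p.1 ∧ g • b = p.2)
  have h1 : ∀ g ∈ (Finset.univ : Finset G),
      ((Finset.univ : Finset Ω).offDiag.bipartiteAbove
        (fun (g : G) (p : Ω × Ω) => g • a = p.1 ∧ g • b = p.2) g).card = 1 := by
    intro g _
    rw [Finset.card_eq_one]
    refine ⟨(g • a, g • b), ?_⟩
    ext p
    simp only [Finset.bipartiteAbove, Finset.mem_filter, Finset.mem_offDiag, Finset.mem_univ,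
      true_and, Finset.mem_singleton]
    constructor
    · rintro ⟨-, h1, h2⟩
      exact Prod.ext h1.symm h2.symm
    · rintro rfl
      exact ⟨fun h => hab (MulAction.injective g h), rfl, rfl⟩
  have h2' : ∀ p ∈ (Finset.univ : Finset Ω).offDiag,
      ((Finset.univ : Finset G).bipartiteBelow
        (fun (g : G) (p : Ω × Ω) => g • a = p.1 ∧ g • b = p.2) p).card =
        Nat.card ↥(stabilizer G a ⊓ stabilizer G b) := by
    intro p hp
    have hp' : p.1 ≠ p.2 := (Finset.mem_offDiag.mp hp).2.2
    rw [← card_fibre h2 hab hp', Nat.card_eq_fintype_card, Fintype.card_subtype]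
    rfl
  rw [Finset.sum_congr rfl h1, Finset.sum_congr rfl h2', Finset.sum_const, Finset.sum_const,
    Finset.card_univ, Finset.offDiag_card, Finset.card_univ, smul_eq_mul, smul_eq_mul, mul_one] at key
  rw [Nat.card_eq_fintype_card, key]

open Classical in
/-- The number of fixed points of `g`. -/
noncomputable def fx (g : G) : ℕ := (Finset.univ.filter (fun c : Ω => g • c = c)).card

open Classical in
theorem fx_def (g : G) : fx (Ω := Ω) g = (Finset.univ.filter (fun c : Ω => g • c = c)).card := rfl

theorem fx_one : fx (Ω := Ω) (1 : G) = Fintype.card Ω := by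
  classical
  rw [fx_def]
  simp

theorem fx_le_two
    (h3 : ∀ g : G, ∀ a b c : Ω, a ≠ b → b ≠ c → a ≠ c → g • a = a → g • b = b → g • c = c → g = 1)
    {g : G} (hg : g ≠ 1) : fx (Ω := Ω) g ≤ 2 := by
  classical
  by_contra hcon
  push Not at hcon
  rw [fx_def, Finset.two_lt_card] at hcon
  obtain ⟨a, ha, b, hb, c, hc, hab, hac, hbc⟩ := hcon
  simp only [Finset.mem_filter, Finset.mem_univ, true_and] at ha hb hc
  exact hg (h3 g a b c hab hbc hac ha hb hc)

theorem fx_eq_zero_iff (g : G) : fx (Ω := Ω) g = 0 ↔ ∀ c : Ω, g • c ≠ c := by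
  classical
  rw [fx_def, Finset.card_eq_zero, Finset.filter_eq_empty_iff]
  simp

/-- Burnside's lemma for a transitive action. -/
theorem sum_fx [IsPretransitive G Ω] [Nonempty Ω] : ∑ g : G, fx (Ω := Ω) g = Nat.card G := by
  classical
  have key := Finset.sum_card_bipartiteAbove_eq_sum_card_bipartiteBelow
    (s := (Finset.univ : Finset G)) (t := (Finset.univ : Finset Ω))
    (fun (g : G) (c : Ω) => g • c = c)
  have h1 : ∀ g ∈ (Finset.univ : Finset G),
      ((Finset.univ : Finset Ω).bipartiteAbove (fun (g : G) (c : Ω) => g • c = c) g).card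
        = fx (Ω := Ω) g := by
    intro g _
    rfl
  have h2 : ∀ c ∈ (Finset.univ : Finset Ω),
      ((Finset.univ : Finset G).bipartiteBelow (fun (g : G) (c : Ω) => g • c = c) c).card
        * Fintype.card Ω = Nat.card G := by
    intro c _
    have e1 : ((Finset.univ : Finset G).bipartiteBelow (fun (g : G) (c : Ω) => g • c = c) c).card
        = Nat.card ↥(stabilizer G c) := by
      rw [Nat.card_eq_fintype_card, Fintype.card_subtype]
      rfl
    rw [e1, ← Nat.card_eq_fintype_card (α := Ω), ← index_stabilizer_of_transitive G c,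
      Subgroup.card_mul_index]
  rw [Finset.sum_congr rfl h1] at key
  rw [key]
  have hn : 0 < Fintype.card Ω := Fintype.card_pos
  apply Nat.eq_of_mul_eq_mul_right hn
  rw [Finset.sum_mul, Finset.sum_congr rfl h2, Finset.sum_const, Finset.card_univ, smul_eq_mul,
    mul_comm]

/-- The second moment of the fixed-point count for a doubly transitive action. -/
theorem sum_fx_sq (h2 : IsMultiplyPretransitive G Ω 2) {a b : Ω} (hab : a ≠ b) :
    ∑ g : G, (fx (Ω := Ω) g * fx (Ω := Ω) g - fx (Ω := Ω) g) =
      (Fintype.card Ω * Fintype.card Ω - Fintype.card Ω) *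
        Nat.card ↥(stabilizer G a ⊓ stabilizer G b) := by
  classical
  have key := Finset.sum_card_bipartiteAbove_eq_sum_card_bipartiteBelow
    (s := (Finset.univ : Finset G)) (t := (Finset.univ : Finset Ω).offDiag)
    (fun (g : G) (p : Ω × Ω) => g • p.1 = p.1 ∧ g • p.2 = p.2)
  have h1 : ∀ g ∈ (Finset.univ : Finset G),
      ((Finset.univ : Finset Ω).offDiag.bipartiteAbove
        (fun (g : G) (p : Ω × Ω) => g • p.1 = p.1 ∧ g • p.2 = p.2) g).card
        = fx (Ω := Ω) g * fx (Ω := Ω) g - fx (Ω := Ω) g := by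
    intro g _
    rw [fx_def, ← Finset.offDiag_card]
    congr 1
    ext p
    simp only [Finset.bipartiteAbove, Finset.mem_filter, Finset.mem_offDiag, Finset.mem_univ,
      true_and]
    tauto
  have h2' : ∀ p ∈ (Finset.univ : Finset Ω).offDiag,
      ((Finset.univ : Finset G).bipartiteBelow
        (fun (g : G) (p : Ω × Ω) => g • p.1 = p.1 ∧ g • p.2 = p.2) p).card =
        Nat.card ↥(stabilizer G a ⊓ stabilizer G b) := by
    intro p hp
    have hp' : p.1 ≠ p.2 := (Finset.mem_offDiag.mp hp).2.2
    rw [← card_stab2_eq h2 hab hp', Nat.card_eq_fintype_card, Fintype.card_subtype]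
    congr 1
    ext g
    simp [Finset.bipartiteBelow, Subgroup.mem_inf, mem_stabilizer_iff]
  rw [Finset.sum_congr rfl h1, Finset.sum_congr rfl h2', Finset.sum_const,
    Finset.offDiag_card, Finset.card_univ, smul_eq_mul] at key
  exact key

/-- The number of fixed-point-free elements of a Zassenhaus group. -/
theorem two_mul_card_fpf (hZ : Cfsg.IsZassenhausGroup G Ω) {a b : Ω} (hab : a ≠ b) :
    2 * Nat.card {g : G // ∀ c : Ω, g • c ≠ c} + (Fintype.card Ω - 1) * (Fintype.card Ω - 2) =
      (Fintype.card Ω * Fintype.card Ω - Fintype.card Ω) *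
        Nat.card ↥(stabilizer G a ⊓ stabilizer G b) := by
  classical
  have hn := three_le_card hZ
  obtain ⟨-, h2, h3, -, -⟩ := hZ
  have : Nonempty Ω := ⟨a⟩
  have : IsPretransitive G Ω := isPretransitive_of_is_two_pretransitive (h2 := h2)
  have hS1 := sum_fx (G := G) (Ω := Ω)
  have hS2 := sum_fx_sq (G := G) (Ω := Ω) h2 hab
  have hpt : ∀ g : G, (fx (Ω := Ω) g * fx (Ω := Ω) g - fx (Ω := Ω) g) + 2 =
      2 * fx (Ω := Ω) g + 2 * (if (∀ c : Ω, g • c ≠ c) then 1 else 0) +
        (if g = 1 then (Fintype.card Ω - 1) * (Fintype.card Ω - 2) else 0) := by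
    intro g
    by_cases hg : g = 1
    · subst hg
      rw [if_pos rfl, fx_one, if_neg]
      · obtain ⟨m, hm⟩ : ∃ m, Fintype.card Ω = m + 3 := ⟨Fintype.card Ω - 3, by omega⟩
        rw [hm]
        have e1 : (m + 3) * (m + 3) - (m + 3) = (m + 3) * (m + 2) := by
          rw [Nat.sub_eq_iff_eq_add (Nat.le_mul_self _)]; ring
        rw [e1, show m + 3 - 1 = m + 2 by omega, show m + 3 - 2 = m + 1 by omega]
        ring
      · push Not
        exact ⟨a, one_smul G a⟩
    · rw [if_neg hg, add_zero]
      have hle := fx_le_two (Ω := Ω) h3 hg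
      have hz := fx_eq_zero_iff (Ω := Ω) g
      by_cases h0 : ∀ c : Ω, g • c ≠ c
      · rw [if_pos h0, hz.mpr h0]
      · rw [if_neg h0]
        have hne : fx (Ω := Ω) g ≠ 0 := fun h => h0 (hz.mp h)
        interval_cases h : fx (Ω := Ω) g
        · exact absurd rfl hne
        · rfl
        · rfl
  have hsum := Finset.sum_congr (s₁ := (Finset.univ : Finset G)) rfl (fun g _ => hpt g)
  rw [Finset.sum_add_distrib, Finset.sum_add_distrib, Finset.sum_add_distrib, ← Finset.mul_sum,
    ← Finset.mul_sum, hS1, hS2, Finset.sum_ite_eq' Finset.univ (1 : G), if_pos (Finset.mem_univ _),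
    Finset.sum_const, Finset.card_univ, smul_eq_mul, Finset.sum_boole] at hsum
  have hF : Nat.card {g : G // ∀ c : Ω, g • c ≠ c} =
      (Finset.univ.filter (fun g : G => ∀ c : Ω, g • c ≠ c)).card := by
    rw [Nat.card_eq_fintype_card, Fintype.card_subtype]
  rw [hF]
  have hG : Fintype.card G = Nat.card G := (Nat.card_eq_fintype_card).symm
  rw [hG] at hsum
  simp only [Nat.cast_id] at hsum
  omega

end counting

end Cfsg.Agent.Helper15.Zass
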