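import Mathlib
import Cfsg.Agent.S0739
import Cfsg.Agent.Helper15.ZassCount

set_option autoImplicit false

/-!
# Involutions in simple Zassenhaus groups with odd two-point stabilizers
-/

namespace Cfsg.Agent.Helper15.Zass

open MulAction
open Cfsg.Agent.Helper60.Zassenhaus

variable {G Ω : Type*} [Group G] [MulAction G Ω]

/-- A simple Zassenhaus group has no normal `q`-complements. -/
theorem hnil_of_simple [Finite G] [Fintype Ω] (hZ : Cfsg.IsZassenhausGroup G Ω)
    [IsSimpleGroup G] {a b : Ω} (hab : a ≠ b) :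
    ∀ q : ℕ, q.Prime → q ∣ Nat.card ↥(stabilizer G a ⊓ stabilizer G b) →
      ¬ ∃ N : Subgroup G, N.Normal ∧ N.index = q ^ (Nat.card G).factorization q := by
  classical
  have := Fintype.ofFinite G
  rintro q hq hqe ⟨N, hN, hidx⟩
  have hn := three_le_card hZ
  have hG := card_group_eq hZ.2.1 hab
  have hqG : q ∣ Nat.card G :=
    dvd_trans hqe (Subgroup.card_subgroup_dvd_card _)
  have hpos : 0 < (Nat.card G).factorization q :=
    hq.factorization_pos_of_dvd Nat.card_pos.ne' hqG
  generalize (Nat.card G).factorization q = v at hidx hpos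
  rcases hN.eq_bot_or_eq_top with h | h
  · rw [h, Subgroup.index_bot, hG] at hidx
    obtain ⟨m, hm⟩ : ∃ m, Fintype.card Ω = m + 3 := ⟨Fintype.card Ω - 3, by omega⟩
    have e1 : (m + 3) * (m + 3) - (m + 3) = (m + 3) * (m + 2) := by
      rw [Nat.sub_eq_iff_eq_add (Nat.le_mul_self _)]; ring
    rw [hm, e1] at hidx
    have d1 : (m + 3) ∣ q ^ v := by
      rw [← hidx]; exact ⟨(m + 2) * Nat.card ↥(stabilizer G a ⊓ stabilizer G b), by ring⟩
    have d2 : (m + 2) ∣ q ^ v := by
      rw [← hidx]; exact ⟨(m + 3) * Nat.card ↥(stabilizer G a ⊓ stabilizer G b), by ring⟩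
    obtain ⟨i, -, hi⟩ := (Nat.dvd_prime_pow hq).mp d1
    obtain ⟨j, -, hj⟩ := (Nat.dvd_prime_pow hq).mp d2
    have hi0 : i ≠ 0 := by rintro rfl; simp at hi
    have hj0 : j ≠ 0 := by rintro rfl; simp at hj
    have q1 : q ∣ m + 3 := by rw [hi]; exact dvd_pow_self q hi0
    have q2 : q ∣ m + 2 := by rw [hj]; exact dvd_pow_self q hj0
    have q3 : q ∣ 1 := by
      have := Nat.dvd_sub q1 q2
      rwa [show m + 3 - (m + 2) = 1 by omega] at this
    exact hq.one_lt.ne' (Nat.dvd_one.mp q3)
  · rw [h, Subgroup.index_top] at hidx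
    have : 1 < q ^ v := Nat.one_lt_pow hpos.ne' hq.one_lt
    omega

/-- In a simple Zassenhaus group with two-point stabilizers of odd order, every element
interchanging two points inverts their stabilizer. -/
theorem swap_inverts [Finite G] [Fintype Ω] (hZ : Cfsg.IsZassenhausGroup G Ω)
    [IsSimpleGroup G] {a b : Ω} (hab : a ≠ b)
    (hodd : Odd (Nat.card ↥(stabilizer G a ⊓ stabilizer G b))) {c d : Ω} (hcd : c ≠ d)
    {s : G} (hsc : s • c = d) (hsd : s • d = c) {y : G} (hyc : y • c = c) (hyd : y • d = d) :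
    s * y * s⁻¹ = y⁻¹ := by
  have hodd' : Odd (Nat.card ↥(stabilizer G c ⊓ stabilizer G d)) := by
    rw [card_stab2_eq hZ.2.1 hab hcd]; exact hodd
  exact (Cfsg.Agent.S0739.result hZ hcd hodd' (hnil_of_simple hZ hcd)).2.2 s hsc hsd y
    ⟨hyc, hyd⟩

/-- Elements of odd-order two-point stabilizers of order dividing `2` are trivial. -/
theorem eq_one_of_sq_of_fix [Finite G] (h2 : IsMultiplyPretransitive G Ω 2) {a b : Ω}
    (hab : a ≠ b) (hodd : Odd (Nat.card ↥(stabilizer G a ⊓ stabilizer G b))) {c d : Ω}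
    (hcd : c ≠ d) {y : G} (hyc : y • c = c) (hyd : y • d = d) (hyy : y * y = 1) : y = 1 := by
  have hodd' : Odd (Nat.card ↥(stabilizer G c ⊓ stabilizer G d)) := by
    rw [card_stab2_eq h2 hab hcd]; exact hodd
  have h1 : orderOf y ∣ Nat.card ↥(stabilizer G c ⊓ stabilizer G d) :=
    Subgroup.orderOf_dvd_natCard _ (⟨hyc, hyd⟩ : y ∈ stabilizer G c ⊓ stabilizer G d)
  have h2' : orderOf y ∣ 2 := orderOf_dvd_of_pow_eq_one (by rw [pow_two]; exact hyy)
  have h3 : orderOf y ∣ 1 := by
    have := Nat.dvd_gcd h2' h1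
    rwa [Nat.Coprime.gcd_eq_one (Nat.coprime_two_left.mpr hodd')] at this
  exact orderOf_eq_one_iff.mp (Nat.dvd_one.mp h3)

/-- Every element interchanging two points is an involution. -/
theorem swap_sq [Finite G] [Fintype Ω] (hZ : Cfsg.IsZassenhausGroup G Ω)
    [IsSimpleGroup G] {a b : Ω} (hab : a ≠ b)
    (hodd : Odd (Nat.card ↥(stabilizer G a ⊓ stabilizer G b))) {c d : Ω} (hcd : c ≠ d)
    {s : G} (hsc : s • c = d) (hsd : s • d = c) : s * s = 1 := by
  have hc : (s * s) • c = c := by rw [mul_smul, hsc, hsd]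
  have hd : (s * s) • d = d := by rw [mul_smul, hsd, hsc]
  have h1 := swap_inverts hZ hab hodd hcd hsc hsd hc hd
  have h2 : s * (s * s) * s⁻¹ = s * s := by group
  rw [h2] at h1
  apply eq_one_of_sq_of_fix hZ.2.1 hab hodd hcd hc hd
  calc s * s * (s * s) = s * s * (s * s)⁻¹ := by rw [← h1]
    _ = 1 := mul_inv_cancel _

theorem orderOf_swap [Finite G] [Fintype Ω] (hZ : Cfsg.IsZassenhausGroup G Ω)
    [IsSimpleGroup G] {a b : Ω} (hab : a ≠ b)
    (hodd : Odd (Nat.card ↥(stabilizer G a ⊓ stabilizer G b))) {c d : Ω} (hcd : c ≠ d)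
    {s : G} (hsc : s • c = d) (hsd : s • d = c) : orderOf s = 2 := by
  have h1 := swap_sq hZ hab hodd hcd hsc hsd
  have hs1 : s ≠ 1 := by
    rintro rfl
    rw [one_smul] at hsc
    exact hcd hsc
  exact orderOf_eq_prime (by rw [pow_two]; exact h1) hs1

section inv

variable [Fintype G] [Fintype Ω]

/-- The number of fixed points of an involution is congruent to the degree mod `2`. -/
theorem fx_modEq_of_sq {t : G} (htt : t * t = 1) :
    fx (Ω := Ω) t ≡ Fintype.card Ω [MOD 2] := by
  classical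
  have : Fact (Nat.Prime 2) := ⟨Nat.prime_two⟩
  have hσ : (MulAction.toPerm t : Equiv.Perm Ω) ^ 2 ^ 1 = 1 := by
    ext a
    simp [pow_two, ← mul_smul, htt]
  have := Equiv.Perm.card_compl_support_modEq hσ
  rw [fx_def]
  convert this using 2
  ext a
  simp [Equiv.Perm.mem_support]

/-- An involution in a Zassenhaus group with odd two-point stabilizers has `n mod 2` fixed
points. -/
theorem fx_involution (h2 : IsMultiplyPretransitive G Ω 2) {a b : Ω}
    (hab : a ≠ b) (hodd : Odd (Nat.card ↥(stabilizer G a ⊓ stabilizer G b))) {t : G}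
    (ht : orderOf t = 2) : fx (Ω := Ω) t = Fintype.card Ω % 2 := by
  classical
  have htt : t * t = 1 := by
    rw [← pow_two, ← ht]; exact pow_orderOf_eq_one t
  have ht1 : t ≠ 1 := by
    rintro rfl
    rw [orderOf_one] at ht
    omega
  have hle : fx (Ω := Ω) t ≤ 1 := by
    by_contra hcon
    push Not at hcon
    rw [fx_def, Finset.one_lt_card] at hcon
    obtain ⟨c, hc, d, hd, hcd⟩ := hcon
    simp only [Finset.mem_filter, Finset.mem_univ, true_and] at hc hd
    exact ht1 (eq_one_of_sq_of_fix h2 hab hodd hcd hc hd htt)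
  have hmod := fx_modEq_of_sq (Ω := Ω) htt
  unfold Nat.ModEq at hmod
  omega

/-- Counting involutions in a simple Zassenhaus group with odd two-point stabilizers. -/
theorem card_involutions_mul (hZ : Cfsg.IsZassenhausGroup G Ω) [IsSimpleGroup G] {a b : Ω}
    (hab : a ≠ b) (hodd : Odd (Nat.card ↥(stabilizer G a ⊓ stabilizer G b))) :
    Nat.card {x : G // orderOf x = 2} * (Fintype.card Ω - Fintype.card Ω % 2) =
      (Fintype.card Ω * Fintype.card Ω - Fintype.card Ω) *
        Nat.card ↥(stabilizer G a ⊓ stabilizer G b) := by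
  classical
  have h2 := hZ.2.1
  have key := Finset.sum_card_bipartiteAbove_eq_sum_card_bipartiteBelow
    (s := (Finset.univ : Finset G)) (t := (Finset.univ : Finset Ω).offDiag)
    (fun (g : G) (p : Ω × Ω) => g • p.1 = p.2 ∧ g • p.2 = p.1)
  have h1 : ∀ g ∈ (Finset.univ : Finset G),
      ((Finset.univ : Finset Ω).offDiag.bipartiteAbove
        (fun (g : G) (p : Ω × Ω) => g • p.1 = p.2 ∧ g • p.2 = p.1) g).card
        = if orderOf g = 2 then (Fintype.card Ω - Fintype.card Ω % 2) else 0 := by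
    intro g _
    by_cases hg : orderOf g = 2
    · rw [if_pos hg, ← fx_involution (Ω := Ω) h2 hab hodd hg, fx_def]
      have hgg : g * g = 1 := by
        rw [← pow_two, ← hg]; exact pow_orderOf_eq_one g
      have e1 : (Finset.univ : Finset Ω).offDiag.bipartiteAbove
          (fun (g : G) (p : Ω × Ω) => g • p.1 = p.2 ∧ g • p.2 = p.1) g =
          (Finset.univ.filter (fun c : Ω => ¬ g • c = c)).image (fun c => (c, g • c)) := by
        ext p
        simp only [Finset.bipartiteAbove, Finset.mem_filter, Finset.mem_offDiag, Finset.mem_univ,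
          true_and, Finset.mem_image]
        constructor
        · rintro ⟨hne, h1, h2⟩
          refine ⟨p.1, ?_, Prod.ext rfl h1⟩
          rw [h1]; exact Ne.symm hne
        · rintro ⟨c, hc, rfl⟩
          refine ⟨Ne.symm hc, rfl, ?_⟩
          show g • g • c = c
          rw [← mul_smul, hgg, one_smul]
      rw [e1, Finset.card_image_of_injective _ (fun c c' h => congrArg Prod.fst h)]
      have := Finset.card_filter_add_card_filter_not (s := (Finset.univ : Finset Ω))
        (fun c : Ω => g • c = c)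
      rw [Finset.card_univ] at this
      omega
    · rw [if_neg hg, Finset.card_eq_zero, Finset.eq_empty_iff_forall_notMem]
      intro p hp
      simp only [Finset.bipartiteAbove, Finset.mem_filter, Finset.mem_offDiag, Finset.mem_univ,
        true_and] at hp
      exact hg (orderOf_swap hZ hab hodd hp.1 hp.2.1 hp.2.2)
  have h2' : ∀ p ∈ (Finset.univ : Finset Ω).offDiag,
      ((Finset.univ : Finset G).bipartiteBelow
        (fun (g : G) (p : Ω × Ω) => g • p.1 = p.2 ∧ g • p.2 = p.1) p).card =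
        Nat.card ↥(stabilizer G a ⊓ stabilizer G b) := by
    intro p hp
    have hp' : p.1 ≠ p.2 := (Finset.mem_offDiag.mp hp).2.2
    rw [← card_stab2_eq h2 hab hp', ← card_fibre h2 hp' hp'.symm, Nat.card_eq_fintype_card,
      Fintype.card_subtype]
    rfl
  rw [Finset.sum_congr rfl h1, Finset.sum_congr rfl h2', Finset.sum_const,
    Finset.offDiag_card, Finset.card_univ, smul_eq_mul, ← Finset.sum_filter, Finset.sum_const,
    smul_eq_mul] at key
  rw [Nat.card_eq_fintype_card, Fintype.card_subtype]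
  exact key

end inv

/-- In a simple Zassenhaus group with odd two-point stabilizers all involutions are
conjugate. -/
theorem isConj_of_involutions [Finite G] [Fintype Ω] (hZ : Cfsg.IsZassenhausGroup G Ω)
    [IsSimpleGroup G] {a b : Ω} (hab : a ≠ b)
    (hodd : Odd (Nat.card ↥(stabilizer G a ⊓ stabilizer G b))) {x y : G} (hx : orderOf x = 2)
    (hy : orderOf y = 2) : IsConj x y := by
  have h2 := hZ.2.1
  have hfaith := hZ.1
  have hmove : ∀ t : G, orderOf t = 2 → ∃ c d : Ω, c ≠ d ∧ t • c = d ∧ t • d = c := by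
    intro t ht
    have htt : t * t = 1 := by
      rw [← pow_two, ← ht]; exact pow_orderOf_eq_one t
    have ht1 : t ≠ 1 := by
      rintro rfl
      rw [orderOf_one] at ht
      omega
    have : ∃ c : Ω, t • c ≠ c := by
      by_contra hcon
      push Not at hcon
      apply ht1
      apply hfaith.eq_of_smul_eq_smul
      intro c
      rw [hcon c, one_smul]
    obtain ⟨c, hc⟩ := this
    refine ⟨c, t • c, Ne.symm hc, rfl, ?_⟩
    rw [← mul_smul, htt, one_smul]
  obtain ⟨c, d, hcd, hxc, hxd⟩ := hmove x hx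
  obtain ⟨c', d', hcd', hyc, hyd⟩ := hmove y hy
  obtain ⟨g, hgc, hgd⟩ := exists_map2 h2 hcd hcd'
  -- `x' = g x g⁻¹` interchanges `c'` and `d'`
  have hx'c : (g * x * g⁻¹) • c' = d' := by
    rw [mul_smul, mul_smul, ← hgc, inv_smul_smul, hxc, hgd]
  have hx'd : (g * x * g⁻¹) • d' = c' := by
    rw [mul_smul, mul_smul, ← hgd, inv_smul_smul, hxd, hgc]
  have hxx' : IsConj x (g * x * g⁻¹) := isConj_iff.mpr ⟨g, rfl⟩
  refine hxx'.trans ?_
  -- `z = y⁻¹ x'` lies in the two-point stabilizer
  set z := y⁻¹ * (g * x * g⁻¹) with hz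
  have hy'c : y⁻¹ • d' = c' := by rw [inv_smul_eq_iff, hyc]
  have hy'd : y⁻¹ • c' = d' := by rw [inv_smul_eq_iff, hyd]
  have hzc : z • c' = c' := by rw [hz, mul_smul, hx'c, hy'c]
  have hzd : z • d' = d' := by rw [hz, mul_smul, hx'd, hy'd]
  -- `z` is a square in the stabilizer
  have hodd' : Odd (Nat.card ↥(stabilizer G c' ⊓ stabilizer G d')) := by
    rw [card_stab2_eq h2 hab hcd']; exact hodd
  obtain ⟨k, hk⟩ := hodd'
  have hze : z ^ (2 * k + 1) = 1 := by
    have h1 : orderOf z ∣ Nat.card ↥(stabilizer G c' ⊓ stabilizer G d') :=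
      Subgroup.orderOf_dvd_natCard _ (⟨hzc, hzd⟩ : z ∈ stabilizer G c' ⊓ stabilizer G d')
    rw [hk] at h1
    exact orderOf_dvd_iff_pow_eq_one.mp h1
  set w := z ^ (k + 1) with hw
  have hww : w * w = z := by
    rw [hw, ← pow_add, show k + 1 + (k + 1) = (2 * k + 1) + 1 by ring, pow_succ, hze, one_mul]
  have hwc : w • c' = c' := by
    have : w ∈ stabilizer G c' := Subgroup.pow_mem _ hzc _
    exact this
  have hwd : w • d' = d' := by
    have : w ∈ stabilizer G d' := Subgroup.pow_mem _ hzd _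
    exact this
  -- `y⁻¹` interchanges the points and hence inverts `w`
  have hinv := swap_inverts hZ hab hodd hcd' hy'd hy'c hwc hwd
  rw [inv_inv] at hinv
  -- so `w⁻¹ y w = y z = x'`
  rw [isConj_comm, isConj_iff]
  refine ⟨w⁻¹, ?_⟩
  rw [inv_inv]
  have : g * x * g⁻¹ = y * z := by rw [hz]; group
  rw [this, ← hww]
  calc w⁻¹ * y * w = y * (y⁻¹ * w * y)⁻¹ * w := by group
    _ = y * (w⁻¹)⁻¹ * w := by rw [hinv]
    _ = y * (w * w) := by group

end Cfsg.Agent.Helper15.Zass
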