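import Mathlib
import Cfsg.Agent.Helper15.ZassInv

set_option autoImplicit false

/-!
# The Frobenius kernel of a point stabilizer in a simple Zassenhaus group
-/

namespace Cfsg.Agent.Helper15.Zass

open MulAction
open Cfsg.Agent.Helper60.Zassenhaus

variable {G Ω : Type*} [Group G] [MulAction G Ω]

/-- The Frobenius kernel `H` of the point stabilizer contains every element fixing only `a`. -/
theorem mem_kernel_of_fix_only [Finite G] [Fintype Ω] (hZ : Cfsg.IsZassenhausGroup G Ω) (a : Ω)
    (H : Subgroup G) (hHa : H ≤ stabilizer G a) (hHcard : Nat.card H + 1 = Fintype.card Ω)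
    (hHfix : ∀ u ∈ H, u ≠ 1 → ∀ c : Ω, u • c = c → c = a) {g : G} (hga : g • a = a)
    (hg : ∀ c : Ω, g • c = c → c = a) : g ∈ H := by
  have hn := three_le_card hZ
  obtain ⟨-, h2, h3, -, -⟩ := hZ
  set X := stabilizer G a
  set Y := SubMulAction.ofStabilizer G a
  set Kset : Set X := {x : X | x = 1 ∨ ∀ y : Y, x • y ≠ y} with hKset
  set H' : Set X := {x : X | (x : G) ∈ H} with hH'
  have hsub : H' ⊆ Kset := by
    intro x hx
    by_cases hx1 : x = 1
    · exact Or.inl hx1
    · right
      intro y hy
      have hya : (y : Ω) ≠ a := SubMulAction.neq_of_mem_ofStabilizer G a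
      have hx1' : (x : G) ≠ 1 := fun h => hx1 (Subtype.ext h)
      exact hya (hHfix x hx hx1' y (congrArg Subtype.val hy))
  have hcardH' : Nat.card H' = Nat.card H := by
    apply Nat.card_congr
    exact {
      toFun := fun x => ⟨(x.1 : G), x.2⟩
      invFun := fun u => ⟨⟨u.1, hHa u.2⟩, u.2⟩
      left_inv := fun x => rfl
      right_inv := fun u => rfl }
  have hK := card_kernel_le h2 h3 (by omega) a
  have heq : H' = Kset := by
    apply Set.eq_of_subset_of_ncard_le hsub _ (Set.toFinite _)
    rw [← Nat.card_coe_set_eq, ← Nat.card_coe_set_eq, hcardH']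
    have : Nat.card Kset + 1 ≤ Fintype.card Ω := hK
    omega
  have hgK : (⟨g, hga⟩ : X) ∈ Kset := by
    right
    intro y hy
    have hya : (y : Ω) ≠ a := SubMulAction.neq_of_mem_ofStabilizer G a
    exact hya (hg y (congrArg Subtype.val hy))
  rw [← heq] at hgK
  exact hgK

/-- In a simple Zassenhaus group of odd degree with odd two-point stabilizers, an involution
fixing `a` commutes with every element of the Frobenius kernel `H` of the stabilizer of `a`. -/
theorem commute_kernel_of_involution [Finite G] [Fintype Ω] (hZ : Cfsg.IsZassenhausGroup G Ω)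
    [IsSimpleGroup G] {a b : Ω} (hab : a ≠ b)
    (hodd : Odd (Nat.card ↥(stabilizer G a ⊓ stabilizer G b)))
    (H : Subgroup G) (hHa : H ≤ stabilizer G a) (hHcard : Nat.card H + 1 = Fintype.card Ω)
    (hHfix : ∀ u ∈ H, u ≠ 1 → ∀ c : Ω, u • c = c → c = a) {x : G} (hx : orderOf x = 2)
    (hxa : x • a = a) {u : G} (hu : u ∈ H) : u * x = x * u := by
  classical
  have := Fintype.ofFinite G
  have hn := three_le_card hZ
  have h2 := hZ.2.1
  have h3 := hZ.2.2.1
  have hxx : x * x = 1 := by
    rw [← pow_two, ← hx]; exact pow_orderOf_eq_one x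
  have hx1 : x ≠ 1 := by
    rintro rfl
    rw [orderOf_one] at hx
    omega
  -- `x` fixes only `a`
  have hxfix : ∀ c : Ω, x • c = c → c = a := by
    intro c hc
    by_contra hca
    exact hx1 (eq_one_of_sq_of_fix h2 hab hodd hca hc hxa hxx)
  -- the degree is odd
  have hnodd : Fintype.card Ω % 2 = 1 := by
    have h1 := fx_involution (Ω := Ω) h2 hab hodd hx
    have h4 : 0 < fx (Ω := Ω) x := by
      rw [Nat.pos_iff_ne_zero, Ne, fx_eq_zero_iff]
      push Not
      exact ⟨a, hxa⟩
    have : Fintype.card Ω % 2 < 2 := Nat.mod_lt _ (by norm_num)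
    omega
  -- the number of involutions
  have hcount := card_involutions_mul hZ hab hodd
  have hG := card_group_eq h2 hab
  obtain ⟨m, hm⟩ : ∃ m, Fintype.card Ω = m + 3 := ⟨Fintype.card Ω - 3, by omega⟩
  have e1 : (m + 3) * (m + 3) - (m + 3) = (m + 3) * (m + 2) := by
    rw [Nat.sub_eq_iff_eq_add (Nat.le_mul_self _)]; ring
  rw [hnodd, hm, e1, show m + 3 - 1 = m + 2 by omega] at hcount
  rw [hm, e1] at hG
  set e := Nat.card ↥(stabilizer G a ⊓ stabilizer G b) with he
  have hI : Nat.card {g : G // orderOf g = 2} = (m + 3) * e := by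
    apply Nat.eq_of_mul_eq_mul_right (show 0 < m + 2 by omega)
    rw [hcount]; ring
  -- the centralizer of `x` has order `n - 1`
  have horb : ∀ g : G, g ∈ orbit (ConjAct G) x ↔ orderOf g = 2 := by
    intro g
    rw [ConjAct.mem_orbit_conjAct]
    constructor
    · intro h
      rw [isConj_comm, isConj_iff] at h
      obtain ⟨k, hk⟩ := h
      rw [← hk]
      have : k * x * k⁻¹ = MulAut.conj k x := rfl
      rw [this, MulEquiv.orderOf_eq]
      exact hx
    · intro h
      exact isConj_of_involutions hZ hab hodd h hx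
  have hcard : Nat.card {g : G // orderOf g = 2} = (orbit (ConjAct G) x).ncard := by
    rw [← Nat.card_coe_set_eq]
    apply Nat.card_congr
    exact (Equiv.subtypeEquivRight (fun g => (horb g))).symm
  have hos := Subgroup.card_mul_index (stabilizer (ConjAct G) x)
  rw [index_stabilizer, ← hcard, hI] at hos
  have hGc : Nat.card (ConjAct G) = Nat.card G := rfl
  rw [hGc, hG] at hos
  have hepos : 0 < e := Nat.card_pos
  have hcc : Nat.card ↥(stabilizer (ConjAct G) x) = m + 2 := by
    apply Nat.eq_of_mul_eq_mul_right (Nat.mul_pos (show 0 < m + 3 by omega) hepos)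
    rw [hos]; ring
  -- the centralizer is contained in `H`
  have hcent : ∀ g : G, g * x = x * g → g ∈ H := by
    intro g hgx
    by_cases hg1 : g = 1
    · rw [hg1]; exact H.one_mem
    have hga : g • a = a := by
      apply hxfix
      rw [← mul_smul, ← hgx, mul_smul, hxa]
    apply mem_kernel_of_fix_only hZ a H hHa hHcard hHfix hga
    intro c hc
    by_contra hca
    have hxc : g • (x • c) = x • c := by
      rw [← mul_smul, hgx, mul_smul, hc]
    have hne1 : x • c ≠ c := fun h => hca (hxfix c h)
    have hne2 : x • c ≠ a := by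
      intro h
      apply hca
      have : x • c = x • a := by rw [h, hxa]
      exact MulAction.injective x this
    exact hg1 (h3 g a c (x • c) (Ne.symm hca) (Ne.symm hne1) (Ne.symm hne2) hga hc hxc)
  -- compare cardinalities
  have hmem : ∀ g : ↥(stabilizer (ConjAct G) x), ConjAct.ofConjAct (g : ConjAct G) ∈ H := by
    intro g
    apply hcent
    have h1 : (g : ConjAct G) • x = x := g.2
    rw [ConjAct.smul_def] at h1
    calc ConjAct.ofConjAct (g : ConjAct G) * x
        = (ConjAct.ofConjAct (g : ConjAct G) * x * (ConjAct.ofConjAct (g : ConjAct G))⁻¹) *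
            ConjAct.ofConjAct (g : ConjAct G) := by group
      _ = x * ConjAct.ofConjAct (g : ConjAct G) := by rw [h1]
  let f : ↥(stabilizer (ConjAct G) x) → H := fun g => ⟨ConjAct.ofConjAct (g : ConjAct G), hmem g⟩
  have hinj : Function.Injective f := by
    intro g g' h
    apply Subtype.ext
    have : ConjAct.ofConjAct (g : ConjAct G) = ConjAct.ofConjAct (g' : ConjAct G) :=
      congrArg (fun z : H => (z : G)) h
    exact ConjAct.ofConjAct.injective this
  have hle : Nat.card H ≤ Nat.card ↥(stabilizer (ConjAct G) x) := by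
    rw [hcc]; omega
  obtain ⟨g, hg⟩ := (hinj.bijective_of_nat_card_le hle).2 ⟨u, hu⟩
  have hgu : ConjAct.ofConjAct (g : ConjAct G) = u := congrArg Subtype.val hg
  have h1 : (g : ConjAct G) • x = x := g.2
  rw [ConjAct.smul_def, hgu] at h1
  calc u * x = (u * x * u⁻¹) * u := by group
    _ = x * u := by rw [h1]

end Cfsg.Agent.Helper15.Zass
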